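import Mathlib
import Cfsg.Agent.Std.TwoC
import Cfsg.Agent.Lyons.Tools
import Cfsg.Agent.Gold.IntOdd
import Cfsg.Agent.Solv.Frobenius
import Cfsg.Agent.Solv.FpfThompson

/-! O'Nan's `(H, K, L)` configurations: `L` acts on `H`, every non-identity element of `L` has
centralizer `K` in `H`, `K` is conjugate to `L`; `H` is minimal. -/

set_option autoImplicit false
set_option linter.unusedSectionVars false

namespace Cfsg.Agent.TwoTr.TI

open Cfsg Subgroup Cfsg.Agent.PLocal Cfsg.Agent.PLocal.Amb Cfsg.Agent.Trm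
open Cfsg.Agent.Lyons (oc)
open scoped commutatorElement

universe u

variable {G : Type u} [Group G] [Finite G]

/-- the configuration -/
structure Cf (H K L : Subgroup G) : Prop where
  le : K ≤ H
  norm : L ≤ 𝐍[H]
  disj : ∀ a ∈ L, a ∈ H → a = 1
  cent : ∀ k ∈ K, ∀ a ∈ L, k * a = a * k
  fix : ∀ a ∈ L, a ≠ 1 → ∀ h ∈ H, h * a = a * h → h ∈ K
  conj : ∃ t, cj(t, K) = L
  ne : ¬ H ≤ K
  neK : K ≠ ⊥
  min : ∀ M ≤ H, M ≠ H → 𝐍[H] ≤ 𝐍[M] → ∀ k ∈ K, k ∈ M → k = 1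

theorem mem_cz {x y : G} : y ∈ centralizer ({x} : Set G) ↔ y * x = x * y :=
  mem_centralizer_singleton_iff

theorem norm_of_forall {M N : Subgroup G} (h : ∀ g ∈ N, ∀ m ∈ M, g * m * g⁻¹ ∈ M) : N ≤ 𝐍[M] :=
  le_normalizer_iff_cj.2 fun g hg => cj_le_iff_forall.2 (h g hg)

/-- If `m`, `c` are central in a Sylow `2`-subgroup and `p` centralizes `c`, then `p` does not map
`m` to `m c`. -/
theorem lam {S Y : Subgroup G} (hS : IsSyl 2 S Y) {m c p : G} (hm : m ∈ 𝐂[S]) (hc : c ∈ 𝐂[S])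
    (c2 : c * c = 1) (hp : p ∈ Y) (hpc : p * c = c * p)
    (e : p * m * p⁻¹ = m * c) : c = 1 := by
  have ci : c⁻¹ = c := inv_eq_of_mul_eq_one_right c2
  let Λ : Subgroup G :=
    { carrier := {y | y * c = c * y ∧ (y * m * y⁻¹ = m ∨ y * m * y⁻¹ = m * c)}
      one_mem' := by simp
      mul_mem' := by
        rintro a b ⟨ha, ha'⟩ ⟨hb, hb'⟩
        have ea : a * c * a⁻¹ = c := by rw [ha]; group
        refine ⟨by rw [mul_assoc, hb, ← mul_assoc, ha, mul_assoc], ?_⟩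
        have e1 : a * b * m * (a * b)⁻¹ = a * (b * m * b⁻¹) * a⁻¹ := by group
        have e2 : a * (m * c) * a⁻¹ = a * m * a⁻¹ * (a * c * a⁻¹) := by group
        rw [e1]
        rcases hb' with h | h <;> rw [h]
        · exact ha'
        · rw [e2, ea]
          rcases ha' with h' | h' <;> rw [h']
          · exact Or.inr rfl
          · exact Or.inl (by rw [mul_assoc, c2, mul_one])
      inv_mem' := by
        rintro a ⟨ha, ha'⟩
        have ea : a⁻¹ * c * a = c := by rw [mul_assoc, ← ha]; group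
        refine ⟨(Commute.inv_left (show Commute a c from ha)).eq, ?_⟩
        rcases ha' with h | h
        · left; rw [inv_inv]; conv_lhs => rw [← h]
          group
        · right
          have : m = a⁻¹ * m * a * (a⁻¹ * c * a) := by
            calc m = a⁻¹ * (a * m * a⁻¹) * a := by group
              _ = _ := by rw [h]; group
          rw [ea] at this
          rw [inv_inv]
          conv_rhs => rw [this]
          rw [mul_assoc _ c c, c2, mul_one] }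
  have hSΛ : S ≤ Λ := fun s hs => ⟨(cent_comm hc hs).symm, Or.inl (conj_cent hm hs)⟩
  have h1 : IsSyl 2 S (Y ⊓ Λ) := hS.mono (le_inf hS.le hSΛ) inf_le_left
  have h2 : p ∈ (Y ⊓ Λ) ⊓ centralizer {m} := by
    refine Lyons.mem_of_pow_mem h1 (le_inf h1.le fun s hs => mem_cz.2 (cent_comm hm hs).symm)
      (norm_of_forall fun g hg x hx => ⟨(Y ⊓ Λ).mul_mem ((Y ⊓ Λ).mul_mem hg hx.1) ((Y ⊓ Λ).inv_mem hg),
        mem_cz.2 ?_⟩)
      (g := p) ⟨hp, hpc, Or.inr e⟩ (k := 1) ⟨pow_mem (show p ∈ Y ⊓ Λ from ⟨hp, hpc, Or.inr e⟩) _,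
        mem_cz.2 ?_⟩
    · have hx2 := mem_cz.1 hx.2
      have hi := (inv_mem hg.2 : g⁻¹ ∈ Λ).2
      have hxc : x * c = c * x := hx.1.2.1
      rw [inv_inv] at hi
      have : x * (g⁻¹ * m * g) = g⁻¹ * m * g * x := by
        rcases hi with h | h <;> rw [h]
        · exact hx2
        · rw [← mul_assoc, hx2, mul_assoc, hxc, mul_assoc]
      calc g * x * g⁻¹ * m = g * (x * (g⁻¹ * m * g)) * g⁻¹ := by group
        _ = _ := by rw [this]; group
    · have : p * c * p⁻¹ = c := by rw [hpc]; group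
      rw [← mul_inv_eq_iff_eq_mul]
      calc p ^ 2 ^ 1 * m * (p ^ 2 ^ 1)⁻¹ = p * (p * m * p⁻¹) * p⁻¹ := by
            simp only [pow_one, pow_two]; group
        _ = p * (m * c) * p⁻¹ := by rw [e]
        _ = p * m * p⁻¹ * (p * c * p⁻¹) := by group
        _ = m := by rw [e, this, mul_assoc, c2, mul_one]
  have := mem_cz.1 h2.2
  rw [this, mul_inv_cancel_right] at e
  exact (mul_eq_left.1 e.symm)

/-- conjugating a `2`-subgroup centralizing a conjugate of a `2`-central element -/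
theorem exists_cj_cent {S Y W : Subgroup G} (hS : IsSyl 2 S Y) {z g : G} (hz : z ∈ 𝐂[S])
    (hg : g ∈ Y) (hW : IsPGroup 2 W) (hWY : W ≤ Y) (hc : W ≤ centralizer {g * z * g⁻¹}) :
    ∃ g' ∈ Y, g' * z * g'⁻¹ = g * z * g⁻¹ ∧ W ≤ cj(g', S) := by
  have h1 : IsSyl 2 cj(g, S) (Y ⊓ centralizer {g * z * g⁻¹}) := by
    refine (hS.cj_of_mem hg).mono (le_inf (hS.cj_of_mem hg).le ?_) inf_le_left
    rw [centralizer_singleton_conj]
    exact cj_mono g fun s hs => mem_cz.2 (cent_comm hz hs).symm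
  obtain ⟨c, hc', h⟩ := h1.exists_le_cj hW (le_inf hWY hc)
  refine ⟨c * g, mul_mem hc'.1 hg, ?_, by rwa [cj_mul]⟩
  calc c * g * z * (c * g)⁻¹ = c * (g * z * g⁻¹) * c⁻¹ := by group
    _ = _ := by rw [mem_cz.1 hc'.2]; group

namespace Cf

variable {H K L : Subgroup G} (h : Cf H K L)
include h

theorem card_eq : Nat.card K = Nat.card L := by
  obtain ⟨t, rfl⟩ := h.conj
  exact (card_cj _ _).symm

theorem neL : L ≠ ⊥ := by
  obtain ⟨t, rfl⟩ := h.conj
  exact fun e => h.neK (cj_eq_bot.1 e)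

theorem neH : H ≠ ⊥ := fun e => h.ne (e ▸ bot_le)

theorem cent_le : K ≤ 𝐂[L] := fun k hk => mem_cent.2 fun a ha => (h.cent k hk a ha).symm

theorem eq_of_mem {a b : G} (ha : a ∈ L) (hb : b ∈ L) (e : a * b⁻¹ ∈ H) : a = b :=
  mul_inv_eq_one.1 (h.disj _ (mul_mem ha (inv_mem hb)) e)

theorem fpf {M : Subgroup G} (h1 : M ≤ H) (h2 : M ≠ H) (h3 : 𝐍[H] ≤ 𝐍[M]) :
    ∀ a ∈ L, a ≠ 1 → M ⊓ centralizer {a} = ⊥ := fun a ha a1 => eq_bot_iff.2 fun m hm =>
  h.min M h1 h2 h3 m (h.fix a ha a1 m (h1 hm.1) (mem_cz.1 hm.2)) hm.1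

theorem nilp {M : Subgroup G} (h1 : M ≤ H) (h2 : M ≠ H) (h3 : 𝐍[H] ≤ 𝐍[M]) :
    Group.IsNilpotent M :=
  Solv.isNilpotent_of_fpf_subgroup M L (h.norm.trans h3) h.neL (h.fpf h1 h2 h3)

theorem coprime {M : Subgroup G} (h1 : M ≤ H) (h2 : M ≠ H) (h3 : 𝐍[H] ≤ 𝐍[M]) :
    (Nat.card L).Coprime (Nat.card M) :=
  Solv.Frob.coprime_card_of_fpf (h.norm.trans h3) (h.fpf h1 h2 h3)

theorem four (h4 : Four K) : Four L := by
  obtain ⟨t, rfl⟩ := h.conj
  obtain ⟨a, ha, b, hb, ia, ib, hab, e⟩ := h4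
  exact ⟨_, conj_mem_cj t ha, _, conj_mem_cj t hb, ia.conj t, ib.conj t, by simpa using hab, by
    simp only [conj_mul, e]⟩

theorem syl_card {p : ℕ} [Fact p.Prime] {T R : Subgroup G} (hT : IsSyl p T K) (hR : IsSyl p R L) :
    Nat.card T = Nat.card R := by
  rw [hT.card_eq_pow, hR.card_eq_pow, h.card_eq]

/-- an odd order subgroup of `H` normalized by a four-group of `L` lies in `K` -/
theorem odd_le {A W : Subgroup G} (hA : A ≤ L) (h4 : Four A) (hW : W ≤ H) (hn : A ≤ 𝐍[W])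
    (ho : Odd (Nat.card W)) : W ≤ K := by
  obtain ⟨a, ha, b, hb, ia, ib, hab, e⟩ := h4
  have key : ∀ x ∈ A, x ≠ 1 → W ⊓ centralizer {x} ≤ K := fun x hx x1 w hw =>
    h.fix x (hA hx) x1 w (hW hw.1) (mem_cz.1 hw.2)
  refine Gold.Int.le_of_four ho (hn ha) (hn hb) (ia.2 ▸ one_mem _) (ib.2 ▸ one_mem _)
    (by rw [e]; simp) (key a ha ia.1) (key b hb ib.1) (key _ (mul_mem ha hb) fun e' => hab ?_)
  rw [← ib.inv_eq]; exact eq_inv_of_mul_eq_one_left e'

end Cf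

/-- the perfect case with `K` of even order -/
structure CE (H K L : Subgroup G) : Prop extends Cf H K L where
  perf : ⁅H, H⁆ = H
  ev : ∃ u ∈ K, Iv u

namespace CE

variable {H K L : Subgroup G} (h : CE H K L)
include h

theorem evL : ∃ f ∈ L, Iv f := by
  obtain ⟨t, e⟩ := h.conj
  obtain ⟨u, hu, iu⟩ := h.ev
  exact ⟨_, e ▸ conj_mem_cj t hu, iu.conj t⟩

theorem eq_of_iv {M : Subgroup G} (h1 : M ≤ H) (h3 : 𝐍[H] ≤ 𝐍[M]) {u : G} (hu : u ∈ M)
    (iu : Iv u) : M = H := by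
  by_contra h2
  obtain ⟨f, hf, jf⟩ := h.evL
  obtain ⟨v, hv, iv, hc⟩ := exists_iv_cent' jf.p2.pgrp
    ((zpowers_le.2 hf).trans (h.norm.trans h3)) hu iu
  have : v ∈ M ⊓ centralizer {f} := ⟨hv, mem_cz.2 (cent_comm hc (mem_zpowers f))⟩
  rw [h.fpf h1 h2 h3 f hf jf.1] at this
  exact iv.1 this

theorem not_odd (ho : Odd (Nat.card H)) : False := by
  obtain ⟨u, hu, iu⟩ := h.ev
  have := Lyons.odd_orderOf ho (h.le hu)
  rw [iu.ord] at this
  exact absurd this (by decide)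

/-- no involution of `H` is isolated -/
theorem iso_false {P : Subgroup G} (hP : IsSyl 2 P H) {u : G} (hu : u ∈ P) (iu : Iv u)
    (hi : ∀ g ∈ H, g * u * g⁻¹ ∈ P → g * u * g⁻¹ = u) : False := by
  have hO := Lyons.le_norm_oc H
  let Z : Subgroup G :=
    { carrier := {z | z ∈ H ∧ ∀ g ∈ H, g * z * g⁻¹ * z⁻¹ ∈ oc H}
      one_mem' := ⟨one_mem _, fun g _ => by simp⟩
      mul_mem' := by
        rintro a b ⟨ha, ha'⟩ ⟨hb, hb'⟩
        refine ⟨mul_mem ha hb, fun g hg => ?_⟩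
        have := mul_mem (ha' g hg) (conj_mem_of_mem_normalizer (hO ha) (hb' g hg))
        convert this using 1; group
      inv_mem' := by
        rintro a ⟨ha, ha'⟩
        refine ⟨inv_mem ha, fun g hg => ?_⟩
        have := inv_conj_mem_of_mem_normalizer (hO ha) (inv_mem (ha' g hg))
        convert this using 1; group }
  have hZ : Z = H := by
    refine h.eq_of_iv (fun z hz => hz.1) (norm_of_forall fun n hn z hz =>
      ⟨conj_mem_of_mem_normalizer hn hz.1, fun g hg => ?_⟩) (u := u) ⟨hP.le hu, fun g hg => ?_⟩ iu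
    · have := conj_mem_of_mem_normalizer (Lyons.norm_le_norm_oc H hn)
        (hz.2 _ (inv_conj_mem_of_mem_normalizer hn hg))
      convert this using 1; group
    · obtain ⟨o, ho, c, hc, rfl⟩ := Lyons.zstar hP hu hi hg
      have := mul_mem ho (conj_mem_of_mem_normalizer (hO (hP.le hu)) (inv_mem ho))
      convert this using 1
      calc o * c * u * (o * c)⁻¹ * u⁻¹ = o * (c * u) * c⁻¹ * o⁻¹ * u⁻¹ := by group
        _ = _ := by rw [mem_cz.1 hc.2]; group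
  refine h.not_odd (Lyons.odd_of_le ?_ (Lyons.odd_oc H))
  refine h.perf.ge.trans (commutator_le.2 fun a ha b hb => ?_)
  exact (hZ.ge hb).2 a ha

theorem four_of_syl {P : Subgroup G} (hP : IsSyl 2 P H) : Four P := by
  obtain ⟨u, hu, iu⟩ := h.ev
  obtain ⟨g, hg, e⟩ := hP.exists_cj_le iu.p2.pgrp (zpowers_le.2 (h.le hu))
  obtain ⟨z, hz, iz, hc⟩ := exists_iv_cent' hP.pgrp le_normalizer
    (e (conj_mem_cj g (mem_zpowers u))) (iu.conj g)
  by_contra h4
  refine h.iso_false hP hz iz fun g hg hm => ?_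
  by_contra hne
  exact h4 ⟨_, hm, z, hz, iz.conj g, iz, hne, (cent_comm hc hm).symm⟩

theorem oc_eq (h4 : Four L) : oc H = ⊥ := by
  have hne : oc H ≠ H := fun e => h.not_odd (e ▸ Lyons.odd_oc H)
  exact eq_bot_iff.2 fun w hw => h.min _ (Lyons.oc_le H) hne (Lyons.norm_le_norm_oc H) w
    (h.odd_le le_rfl h4 (Lyons.oc_le H) (h.norm.trans (Lyons.norm_le_norm_oc H)) (Lyons.odd_oc H) hw)
    hw

theorem eq_bot (h4 : Four L) {M : Subgroup G} (h1 : M ≤ H) (h2 : M ≠ H) (h3 : 𝐍[H] ≤ 𝐍[M]) :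
    M = ⊥ := by
  refine eq_bot_iff.2 (h.oc_eq h4 ▸ Lyons.le_oc h1 (le_normalizer.trans h3) ?_)
  by_contra ho
  obtain ⟨u, hu⟩ := exists_prime_orderOf_dvd_card' (G := M) 2
    (even_iff_two_dvd.1 (Nat.not_odd_iff_even.1 ho))
  exact h2 (h.eq_of_iv h1 h3 u.2 (iv_iff.2 (by rw [← hu]; simp)))

theorem oc_sup (h4 : Four L) {A : Subgroup G} (hA : IsPGroup 2 A) (hAL : A ≤ L) :
    oc (H ⊔ A) = ⊥ := by
  refine eq_bot_iff.2 (h.oc_eq h4 ▸ Lyons.le_oc (fun w hw => ?_)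
    (le_sup_left.trans (Lyons.le_norm_oc _)) (Lyons.odd_oc _))
  refine pRes_sup_le hA (hAL.trans h.norm) (mem_pRes (Lyons.oc_le _ hw) ?_)
  exact (Nat.coprime_two_right).2 (Lyons.odd_orderOf (Lyons.odd_oc _) hw)

/-- an isolated element of `H A` centralizes `H` -/
theorem comm_of_iso (h4 : Four L) {A S : Subgroup G} (hA : IsPGroup 2 A) (hAL : A ≤ L)
    (hS : IsSyl 2 S (H ⊔ A)) {d : G} (hd : d ∈ S)
    (hi : ∀ g ∈ H ⊔ A, g * d * g⁻¹ ∈ S → g * d * g⁻¹ = d) {g : G} (hg : g ∈ H) :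
    g * d = d * g := by
  obtain ⟨o, ho, c, hc, rfl⟩ := Lyons.zstar hS hd hi (mem_sup_left hg)
  rw [h.oc_sup h4 hA hAL, mem_bot] at ho
  rw [ho, one_mul]
  exact mem_cz.1 hc.2

end CE

end Cfsg.Agent.TwoTr.TI
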