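import Mathlib
import Cfsg.Agent.TwoTr.TICf
import Cfsg.Agent.Std.TwoK
import Cfsg.Agent.FGS.PiFusion

/-! O'Nan configurations in which `K` contains a Sylow `2`-subgroup of `H`. -/

set_option autoImplicit false
set_option linter.unusedSectionVars false

namespace Cfsg.Agent.TwoTr.TI

open Cfsg Subgroup Cfsg.Agent.PLocal Cfsg.Agent.PLocal.Amb Cfsg.Agent.Trm
open Cfsg.Agent.Lyons (oc)
open scoped commutatorElement

universe u

variable {G : Type u} [Group G] [Finite G]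

theorem comm_cj {T : Subgroup G} (h : ∀ a ∈ T, ∀ b ∈ T, a * b = b * a) (g : G) :
    ∀ a ∈ cj(g, T), ∀ b ∈ cj(g, T), a * b = b * a := by
  intro a ha b hb
  obtain ⟨x, hx, rfl⟩ := mem_cj_iff_exists.1 ha
  obtain ⟨y, hy, rfl⟩ := mem_cj_iff_exists.1 hb
  simp only [conj_mul, h x hx y hy]

namespace Cf

variable {H K L : Subgroup G} (h : Cf H K L)
include h

theorem le_norm {T A : Subgroup G} (hT : T ≤ K) (hA : A ≤ L) : A ≤ 𝐍[T] :=
  norm_of_forall fun a ha t ht => by rwa [← h.cent t (hT ht) a (hA ha), mul_inv_cancel_right]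

theorem dec {A : Subgroup G} (hA : A ≤ L) {g : G} (hg : g ∈ H ⊔ A) :
    ∃ b ∈ H, ∃ a ∈ A, g = b * a := (mem_sup_of_le_normalizer_left (hA.trans h.norm)).1 hg

end Cf

namespace CE

variable {H K L : Subgroup G} (h : CE H K L)
include h

theorem syl_comm {T : Subgroup G} (hT : IsSyl 2 T H) (hTK : T ≤ K) :
    ∀ a ∈ T, ∀ b ∈ T, a * b = b * a := by
  have h4 : Four L := by
    obtain ⟨a, ha, b, hb, r⟩ := h.four_of_syl hT
    exact h.four ⟨a, hTK ha, b, hTK hb, r⟩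
  obtain ⟨R, hR⟩ := exists_isSyl 2 L
  have hRT := h.le_norm hTK hR.le
  have hS := isSyl_sup hT hR.pgrp (hR.le.trans h.norm) hRT
  obtain ⟨a₀, ha₀, -, -, ia₀, -⟩ := h4.syl hR
  obtain ⟨f, hf, jf, hfc⟩ := exists_iv_cent' hR.pgrp le_normalizer ha₀ ia₀
  have hfS : f ∈ 𝐂[T ⊔ R] := by
    rw [Amb.centralizer_sup]
    exact ⟨mem_cent.2 fun t ht => h.cent t (hTK ht) f (hR.le hf), hfc⟩
  have cjf : ∀ b r, r ∈ R → b * r * f * (b * r)⁻¹ = b * f * b⁻¹ := fun b r hr => by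
    rw [mul_assoc b r f, ← cent_comm hfc hr]; group
  obtain ⟨g, hg, hgS, hne⟩ : ∃ g ∈ H ⊔ R, g * f * g⁻¹ ∈ T ⊔ R ∧ g * f * g⁻¹ ≠ f := by
    by_contra hc
    push Not at hc
    exact h.ne fun g hg => h.fix f (hR.le hf) jf.1 g hg
      (h.comm_of_iso h4 hR.pgrp hR.le hS (mem_sup_right hf) hc hg)
  have hRc : R ≤ centralizer {g * f * g⁻¹} := fun r hr => by
    obtain ⟨b, hb, r', hr', rfl⟩ := h.dec hR.le hg
    rw [cjf b r' hr'] at hgS ⊢
    have hu : ph b f ∈ T := sup_inf_eq hT hR.pgrp hRT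
      (mul_mem (inv_mem (mem_sup_right hf)) hgS) (ph_mem_left hb (h.norm (hR.le hf)))
    rw [mem_cz, conj_eq_ph, ← mul_assoc, ← cent_comm hfc hr, mul_assoc, mul_assoc,
      h.cent _ (hTK hu) r (hR.le hr)]
  obtain ⟨g', hg', e, hle⟩ := exists_cj_cent hS hfS hg hR.pgrp le_sup_right hRc
  obtain ⟨b, hb, r', hr', rfl⟩ := h.dec hR.le hg'
  rw [cjf b r' hr'] at e
  rw [cj_mul, cj_of_mem (mem_sup_right hr')] at hle
  have hbK : b ∉ K := fun hk => hne (by rw [← e, h.cent b hk f (hR.le hf), mul_inv_cancel_right])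
  have hψ : ∀ r ∈ R, b⁻¹ * r * b * r⁻¹ ∈ T := fun r hr => by
    refine sup_inf_eq hT hR.pgrp hRT (mul_mem (mem_cj.1 (hle hr)) (inv_mem (mem_sup_right hr))) ?_
    have := mul_mem (inv_mem hb) (conj_mem_of_mem_normalizer (h.norm (hR.le hr)) hb)
    convert this using 1; group
  have hsurj : ∀ t ∈ T, ∃ r ∈ R, b⁻¹ * r * b * r⁻¹ = t := fun t ht =>
    surj_of_inj (fun r => b⁻¹ * r * b * r⁻¹) hψ (fun r hr s hs e => by
      by_contra hrs
      refine hbK (h.fix (s⁻¹ * r) (hR.le (mul_mem (inv_mem hs) hr))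
        (fun e' => hrs (inv_mul_eq_one.1 e').symm) b hb ?_)
      have e' : b⁻¹ * r * b * r⁻¹ = b⁻¹ * s * b * s⁻¹ := e
      calc b * (s⁻¹ * r) = s⁻¹ * b * (b⁻¹ * s * b * s⁻¹) * r := by group
        _ = _ := by rw [← e']; group) (h.syl_card (hT.mono hTK h.le) hR).le ht
  have cT : ∀ t ∈ T, ∀ r ∈ R, t * r = r * t := fun t ht r hr => h.cent t (hTK ht) r (hR.le hr)
  have key : ∀ t ∈ T, ∀ s ∈ R, (t * (b⁻¹ * s * b) = b⁻¹ * s * b * t ↔
      t * (b⁻¹ * s * b * s⁻¹) = b⁻¹ * s * b * s⁻¹ * t) := fun t ht s hs => by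
    rw [mul_assoc _ s⁻¹ t, ← cT t ht _ (inv_mem hs), ← mul_assoc t _ s⁻¹, ← mul_assoc _ t s⁻¹,
      mul_left_inj]
  have hK : ∀ t ∈ T, b * t * b⁻¹ ∈ K := fun t ht => by
    refine h.fix f (hR.le hf) jf.1 _ (conj_mem_of_mem_normalizer (le_normalizer hb) (hT.le ht)) ?_
    have : t * (b⁻¹ * f * b) = b⁻¹ * f * b * t := by
      rw [key t ht f hf]
      obtain ⟨r, hr, rfl⟩ := hsurj t ht
      have e1 : b⁻¹ * r * b * (b⁻¹ * f * b) = b⁻¹ * f * b * (b⁻¹ * r * b) := by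
        calc _ = b⁻¹ * (r * f) * b := by group
          _ = _ := by rw [← cent_comm hfc hr]; group
      have e2 := cT _ (hψ f hf) r hr
      have e3 := cT _ (hψ r hr) f hf
      set x := b⁻¹ * r * b * r⁻¹
      set y := b⁻¹ * f * b * f⁻¹
      have ex : b⁻¹ * r * b = x * r := by simp [x]
      have ey : b⁻¹ * f * b = y * f := by simp [y]
      rw [ex, ey] at e1
      apply mul_right_cancel (b := r * f)
      calc x * y * (r * f) = x * (y * r) * f := by group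
        _ = y * f * (x * r) := by rw [e2, ← e1]; group
        _ = y * (f * x) * r := by group
        _ = _ := by rw [← e3, ← cent_comm hfc hr]; group
    calc b * t * b⁻¹ * f = b * (t * (b⁻¹ * f * b)) * b⁻¹ := by group
      _ = _ := by rw [this]; group
  intro t ht t' ht'
  obtain ⟨s, hs, rfl⟩ := hsurj t' ht'
  rw [← key t ht s hs]
  calc t * (b⁻¹ * s * b) = b⁻¹ * (b * t * b⁻¹ * s) * b := by group
    _ = _ := by rw [h.cent _ (hK t ht) s (hR.le hs)]; group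

theorem typeA {T : Subgroup G} (hT : IsSyl 2 T H) (hTK : T ≤ K) {f : G} (hf : f ∈ L) (jf : Iv f) :
    ∃ u ∈ T, u * u = 1 ∧ ∀ g ∈ H, g * (f * u) = f * u * g := by
  have hTc := h.syl_comm hT hTK
  have h4 : Four L := by
    obtain ⟨a, ha, b, hb, r⟩ := h.four_of_syl hT
    exact h.four ⟨a, hTK ha, b, hTK hb, r⟩
  obtain ⟨R, hR, hfR⟩ := exists_isSyl_ge jf.p2.pgrp (zpowers_le.2 hf)
  replace hfR : f ∈ R := hfR (mem_zpowers f)
  have hRc : ∀ a ∈ R, ∀ b ∈ R, a * b = b * a := by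
    obtain ⟨t, e⟩ := h.conj
    obtain ⟨g, -, e'⟩ := hR.exists_cj_eq (e ▸ (hT.mono hTK h.le).cj t)
    exact e' ▸ comm_cj (comm_cj hTc t) g
  have hRT := h.le_norm hTK hR.le
  have hS := isSyl_sup hT hR.pgrp (hR.le.trans h.norm) hRT
  have hTC : T ≤ 𝐂[T] := fun a ha => mem_cent.2 fun b hb => hTc b hb a ha
  have hCK : H ⊓ 𝐂[T] ≤ K := fun g hg => by
    obtain ⟨o, ho, t, ht, rfl⟩ := Lyons.burn (hT.mono (le_inf hT.le hTC) inf_le_left)
      (inf_le_left.trans inf_le_right) hg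
    refine mul_mem (h.odd_le hR.le (h4.syl hR) ((Lyons.oc_le _).trans inf_le_left) ?_
      (Lyons.odd_oc _) ho) (hTK ht)
    exact (le_normalizer_inf (hR.le.trans h.norm) (le_normalizer_centralizer hRT)).trans
      (Lyons.norm_le_norm_oc _)
  have hfT : f ∈ 𝐂[T] := mem_cent.2 fun t ht => h.cent t (hTK ht) f hf
  let Ω := omg T fun r hr _ s hs _ => hTc r hr s hs
  have hΩ : ∀ n ∈ H ⊓ 𝐍[T], ph n f ∈ Ω := fun n hn => by
    have h1 : ph n f ∈ H ⊓ 𝐂[T] := ⟨ph_mem_left hn.1 (h.norm hf),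
      (𝐂[T]).mul_mem (inv_mem hfT) (conj_mem_cent hn.2 hfT)⟩
    have h2 : ph n f * ph n f = 1 := by
      have := (jf.conj n).2
      rw [conj_eq_ph, mul_assoc, ← mul_assoc (ph n f), h.cent _ (hCK h1) f hf, mul_assoc,
        ← mul_assoc f f, jf.2, one_mul] at this
      exact this
    exact ⟨mem_syl_of_norm hT h1.1 (p2_of_sq h2) (centralizer_le_normalizer' _ h1.2), h2⟩
  have hTN : IsSyl 2 T (H ⊓ 𝐍[T]) := hT.mono (le_inf hT.le le_normalizer) inf_le_left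
  have hco : ∀ {A : Subgroup G}, IsPGroup 2 A → (T.relIndex (H ⊓ 𝐍[T])).Coprime (Nat.card A) :=
    fun hA => Solv.coprime_card_of_isPGroup hA
      ((Nat.Prime.coprime_iff_not_dvd Nat.prime_two).2 hTN.not_dvd_relIndex).symm
  obtain ⟨D, hD, hsup, -, -, hc⟩ := FGS.exists_complement_ambient hTN.le inf_le_right
    (hco hT.pgrp).symm
  have hΩp : IsPGroup 2 Ω := hT.pgrp.to_le fun a ha => ha.1
  obtain ⟨u, hu, huD⟩ := Solv.coprime_fixed_coset' D Ω
    (norm_of_forall fun g hg m hm => ⟨conj_mem_of_mem_normalizer (hD hg).2 hm.1, by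
      rw [conj_mul, hm.2]; simp⟩) (hc ▸ hco hΩp) (Or.inr (Solv.isSolvable_of_isPGroup hΩp)) f
    fun a ha => hΩ a (hD ha)
  have hdT : f * u ∈ 𝐂[T] := mul_mem hfT (hTC hu.1)
  have hdN : f * u ∈ 𝐂[H ⊓ 𝐍[T]] := by rw [← hsup, Amb.centralizer_sup]; exact ⟨hdT, huD⟩
  have hdR : f * u ∈ 𝐂[R] := mul_mem (mem_cent.2 fun r hr => hRc r hr f hfR)
    (mem_cent.2 fun r hr => (h.cent u (hTK hu.1) r (hR.le hr)).symm)
  have hSc : T ⊔ R ≤ 𝐂[T ⊔ R] := by
    rw [Amb.centralizer_sup]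
    exact sup_le (le_inf hTC (fun t ht => centralizer_anti hR.le (h.cent_le (hTK ht))))
      (le_inf (fun r hr => mem_cent.2 fun t ht => h.cent t (hTK ht) r (hR.le hr))
        fun r hr => mem_cent.2 fun s hs => hRc s hs r hr)
  have hd : f * u ∈ T ⊔ R := mul_mem (mem_sup_right hfR) (mem_sup_left hu.1)
  refine ⟨u, hu.1, hu.2, fun g hg => h.comm_of_iso h4 hR.pgrp hR.le hS hd (fun g hg hm => ?_) hg⟩
  obtain ⟨n, hn, e⟩ := Lyons.fus hS (hSc hd) hg (hSc hm)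
  obtain ⟨b, hb, r, hr, rfl⟩ := h.dec hR.le hn.1
  have hbS : b ∈ 𝐍[T ⊔ R] := by
    have := (𝐍[T ⊔ R]).mul_mem hn.2 (inv_mem (le_normalizer (mem_sup_right hr : r ∈ T ⊔ R)))
    rwa [mul_inv_cancel_right] at this
  have hbT : b ∈ 𝐍[T] := mem_normalizer_of_cj_le (cj_le_iff_forall.2 fun t ht =>
    sup_inf_eq hT hR.pgrp hRT (conj_mem_of_mem_normalizer hbS (mem_sup_left ht))
      (conj_mem_of_mem_normalizer (le_normalizer hb) (hT.le ht)))
  rw [← e]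
  calc b * r * (f * u) * (b * r)⁻¹ = b * (r * (f * u) * r⁻¹) * b⁻¹ := by group
    _ = _ := by rw [conj_cent hdR hr, conj_cent hdN ⟨hb, hbT⟩]

end CE

end Cfsg.Agent.TwoTr.TI
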