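import Mathlib
import Cfsg.Agent.TwoTr.TIA
import Cfsg.Agent.Solv.Coprime3
import Cfsg.Agent.Solv.NilpAmb

/-! O'Nan configurations in which `K` does not contain a Sylow `2`-subgroup of `H`: the Sylow
`2`-subgroups of `K` are elementary abelian of order at least four. -/

set_option autoImplicit false
set_option linter.unusedSectionVars false

namespace Cfsg.Agent.TwoTr.TI

open Cfsg Subgroup Cfsg.Agent.PLocal Cfsg.Agent.PLocal.Amb Cfsg.Agent.Trm
open Cfsg.Agent.Lyons (oc)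
open scoped commutatorElement

universe u

variable {G : Type u} [Group G] [Finite G]

theorem thom {Y P X : Subgroup G} (hP : IsSyl 2 P Y) (hX : X.relIndex P = 2) {v : G}
    (hv : v ∈ 𝐎[2, Y]) (iv : Iv v) : ∃ g ∈ Y, g * v * g⁻¹ ∈ X := by
  rcases Transfer.thompson_transfer (odd_index_of_syl hP) ((relIndex_subgroupOf' hP.le).trans hX)
    (u := ⟨v, pRes_le _ _ hv⟩) (by rw [← orderOf_coe]; exact iv.ord) with ⟨M, -, hM, h⟩ | ⟨g, hg⟩
  · refine absurd (mem_map_subtype.1 (pRes_le_of_pow (K := M.map Y.subtype) (fun g hg => ⟨1, ?_⟩)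
      hv)) h
    exact ⟨⟨g, hg⟩ ^ 2, sq_mem_of_index_two hM _, rfl⟩
  · exact ⟨g, g.2, hg⟩

theorem sq_conj' {z : G} (hz : z * z = 1) (g : G) : g⁻¹ * z * g * (g⁻¹ * z * g) = 1 := by
  calc _ = g⁻¹ * (z * z) * g := by group
    _ = 1 := by rw [hz]; group

theorem le_of_syl {K C : Subgroup G}
    (h : ∀ p : ℕ, ∀ _ : Fact p.Prime, ∃ T, IsSyl p T K ∧ T ≤ C) : K ≤ C :=
  Solv.le_of_forall_sylow_le K C fun p _ => by
    obtain ⟨T, hT, h⟩ := h p inferInstance
    obtain ⟨Q, rfl⟩ := hT.exists_sylow_map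
    exact ⟨Q, h⟩

/-- the set-up with Sylow `2`-subgroups -/
structure CB (H K L P A R : Subgroup G) : Prop extends CE H K L where
  w : WH P A R
  hP : IsSyl 2 P H
  hR : IsSyl 2 R K
  hA : IsSyl 2 A L

theorem CE.exists_cb {H K L : Subgroup G} (h : CE H K L) :
    (∃ T, IsSyl 2 T H ∧ T ≤ K) ∨ ∃ P A R, CB H K L P A R := by
  obtain ⟨R, hR⟩ := exists_isSyl 2 K
  obtain ⟨A, hA⟩ := exists_isSyl 2 L
  obtain ⟨P, hP, hn, hle⟩ := exists_syl_inv (isPGroup_sup hA.pgrp hR.pgrp (h.le_norm hR.le hA.le))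
    (sup_le (hA.le.trans h.norm) ((hR.le.trans h.le).trans le_normalizer))
  have hRP : R ≤ P := (le_inf le_sup_right (hR.le.trans h.le)).trans hle
  by_cases hc : P ≤ R
  · exact Or.inl ⟨P, hP, hc.trans hR.le⟩
  refine Or.inr ⟨P, A, R, h, ⟨hP.pgrp, hA.pgrp, le_sup_left.trans hn,
    fun a ha hp => h.disj a (hA.le ha) (hP.le hp), hRP,
    (hR.le.trans h.cent_le).trans (centralizer_anti hA.le), fun a ha a1 p hp e => ?_,
    (h.syl_card hR hA).le, hc, fun e => ?_⟩, hP, hR, hA⟩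
  · exact hR.max (P ⊓ K) (hP.pgrp.to_le inf_le_left) (le_inf hRP hR.le) inf_le_right
      ⟨hp, h.fix a (hA.le ha) a1 p (hP.le hp) e⟩
  · obtain ⟨f, hf, jf⟩ := h.evL
    obtain ⟨g, -, hg⟩ := hA.exists_cj_le jf.p2.pgrp (zpowers_le.2 hf)
    exact (jf.conj g).1 (mem_bot.1 (e ▸ hg (conj_mem_cj g (mem_zpowers f))))

namespace CB

variable {H K L P A R : Subgroup G} (h : CB H K L P A R)
include h

theorem AH : A ≤ 𝐍[H] := h.hA.le.trans h.norm

theorem hS : IsSyl 2 (P ⊔ A) (H ⊔ A) := isSyl_sup h.hP h.hA.pgrp h.AH h.w.norm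

theorem mem_P {x : G} (hx : x ∈ P ⊔ A) (hH : x ∈ H) : x ∈ P :=
  sup_inf_eq h.hP h.hA.pgrp h.w.norm hx hH

theorem elem : ∀ r ∈ R, r * r = 1 := by
  by_contra hne
  have w := h.w
  have h4 : 2 < Nat.card R := by
    by_contra h4
    refine hne fun r hr => ?_
    have h1 : Nat.card R = 2 := by
      have := (one_lt_card_iff_ne_bot R).2 w.neR
      omega
    have := pow_card_eq_one' (x := (⟨r, hr⟩ : R))
    rw [h1, pow_two] at this
    exact congrArg Subtype.val this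
  have idx := fun p hp hp' q hq hq' => w.idx_of_not_elem hne (p := p) (q := q) hp hp' hq hq'
  have hX := w.le_X h4 idx
  have idx' : ∀ p ∈ P, p ∉ R → ∀ q ∈ P, q ∉ R → p * q ∈ R := fun p hp hp' q hq hq' =>
    idx p (hX hp) hp' q (hX hq) hq'
  obtain ⟨k, hk, k2, k4⟩ : ∃ k ∈ R, k * k ≠ 1 ∧ k * k * (k * k) = 1 := by
    push Not at hne
    obtain ⟨r, hr, r2⟩ := hne
    obtain ⟨n, hn⟩ := (p2_of_mem h.hR.pgrp (mul_mem hr hr)).exists_iv r2
    have e : r ^ n * r ^ n = (r * r) ^ n := by rw [← pow_two, ← pow_two, ← pow_mul, ← pow_mul, mul_comm]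
    exact ⟨r ^ n, pow_mem hr n, e ▸ hn.1, e ▸ hn.2⟩
  obtain ⟨p, hp, hp'⟩ := w.exists_X
  obtain ⟨a, ha, ea⟩ := w.ph_surj hp hp' (mul_mem hk hk)
  have a2 : a * a = 1 := w.ph_inj hp.1 hp' (mul_mem ha ha) (one_mem _) (by
    rw [w.ph_mul hp ha ha, ea, k4, eq_comm, ph_eq_one, mul_one, one_mul])
  have hzB : k * a ∈ R ⊔ A := mul_mem (mem_sup_left hk) (mem_sup_right ha)
  have hdec : ∀ x ∈ P ⊔ A, x ∈ R ⊔ A ∨ p⁻¹ * x ∈ R ⊔ A := fun x hx =>
    w.dec_of_idx idx hp hp' (sup_le_sup_right hX _ hx)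
  have hpz : p * (k * a) = k * a * p := by
    rw [← mul_inv_eq_iff_eq_mul, ← conj_mul, w.inverts hp hp' hk, conj_eq_ph, ea,
      ← w.cm (mul_mem hk hk) ha]
    group
  have hz : k * a ∈ 𝐂[P ⊔ A] := mem_cent.2 fun x hx => by
    rcases hdec x hx with e | e
    · exact w.B_comm e hzB
    · calc x * (k * a) = p * (p⁻¹ * x * (k * a)) := by group
        _ = _ := by rw [w.B_comm e hzB, ← mul_assoc, hpz]; group
  have ez : k * a * (k * a) = k * k := by
    calc _ = k * (a * k) * a := by group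
      _ = _ := by rw [← w.cm hk ha, mul_assoc, mul_assoc, a2]; group
  have hsq : ∀ x ∈ P ⊔ A, x * x ∈ R ⊔ A := fun x hx => by
    rcases hdec x hx with e | e
    · exact mul_mem e e
    · have := mul_mem (mul_mem (mem_sup_left (w.sq_mem hp))
        (inv_conj_mem_of_mem_normalizer hp.2 e)) e
      convert this using 1; group
  have huB : k * k ∈ R ⊔ A := mem_sup_left (mul_mem hk hk)
  have fc : ∀ g ∈ H ⊔ A, g * (k * k) * g⁻¹ ∈ R ⊔ A → g * (k * k) * g⁻¹ = k * k := fun g hg e => by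
    rcases w.fc h.hP h.AH hX idx' h4 hp.1 hp' huB hg e with e' | e'
    · exact e'
    · rw [e', w.inverts hp hp' (mul_mem hk hk), inv_eq_of_mul_eq_one_left k4]
  refine h.iso_false h.hP (w.le (mul_mem hk hk)) ⟨k2, k4⟩ fun g hg hv => ?_
  obtain ⟨g', hg', e, hle⟩ := exists_cj_cent h.hS (z := k * k) (ez ▸ mul_mem hz hz)
    (mem_sup_left hg) (W := zpowers (k * a))
    (p2_of_mem w.pgrp_B hzB).pgrp (zpowers_le.2 (h.hS.le (sup_le_sup_right w.le _ hzB)))
    (zpowers_le.2 (mem_cz.2 (cent_comm hz (mem_sup_left hv))))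
  have h1 := hsq _ (mem_cj.1 (hle (mem_zpowers _)))
  have h2 := fc g'⁻¹ (inv_mem hg') (by
    convert h1 using 1
    rw [← ez]; group)
  rw [← e]
  conv_lhs => rw [← h2]
  group

theorem two_aux (hc : Nat.card R ≤ 2) : ∃ u f, Iv u ∧ Iv f ∧ R = zpowers u ∧ A = zpowers f ∧
    u ∈ 𝐂[P] ∧ ∃ X : Subgroup G, X.relIndex P = 2 ∧ (∀ v ∈ X, Iv v → v = u) ∧
      ∃ v ∈ P, Iv v ∧ v ≠ u := by
  have w := h.w
  have h4 := h.four_of_syl h.hP
  obtain ⟨u, f, iu, jf, e1, e2, x, hx, -⟩ := w.two h4 hc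
  have hf : f ∈ A := e2 ▸ mem_zpowers f
  have fx : ∀ v ∈ P, Iv v → v * f = f * v → v = u := fun v hv iv e =>
    (zpow_iv iu.2 (e1 ▸ w.fix f hf jf.1 v hv e)).resolve_left iv.1
  obtain ⟨a, ha, b, hb, ia, ib, hab, -⟩ := h4
  refine ⟨u, f, iu, jf, e1, e2, ?_, ?_⟩
  · obtain ⟨z, hz, iz, hzc⟩ := exists_iv_cent' (isPGroup_sup w.hA w.hP w.norm)
      (sup_le w.norm le_normalizer) ha ia
    rw [← fx z hz iz (cent_comm hzc (mem_sup_left hf))]
    exact centralizer_anti le_sup_right hzc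
  have hv : ∃ v ∈ P, Iv v ∧ v ≠ u := by
    by_cases e : a = u
    · exact ⟨b, hb, ib, e ▸ hab.symm⟩
    · exact ⟨a, ha, ia, e⟩
  by_cases hu : u ∈ zpowers x
  · exact ⟨_, hx, fun v hv iv => iv_eq_of_zpowers hv hu iv iu, hv⟩
  have hsq : ∀ p ∈ P, p * p = 1 := fun p hp => by
    by_contra hne
    obtain ⟨n, hn⟩ := (p2_of_mem w.hP (mul_mem hp hp)).exists_iv hne
    have h1 := pow_mem (sq_mem_of_relIndex_two hx hp) n
    have h2 := pow_mem (sq_mem_of_relIndex_two hx (conj_mem_of_mem_normalizer (w.norm hf) hp)) n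
    rw [conj_mul, conj_pow] at h2
    have := iv_eq_of_zpowers h2 h1 (hn.conj f) hn
    exact hu (fx _ (pow_mem (mul_mem hp hp) n) hn (mul_inv_eq_iff_eq_mul.1 this).symm ▸ h1)
  have hph : ∀ p ∈ P, p ∉ R → ph p f = u := fun p hp hp' => by
    have h1 := ph_mem_left hp (w.norm hf)
    refine fx _ h1 ⟨fun e => hp' (w.fix f hf jf.1 p hp (ph_eq_one.1 e)), hsq _ h1⟩ ?_
    have h2 := (jf.conj p).2
    rw [conj_eq_ph] at h2
    calc ph p f * f = f⁻¹ * (f * ph p f * (f * ph p f)) * (ph p f)⁻¹ := by group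
      _ = _ := by rw [h2, jf.inv_eq, inv_eq_of_mul_eq_one_left (hsq _ h1), mul_one]
  refine ⟨R, relIndex_eq_two_of w.ne fun p hp hp' q hq hq' => ?_,
    fun v hv iv => (zpow_iv iu.2 (e1 ▸ hv)).resolve_left iv.1, hv⟩
  have := comm_of_ph_eq' ((hph q hq hq').trans (hph p hp hp').symm)
  rw [inv_eq_of_mul_eq_one_left (hsq p hp)] at this
  exact w.fix f hf jf.1 _ (mul_mem hp hq) this

theorem two_cent {u : G} (iu : Iv u) (e1 : R = zpowers u) (hu : u ∈ 𝐂[P]) {X : Subgroup G}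
    (hX : X.relIndex P = 2) (hXu : ∀ v ∈ X, Iv v → v = u) {v : G} (hv : v ∈ P) (iv : Iv v)
    (hvu : v ≠ u) : K ≤ centralizer {u} := by
  have huR : u ∈ R := e1 ▸ mem_zpowers u
  have huK := h.hR.le huR
  refine le_of_syl fun p hp => ?_
  by_cases p2 : p = 2
  · subst p2
    exact ⟨R, h.hR, e1 ▸ zpowers_le.2 (mem_cz.2 rfl)⟩
  have hp2 : Nat.Coprime p 2 := (Nat.coprime_primes hp.out Nat.prime_two).2 p2
  obtain ⟨Λ, hΛ⟩ := exists_isSyl p L
  set Y := H ⊓ centralizer {u}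
  have hΛY : Λ ≤ 𝐍[Y] := norm_of_forall fun l hl y hy =>
    ⟨conj_mem_of_mem_normalizer (h.norm (hΛ.le hl)) hy.1, mem_cz.2 (by
      have e := h.cent u huK l (hΛ.le hl)
      exact ((Commute.mul_left (show Commute l u from e.symm) (mem_cz.1 hy.2)).mul_left
        (Commute.inv_left (show Commute l u from e.symm))).eq)⟩
  have dec : ∀ g ∈ Y ⊔ Λ, ∃ y ∈ Y, ∃ l ∈ Λ, g = y * l := fun g hg =>
    (mem_sup_of_le_normalizer_left hΛY).1 hg
  obtain ⟨U, hU, hΛU⟩ := exists_isSyl_ge hΛ.pgrp (le_sup_right : Λ ≤ Y ⊔ Λ)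
  have hΓu : Y ⊔ Λ ≤ centralizer {u} :=
    sup_le inf_le_right fun l hl => mem_cz.2 (h.cent u huK l (hΛ.le hl)).symm
  obtain ⟨g, hg, hgK, hph⟩ : ∃ g ∈ H, g ∉ K ∧ ∀ l ∈ Λ, ph g l ∈ U ⊓ K := by
    by_cases hUK : U ⊓ H ≤ K
    · have hPΓ : IsSyl 2 P (Y ⊔ Λ) := by
        have hPY : P ≤ Y := le_inf h.hP.le fun x hx => mem_cz.2 (cent_comm hu hx).symm
        refine ⟨hPY.trans le_sup_left, h.hP.pgrp, fun Q hQ h1 h2 => h.hP.max Q hQ h1 fun x hx => ?_⟩
        refine (pRes_sup_le hΛ.pgrp hΛY (mem_pRes (h2 hx) ?_)).1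
        exact (Solv.NA.coprime_orderOf_of_isPGroup hQ hx hp2).symm
      have hO : ∀ z ∈ P, Iv z → z ≠ u → z ∉ 𝐎[2, Y ⊔ Λ] := fun z hz iz hne hm => by
        obtain ⟨c, hc, e⟩ := thom hPΓ hX hm iz
        have := hXu _ e (iz.conj c)
        rw [mul_inv_eq_iff_eq_mul, ← mem_cz.1 (hΓu hc)] at this
        exact hne (mul_left_cancel this)
      have hUO : U ≤ 𝐎[2, Y ⊔ Λ] := fun x hx => mem_pRes (hU.le hx)
        (Solv.NA.coprime_orderOf_of_isPGroup hU.pgrp hx hp2.symm).symm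
      obtain ⟨γ, hγ, n, hn, e⟩ := (hU.mono hUO (pRes_le _ _)).frattini
        (le_normalizer_pRes 2 _ (hPΓ.le hv))
      have hnΓ : n ∈ Y ⊔ Λ := by
        have := mul_mem (inv_mem (pRes_le _ _ hγ)) (hPΓ.le hv)
        rwa [e, inv_mul_cancel_left] at this
      obtain ⟨y, hy, l, hl, rfl⟩ := dec n hnΓ
      have hyU : y ∈ 𝐍[U] := by
        have := (𝐍[U]).mul_mem hn (inv_mem (le_normalizer (hΛU hl)))
        rwa [mul_inv_cancel_right] at this
      refine ⟨y, hy.1, fun hyK => ?_, fun l' hl' => ⟨ph_mem_right hyU (hΛU hl'),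
        hUK ⟨ph_mem_right hyU (hΛU hl'), ph_mem_left hy.1 (h.norm (hΛ.le hl'))⟩⟩⟩
      obtain ⟨k, hk⟩ := exists_pow_mem_pRes (p := 2) (mem_sup_left hy : y ∈ Y ⊔ Λ)
      obtain ⟨m, hm, h2⟩ := exists_odd_pow_p2 y
      have hym : y ^ m ∈ zpowers u := e1 ▸ mem_syl_of_norm h.hR (pow_mem hyK m) h2
        (centralizer_le_normalizer' _ (by rw [e1, Amb.centralizer_zpowers]; exact pow_mem hy.2 m))
      have huy : Commute u y := (mem_cz.1 hy.2).symm
      have hO2 : ∀ z : G, z ^ m = 1 → z ∈ Y → z ∈ 𝐎[2, Y ⊔ Λ] := fun z hz hzY =>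
        mem_pRes (mem_sup_left hzY) ((Nat.coprime_two_right.2 hm).coprime_dvd_left
          (orderOf_dvd_of_pow_eq_one hz))
      have hl' := hUO (hΛU hl)
      rcases zpow_iv iu.2 hym with e' | e'
      · exact hO v hv iv hvu (e ▸ mul_mem hγ (mul_mem (hO2 y e' hy) hl'))
      · have hum : u ^ m = u := by
          obtain ⟨j, rfl⟩ := hm
          rw [pow_succ, pow_mul, pow_two, iu.2, one_pow, one_mul]
        have h3 := hO2 (u * y) (by rw [huy.mul_pow, hum, e', iu.2])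
          (mul_mem ⟨h.le huK, mem_cz.2 rfl⟩ hy)
        refine hO (u * v) (mul_mem (h.w.le huR) hv) ⟨fun e' => hvu ?_, ?_⟩
          (fun e' => iv.1 (mul_eq_left.1 e')) ?_
        · rw [← iu.inv_eq]; exact eq_inv_of_mul_eq_one_right e'
        · rw [mul_assoc, ← mul_assoc v, ← cent_comm hu hv, mul_assoc, iv.2, mul_one, iu.2]
        · rw [e, ← mul_assoc, ← mem_cz.1 (hΓu (pRes_le _ _ hγ)), mul_assoc, ← mul_assoc u]
          exact mul_mem hγ (mul_mem h3 hl')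
    · have hWΛ : Λ ≤ 𝐍[U ⊓ K] := h.le_norm inf_le_right hΛ.le
      have hlt : (U ⊓ K) ⊔ Λ < U := lt_of_le_of_ne (sup_le inf_le_left hΛU) fun e => hUK fun x hx => by
        obtain ⟨k, hk, l, hl, rfl⟩ := (mem_sup_of_le_normalizer_left hWΛ).1 (e.ge hx.1)
        rw [h.disj l (hΛ.le hl) ((mul_mem_cancel_left (h.le hk.2)).1 hx.2), mul_one]
        exact hk.2
      obtain ⟨g, hg, hg'⟩ := SetLike.exists_of_lt (lt_inf_normalizer hU.pgrp hlt)
      obtain ⟨y, hy, l, hl, rfl⟩ := dec g (hU.le hg.1)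
      have hyN : y ∈ 𝐍[(U ⊓ K) ⊔ Λ] := by
        have := (𝐍[(U ⊓ K) ⊔ Λ]).mul_mem hg.2 (inv_mem (le_normalizer (mem_sup_right hl)))
        rwa [mul_inv_cancel_right] at this
      refine ⟨y, hy.1, fun hk => hg' (mul_mem (mem_sup_left
        ⟨(U.mul_mem_cancel_right (hΛU hl)).1 hg.1, hk⟩) (mem_sup_right hl)), fun l' hl' => ?_⟩
      obtain ⟨k, hk, l'', hl'', e⟩ := (mem_sup_of_le_normalizer_left hWΛ).1
        (ph_mem_right hyN (mem_sup_right hl'))
      have := ph_mem_left hy.1 (h.norm (hΛ.le hl'))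
      rw [e] at this ⊢
      rw [h.disj l'' (hΛ.le hl'') ((mul_mem_cancel_left (h.le hk.2)).1 this), mul_one]
      exact hk
  obtain ⟨T, hT⟩ := exists_isSyl p K
  refine ⟨U ⊓ K, hT.of_card_ge (hU.pgrp.to_le inf_le_left) inf_le_right ?_,
    inf_le_left.trans (hU.le.trans hΓu)⟩
  rw [h.syl_card hT hΛ]
  refine card_le_of_inj (ph g) hph fun a ha b hb e => ?_
  by_contra hne
  exact hgK (h.fix _ (hΛ.le (mul_mem hb (inv_mem ha)))
    (fun e' => hne (mul_inv_eq_one.1 e').symm) g hg (comm_of_ph_eq e))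

theorem two_lt : 2 < Nat.card R := by
  by_contra hc
  obtain ⟨u, f, iu, jf, e1, e2, hu, X, hX, hXu, v, hv, iv, hvu⟩ := h.two_aux (not_lt.1 hc)
  have hK := h.two_cent iu e1 hu hX hXu hv iv hvu
  have huR : u ∈ R := e1 ▸ mem_zpowers u
  have hf : f ∈ A := e2 ▸ mem_zpowers f
  have hfL := h.hA.le hf
  have fx : ∀ z ∈ H, z * z = 1 → z * f = f * z → z = 1 ∨ z = u := fun z hz z2 e =>
    zpow_iv iu.2 (e1 ▸ mem_syl_of_norm h.hR (h.fix f hfL jf.1 z hz e) (p2_of_sq z2)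
      (centralizer_le_normalizer' _ (by
        rw [e1, Amb.centralizer_zpowers]; exact hK (h.fix f hfL jf.1 z hz e))))
  obtain ⟨p, hp, hp'⟩ := h.w.exists_X
  have hpf : p * f * p⁻¹ = f * u := by
    rw [conj_eq_ph, (zpow_iv iu.2 (e1 ▸ h.w.ph_mem hp hf)).resolve_left fun e =>
      hp' (h.w.fix f hf jf.1 p hp.1 (ph_eq_one.1 e))]
  have key : ∀ z ∈ H, z * z = 1 → z * u = u * z := fun z hz z2 => by
    have hfH := h.norm hfL
    have hsq : f * z * (f * z) ∈ H := by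
      have := mul_mem (conj_mem_of_mem_normalizer hfH hz) hz
      rw [jf.inv_eq] at this
      convert this using 1; group
    have hzi := inv_eq_of_mul_eq_one_left z2
    obtain ⟨m, hm, h2⟩ := exists_odd_pow_p2 (f * z)
    have hodd : ∀ j : ℕ, f * (f * z) ^ (2 * j + 1) ∈ H := fun j => by
      have := mul_mem (conj_mem_of_mem_normalizer hfH (pow_mem hsq j)) hz
      rw [jf.inv_eq] at this
      convert this using 1
      rw [pow_succ, pow_mul, pow_two]; group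
    obtain ⟨n, hn⟩ := h2.exists_iv (fun e => by
      obtain ⟨j, rfl⟩ := hm
      have := hodd j
      rw [e, mul_one] at this
      exact jf.1 (h.disj f hfL this))
    rw [← pow_mul] at hn
    set c := (f * z) ^ (m * n) with hcd
    have hinv : ∀ s : G, s * (f * z) * s⁻¹ = (f * z)⁻¹ → c * s = s * c := fun s hs => by
      have : s * c * s⁻¹ = c⁻¹ := by rw [hcd, ← conj_pow, hs, inv_pow]
      rw [hn.inv_eq] at this
      exact (mul_inv_eq_iff_eq_mul.1 this).symm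
    have c1 : c * f = f * c := hinv f (by rw [mul_inv_rev, hzi, ← mul_assoc, jf.2, one_mul])
    have c2 : c * z = z * c := hinv z (by
      rw [mul_inv_rev, jf.inv_eq, mul_assoc, mul_inv_cancel_right, hzi])
    rcases Nat.even_or_odd' (m * n) with ⟨j, e | e⟩
    · have hc : c ∈ H := by rw [hcd, e, pow_mul, pow_two]; exact pow_mem hsq j
      rw [← (fx c hc hn.2 c1).resolve_left hn.1, c2]
    · have hc : f * c ∈ H := by rw [hcd, e]; exact hodd j
      have ec : c = f * (f * c) := by rw [← mul_assoc, jf.2, one_mul]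
      rcases fx _ hc (by rw [mul_assoc, ← mul_assoc c, c1, mul_assoc, hn.2, mul_one, jf.2])
        (by rw [mul_assoc, c1]) with e' | e'
      · rw [e', mul_one] at ec
        rcases fx z hz z2 (ec ▸ c2.symm) with rfl | rfl <;> simp
      · rw [e', ← hpf] at ec
        have hz' := inv_conj_mem_of_mem_normalizer (le_normalizer (h.hP.le hp.1)) hz
        have := fx _ hz' (sq_conj' z2 p) (by
          calc p⁻¹ * z * p * f = p⁻¹ * (z * (p * f * p⁻¹)) * p := by group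
            _ = _ := by rw [← ec, ← c2, ec]; group)
        have ez : z = p * (p⁻¹ * z * p) * p⁻¹ := by group
        rcases this with e'' | e'' <;> rw [e''] at ez
        · rw [ez]; simp
        · rw [ez, conj_cent hu hp.1]
  let Z : Subgroup G := H ⊓ centralizer {z | z ∈ H ∧ z * z = 1}
  have hZ : Z = H := h.eq_of_iv inf_le_left (norm_of_forall fun g hg x hx =>
    ⟨conj_mem_of_mem_normalizer hg hx.1, mem_centralizer_iff.2 fun z hz => by
      have := mem_centralizer_iff.1 hx.2 (g⁻¹ * z * g) ⟨inv_conj_mem_of_mem_normalizer hg hz.1,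
        sq_conj' hz.2 g⟩
      calc z * (g * x * g⁻¹) = g * (g⁻¹ * z * g * x) * g⁻¹ := by group
        _ = _ := by rw [this]; group⟩) (u := u)
    ⟨h.le (h.hR.le huR), mem_centralizer_iff.2 fun z hz => key z hz.1 hz.2⟩ iu
  refine h.iso_false h.hP (h.w.le huR) iu fun g hg _ => ?_
  rw [← mem_centralizer_iff.1 (hZ.ge hg).2 u ⟨h.le (h.hR.le huR), iu.2⟩, mul_inv_cancel_right]

end CB

end Cfsg.Agent.TwoTr.TI
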