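import Mathlib

/-! Eigenvalue multiplicities of strongly regular graphs with a group of automorphisms. -/

set_option autoImplicit false

namespace Cfsg.Agent.TwoTr.Fr

variable {V : Type*} [Fintype V] [DecidableEq V]

theorem srg_trace (Γ : SimpleGraph V) [DecidableRel Γ.Adj] {n k l m : ℕ}
    (h : Γ.IsSRGWith n k l m) (hn : 0 < n) (hp : (k : ℤ) * (k - l - 1) = m * (n - k - 1))
    {s θ : ℝ} (hs0 : s ≠ 0) (hs2 : s * s = ((l : ℝ) - m) ^ 2 + 4 * (k - m))
    (hθ : θ = (l - m - s) / 2) (E : Matrix V V ℝ) (hE : E * E = E)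
    (hA : E * Γ.adjMatrix ℝ = Γ.adjMatrix ℝ * E)
    (h1 : E * Matrix.of (fun _ _ => (1 : ℝ)) = (Matrix.of fun _ _ => 1 : Matrix V V ℝ))
    (h2 : (Matrix.of (fun _ _ => (1 : ℝ)) : Matrix V V ℝ) * E = Matrix.of fun _ _ => 1) :
    ∃ f : ℕ, s * f = (Γ.adjMatrix ℝ * E).trace - θ * E.trace - (k - θ) := by
  have hp' : (k : ℝ) * (k - l - 1) = m * (n - k - 1) := by exact_mod_cast hp
  have hn' : (n : ℝ) ≠ 0 := by positivity
  set A := Γ.adjMatrix ℝ with hA'
  set J : Matrix V V ℝ := Matrix.of fun _ _ => 1 with hJ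
  have hC : Γᶜ.adjMatrix ℝ = J - 1 - A := by
    ext v w
    by_cases e : v = w
    · subst e; simp [J, hA']
    · by_cases a : Γ.Adj v w <;> simp [J, hA', e, a]
  have hAA : A * A = (k : ℝ) • (1 : Matrix V V ℝ) + (l : ℝ) • A + (m : ℝ) • (J - 1 - A) := by
    rw [← sq, hA', h.matrix_eq, hC]
    simp only [Nat.cast_smul_eq_nsmul, hA']
  have hAJ : A * J = (k : ℝ) • J := by
    ext v w
    simp [hA', J, h.regular v]
  have hJA : J * A = (k : ℝ) • J := by
    ext v w
    simp [hA', J, h.regular w]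
  have hJJ : J * J = (n : ℝ) • J := by
    ext v w
    simp [J, Matrix.mul_apply, h.card]
  set c : ℝ := (k - θ) / n with hc'
  have hcn : c * n = k - θ := by rw [hc']; field_simp
  set B := A - θ • 1 - c • J with hB
  have hBB : B * B = s • B := by
    simp only [hB, sub_mul, mul_sub, smul_mul_assoc, mul_smul_comm, one_mul, mul_one, hAA, hAJ,
      hJA, hJJ]
    match_scalars
    · rw [hθ]; linear_combination (1 / 4 : ℝ) * hs2 - (1/2 : ℝ) * hs2
    · rw [hθ]; ring
    · apply mul_left_cancel₀ hn'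
      have : θ * θ = (l - m) * θ + (k - m) := by rw [hθ]; linear_combination (1 / 4 : ℝ) * hs2
      have h3 : s = l - m - 2 * θ := by rw [hθ]; ring
      rw [h3]
      linear_combination (c * n - k + l - m - θ) * hcn - hp' + this
  have hEB : E * B = B * E := by
    simp only [hB, sub_mul, mul_sub, smul_mul_assoc, mul_smul_comm, one_mul, mul_one, hA, h1, h2]
  let P : Matrix V V ℝ := s⁻¹ • (B * E)
  have hP : IsIdempotentElem P := by
    have : B * E * (B * E) = s • (B * E) := by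
      rw [mul_assoc, ← mul_assoc E, hEB, mul_assoc, hE, ← mul_assoc, hBB, smul_mul_assoc]
    simp only [IsIdempotentElem, P, smul_mul_assoc, mul_smul_comm, this, smul_smul]
    congr 1
    field_simp
  have hP' : IsIdempotentElem (Matrix.toLin' P) := by
    rw [IsIdempotentElem, Module.End.mul_eq_comp, ← Matrix.toLin'_mul, hP.eq]
  have ht := (LinearMap.IsIdempotentElem.isProj_range _ hP').trace
  rw [Matrix.trace_toLin'_eq] at ht
  refine ⟨Module.finrank ℝ (LinearMap.range (Matrix.toLin' P)), ?_⟩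
  have hJt : J.trace = n := by simp [J, Matrix.trace, h.card]
  rw [← ht, Matrix.trace_smul, smul_eq_mul, ← mul_assoc, mul_inv_cancel₀ hs0, one_mul, hB,
    sub_mul, sub_mul, smul_mul_assoc, smul_mul_assoc, one_mul, h2, Matrix.trace_sub,
    Matrix.trace_sub, Matrix.trace_smul, Matrix.trace_smul, hJt, smul_eq_mul, smul_eq_mul, hcn]

variable {G : Type*} [Group G] [MulAction G V]

/-- the permutation matrix of a group element -/
def pm (V : Type*) [DecidableEq V] [MulAction G V] (g : G) : Matrix V V ℝ :=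
  Matrix.of fun v w => if g • w = v then 1 else 0

theorem pm_mul (g h : G) : pm V (g * h) = pm V g * pm V h := by
  ext v w
  simp [pm, Matrix.mul_apply, mul_smul]

theorem pm_J (g : G) : pm V g * Matrix.of (fun _ _ => (1 : ℝ)) =
    (Matrix.of fun _ _ => 1 : Matrix V V ℝ) := by
  ext v w
  simp [pm, Matrix.mul_apply, ← eq_inv_smul_iff]

theorem J_pm (g : G) : (Matrix.of (fun _ _ => (1 : ℝ)) : Matrix V V ℝ) * pm V g =
    Matrix.of fun _ _ => 1 := by
  ext v w
  simp [pm, Matrix.mul_apply]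

theorem trace_pm (g : G) : (pm V g).trace = Nat.card {v : V // g • v = v} := by
  simp [pm, Matrix.trace, Fintype.card_subtype]

theorem trace_adj_pm (Γ : SimpleGraph V) [DecidableRel Γ.Adj] (g : G) :
    (Γ.adjMatrix ℝ * pm V g).trace = Nat.card {v : V // Γ.Adj v (g • v)} := by
  simp [pm, Matrix.trace, Matrix.mul_apply, Fintype.card_subtype, SimpleGraph.adjMatrix_apply]

theorem srg_group [Finite G] (Γ : SimpleGraph V) [DecidableRel Γ.Adj] {n k l m : ℕ}
    (h : Γ.IsSRGWith n k l m) (hn : 0 < n) (hp : (k : ℤ) * (k - l - 1) = m * (n - k - 1))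
    {s θ : ℝ} (hs0 : s ≠ 0) (hs2 : s * s = ((l : ℝ) - m) ^ 2 + 4 * (k - m))
    (hθ : θ = (l - m - s) / 2) (hG : ∀ (g : G) u v, Γ.Adj (g • u) (g • v) ↔ Γ.Adj u v)
    (K : Subgroup G) (d : G) (hd : ∀ v : V, ∃ x ∈ K, d • v = x • v)
    (hc : ∀ x ∈ K, ∃ g : G, x * d = g * d * g⁻¹) :
    ∃ f : ℕ, s * f = Nat.card {v : V // Γ.Adj v (d • v)} - θ * Nat.card {v : V // d • v = v}
      - (k - θ) := by
  have := Fintype.ofFinite K
  have hK : (Fintype.card K : ℝ) ≠ 0 := by exact_mod_cast Fintype.card_ne_zero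
  let S : Matrix V V ℝ := ∑ x : K, pm V (x : G)
  have hS : S * S = (Fintype.card K : ℝ) • S := by
    simp only [S, Finset.sum_mul, Finset.mul_sum, ← pm_mul]
    rw [Finset.sum_congr rfl fun y _ => Fintype.sum_equiv (Equiv.mulRight y)
      (fun x : K => pm V ((x : G) * y)) (fun x : K => pm V (x : G)) fun x => rfl]
    simp [Nat.cast_smul_eq_nsmul]
  have hSd : S = ∑ x : K, pm V ((x : G) * d) := by
    ext v w
    obtain ⟨y, hy, e⟩ := hd w
    simp only [S, Matrix.sum_apply, pm, Matrix.of_apply, mul_smul, e]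
    exact (Fintype.sum_equiv (Equiv.mulRight (⟨y, hy⟩ : K)) _ _ fun x => by
      simp [mul_smul]).symm
  obtain ⟨f, hf⟩ := srg_trace Γ h hn hp hs0 hs2 hθ ((Fintype.card K : ℝ)⁻¹ • S)
    (by rw [smul_mul_assoc, mul_smul_comm, hS, smul_smul, smul_smul]; congr 1; field_simp)
    (by
      rw [smul_mul_assoc, mul_smul_comm, Finset.sum_mul, Finset.mul_sum]
      congr 1
      refine Finset.sum_congr rfl fun x _ => ?_
      ext v w
      simp only [pm, Matrix.mul_apply, Matrix.of_apply, SimpleGraph.adjMatrix_apply,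
        mul_ite, mul_one, mul_zero]
      rw [Finset.sum_eq_single ((x : G)⁻¹ • v) (fun b _ hb => by
        rw [if_neg (c := (x : G) • b = v) fun e => hb (by rw [← e, inv_smul_smul])]; simp)
        (by simp), Finset.sum_eq_single ((x : G) • w) (fun b _ hb => if_neg (Ne.symm hb)) (by simp)]
      simp [← hG (x : G) ((x : G)⁻¹ • v) w])
    (by
      rw [smul_mul_assoc, Finset.sum_mul]
      simp only [pm_J]
      simp [← Nat.cast_smul_eq_nsmul ℝ, smul_smul, hK])
    (by
      rw [mul_smul_comm, Finset.mul_sum]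
      simp only [J_pm]
      simp [← Nat.cast_smul_eq_nsmul ℝ, smul_smul, hK])
  refine ⟨f, ?_⟩
  have e1 : ∀ x : K, (Γ.adjMatrix ℝ * pm V ((x : G) * d)).trace =
      Nat.card {v : V // Γ.Adj v (d • v)} := fun x => by
    obtain ⟨g, e⟩ := hc x x.2
    rw [trace_adj_pm, e]
    exact congrArg _ (Nat.card_congr ((MulAction.toPerm g⁻¹).subtypeEquiv fun v => by
      simp [mul_smul, ← hG g (g⁻¹ • v)]))
  have e2 : ∀ x : K, (pm V ((x : G) * d)).trace = Nat.card {v : V // d • v = v} := fun x => by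
    obtain ⟨g, e⟩ := hc x x.2
    rw [trace_pm, e]
    exact congrArg _ (Nat.card_congr ((MulAction.toPerm g⁻¹).subtypeEquiv fun v => by
      simp [mul_smul, eq_inv_smul_iff]))
  rw [hf, hSd, mul_smul_comm, Finset.mul_sum, Matrix.trace_smul, Matrix.trace_smul,
    Matrix.trace_sum, Matrix.trace_sum]
  simp only [e1, e2, Finset.sum_const, Finset.card_univ, nsmul_eq_mul, smul_eq_mul]
  field_simp

/-- integral form: `r` is the non-negative eigenvalue, `-t` the negative one -/
theorem srg_int [Finite G] (Γ : SimpleGraph V) [DecidableRel Γ.Adj] {n k l m : ℕ}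
    (h : Γ.IsSRGWith n k l m) (hn : 0 < n) (hp : (k : ℤ) * (k - l - 1) = m * (n - k - 1))
    {r t : ℕ} (h0 : 0 < t) (h1 : r + m = l + t) (h2 : r * t + m = k)
    (hG : ∀ (g : G) u v, Γ.Adj (g • u) (g • v) ↔ Γ.Adj u v)
    (K : Subgroup G) (d : G) (hd : ∀ v : V, ∃ x ∈ K, d • v = x • v)
    (hc : ∀ x ∈ K, ∃ g : G, x * d = g * d * g⁻¹) :
    ∃ f : ℕ, (r + t) * f + Nat.card {v : V // Γ.Adj v (d • v)} + r =
      r * Nat.card {v : V // d • v = v} + k := by
  have e1 : (r : ℝ) + m = l + t := by exact_mod_cast h1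
  have e2 : (r : ℝ) * t + m = k := by exact_mod_cast h2
  obtain ⟨f, hf⟩ := srg_group Γ h hn hp (s := -(r + t)) (θ := r)
    (neg_ne_zero.2 (by positivity)) (by rw [← e2, show (l : ℝ) = r + m - t by linarith]; ring)
    (by linarith) hG K d hd hc
  refine ⟨f, ?_⟩
  have : ((r + t) * f + Nat.card {v : V // Γ.Adj v (d • v)} + r : ℝ) =
      r * Nat.card {v : V // d • v = v} + k := by linarith
  exact_mod_cast this

end Cfsg.Agent.TwoTr.Fr
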