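import Mathlib
import Cfsg.Agent.TwoTr.FrSrg
import Cfsg.Agent.TT.SRG
import Cfsg.Agent.Spor.RankThree
import Cfsg.Agent.Solv.FrobeniusKernel
import Cfsg.Agent.Perm.Derangement
import Cfsg.Agent.Perm.DoubleCount

/-! Rank 3 groups whose point stabiliser is a Frobenius group on one suborbit: set-up. -/

set_option autoImplicit false

namespace Cfsg.Agent.TwoTr.Fr

open MulAction Subgroup Cfsg.Agent.Perm.DoubleCount

variable {G X : Type*} [Group G] [MulAction G X]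

variable (G) in
/-- the set-up -/
structure St (Γ : SimpleGraph X) : Prop where
  faith : ∀ g : G, (∀ x : X, g • x = x) → g = 1
  prim : IsPreprimitive G X
  smul : ∀ (g : G) (u v : X), Γ.Adj (g • u) (g • v) ↔ Γ.Adj u v
  tr1 : ∀ {u v u' v' : X}, Γ.Adj u v → Γ.Adj u' v' → ∃ g : G, g • u = u' ∧ g • v = v'
  tr2 : ∀ {u v u' v' : X}, u ≠ v → u' ≠ v' → ¬ Γ.Adj u v → ¬ Γ.Adj u' v' →
    ∃ g : G, g • u = u' ∧ g • v = v'
  ex1 : ∀ u, ∃ v, Γ.Adj u v
  ex2 : ∀ u, ∃ v, u ≠ v ∧ ¬ Γ.Adj u v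
  two : ∀ {g : G} {u v w : X}, Γ.Adj u v → Γ.Adj u w → v ≠ w → g • u = u → g • v = v →
    g • w = w → g = 1
  nt : ∀ {u v : X}, Γ.Adj u v → ∃ g : G, g ≠ 1 ∧ g • u = u ∧ g • v = v

variable (G) in
/-- two-point stabiliser -/
def D (u v : X) : Subgroup G := stabilizer G u ⊓ stabilizer G v

theorem mem_D {u v : X} {g : G} : g ∈ D G u v ↔ g • u = u ∧ g • v = v := Iff.rfl

theorem D_comm (u v : X) : D G u v = D G v u := inf_comm _ _

theorem card_D_smul (g : G) (u v : X) : Nat.card (D G (g • u) (g • v)) = Nat.card (D G u v) :=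
  Nat.card_congr ((MulAut.conj g⁻¹).toEquiv.subtypeEquiv fun x => by
    simp [mem_D, mul_smul, inv_smul_eq_iff])

/-- free actions on invariant sets of points -/
theorem dvd_free [Finite X] (L : Subgroup G) (S : Set X) (hS : ∀ h ∈ L, ∀ x ∈ S, h • x ∈ S)
    (hf : ∀ h ∈ L, ∀ x ∈ S, h • x = x → h = 1) : Nat.card L ∣ S.ncard :=
  Perm.Der.dvd_ncard_of_invariant L S hS _ fun x hx => by
    have : (stabilizer G x).subgroupOf L = ⊥ := eq_bot_iff.2 fun h hh =>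
      Subtype.ext (hf h h.2 x hx hh)
    rw [relIndex, this, index_bot]

/-- free actions by conjugation -/
theorem dvd_free_conj [Finite G] (Y : Subgroup G) (S : Set G)
    (hS : ∀ g ∈ Y, ∀ u ∈ S, g * u * g⁻¹ ∈ S)
    (hf : ∀ g ∈ Y, ∀ u ∈ S, g * u * g⁻¹ = u → g = 1) : Nat.card Y ∣ S.ncard := by
  rw [Nat.card_congr (Y.equivMapOfInjective (ConjAct.toConjAct (G := G)).toMonoidHom
    ConjAct.toConjAct.injective).toEquiv]
  refine dvd_free (G := ConjAct G) _ S ?_ ?_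
  · rintro _ ⟨g, hg, rfl⟩ u hu
    exact hS g hg u hu
  · rintro _ ⟨g, hg, rfl⟩ u hu e
    rw [hf g hg u hu e, map_one]

/-- orbit counting for a subgroup -/
theorem card_orb [Finite G] (L : Subgroup G) {x : X} {S : Set X}
    (hS : ∀ y, y ∈ S ↔ ∃ g ∈ L, g • x = y) :
    Nat.card L = S.ncard * Nat.card (L ⊓ stabilizer G x : Subgroup G) := by
  have : S = orbit L x := Set.ext fun y => (hS y).trans
    ⟨fun ⟨g, hg, e⟩ => ⟨⟨g, hg⟩, e⟩, fun ⟨g, e⟩ => ⟨g, g.2, e⟩⟩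
  rw [this, Perm.Der.ncard_orbit_subgroup, ← inf_relIndex_right, inf_comm, mul_comm, relIndex,
    ← Nat.card_congr (subgroupOfEquivOfLe (inf_le_left (a := L) (b := stabilizer G x))).toEquiv,
    card_mul_index]

theorem card_mul_le [Finite G] {A B C : Subgroup G} (hA : A ≤ C) (hB : B ≤ C)
    (h : ∀ x ∈ A, x ∈ B → x = 1) : Nat.card A * Nat.card B ≤ Nat.card C := by
  rw [← Nat.card_prod]
  refine Nat.card_le_card_of_injective (fun p => ⟨p.1 * p.2, mul_mem (hA p.1.2) (hB p.2.2)⟩)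
    fun p q e => ?_
  exact mul_injective_of_disjoint (disjoint_def.2 fun {x} a b => h x a b) (congrArg Subtype.val e)

namespace St

variable {Γ : SimpleGraph X} (h : St G Γ)
include h

theorem tr (u v : X) : ∃ g : G, g • u = v :=
  h.prim.toIsPretransitive.exists_smul_eq u v

theorem adj_smul {u v : X} {g : G} (hg : g • u = u) (a : Γ.Adj u v) : Γ.Adj u (g • v) := by
  rw [← hg, h.smul]; exact a

theorem adj_smul_iff {u v : X} {g : G} (hg : g • u = u) : Γ.Adj u (g • v) ↔ Γ.Adj u v := by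
  conv_lhs => rw [← hg, h.smul]

theorem block (r : X → X → Prop) (hs : ∀ (g : G) u v, r u v → r (g • u) (g • v))
    (h1 : ∀ u v, r u v → r v u) (h2 : ∀ u v w, r u v → r v w → r u w) {u v : X} (huv : r u v)
    (hne : u ≠ v) (w : X) : r u w := by
  have hb : IsBlock G {x | r u x} := by
    rw [isBlock_iff_smul_eq_of_nonempty]
    rintro g ⟨_, ⟨a, ha, rfl⟩, ha'⟩
    have e : r u (g • u) := h2 _ _ _ ha' (h1 _ _ (hs g _ _ ha))
    ext x
    rw [Set.mem_smul_set_iff_inv_smul_mem]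
    refine ⟨fun hx => h2 _ _ _ e (by simpa using hs g _ _ hx), fun hx => ?_⟩
    simpa using hs g⁻¹ _ _ (h2 _ _ _ (h1 _ _ e) hx)
  rcases h.prim.isTrivialBlock_of_isBlock hb with e | e
  · exact (hne (e (h2 _ _ _ huv (h1 _ _ huv)) huv)).elim
  · exact (e ▸ Set.mem_univ w : w ∈ {x | r u x})

theorem exists_path (u : X) : ∃ v w, Γ.Adj u v ∧ Γ.Adj v w ∧ u ≠ w ∧ ¬ Γ.Adj u w := by
  by_contra! hc
  obtain ⟨v, hv⟩ := h.ex1 u
  obtain ⟨w, hw, hw'⟩ := h.ex2 u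
  have key : ∀ a b c, Γ.Adj a b → Γ.Adj b c → a = c ∨ Γ.Adj a c := fun a b c ab bc => by
    obtain ⟨g, rfl⟩ := h.tr a u
    by_cases e : a = c
    · exact Or.inl e
    · exact Or.inr ((h.smul g _ _).1 (hc _ _ ((h.smul g _ _).2 ab) ((h.smul g _ _).2 bc)
        fun e' => e (smul_left_cancel g e')))
  have := h.block (fun a b => a = b ∨ Γ.Adj a b)
    (fun g a b r => r.imp (congrArg _) (h.smul g _ _).2) (fun a b r => r.imp Eq.symm Γ.adj_symm)
    (fun a b c r r' => by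
      rcases r with rfl | r
      · exact r'
      rcases r' with rfl | r'
      · exact Or.inr r
      exact key a b c r r') (Or.inr hv) hv.ne w
  exact this.elim hw hw'

theorem ncard_nb (u v : X) : (Γ.neighborSet u).ncard = (Γ.neighborSet v).ncard := by
  obtain ⟨g, rfl⟩ := h.tr u v
  refine (Set.ncard_congr (fun x _ => g • x) (fun x hx => (h.smul g _ _).2 hx)
    (fun a b _ _ e => smul_left_cancel g e) fun b hb => ⟨g⁻¹ • b, ?_, by simp⟩)
  exact (h.smul g _ _).1 (by simpa using hb)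

theorem not_sub [Finite X] {u v : X} (hne : u ≠ v) : ∃ w, Γ.Adj v w ∧ ¬ Γ.Adj u w := by
  by_contra! hc
  have e : Γ.neighborSet v = Γ.neighborSet u :=
    Set.eq_of_subset_of_ncard_le hc (h.ncard_nb u v).le
  obtain ⟨w, hw⟩ := h.ex1 u
  have := h.block (fun a b => Γ.neighborSet a = Γ.neighborSet b) (fun g a b r => by
    ext x
    obtain ⟨x, rfl⟩ := MulAction.surjective g x
    simpa [h.smul] using Set.ext_iff.1 r x) (fun _ _ => Eq.symm) (fun _ _ _ => Eq.trans)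
    e.symm hne w
  exact Γ.irrefl (show w ∈ Γ.neighborSet w from this ▸ hw)

/-- two adjacent non-neighbours -/
theorem exists_adj_nn [Finite X] {u v : X} (hne : u ≠ v) (hn : ¬ Γ.Adj u v) :
    ∃ w, Γ.Adj v w ∧ u ≠ w ∧ ¬ Γ.Adj u w := by
  obtain ⟨w, h1, h2⟩ := h.not_sub hne
  exact ⟨w, h1, fun e => hn (e ▸ h1.symm), h2⟩

theorem exists_ne_nb {u v : X} (a : Γ.Adj u v) : ∃ w, Γ.Adj u w ∧ v ≠ w := by
  obtain ⟨p, q, h1, h2, h3, -⟩ := h.exists_path v
  obtain ⟨g, e1, e2⟩ := h.tr1 h1 a.symm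
  exact ⟨g • q, e2 ▸ (h.smul g _ _).2 h2, fun e => h3 (smul_left_cancel g (e1.trans e))⟩

theorem frob {u v : X} (a : Γ.Adj u v) :
    IsFrobeniusComplement ((D G u v).subgroupOf (stabilizer G u)) := by
  refine ⟨fun e => ?_, fun e => ?_, fun g hg => eq_bot_iff.2 fun x hx => ?_⟩
  · obtain ⟨g, g1, gu, gv⟩ := h.nt a
    have : (⟨g, gu⟩ : stabilizer G u) ∈ (D G u v).subgroupOf _ := ⟨gu, gv⟩
    rw [e, mem_bot] at this
    exact g1 (congrArg Subtype.val this)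
  · obtain ⟨w, hw, hne⟩ := h.exists_ne_nb a
    obtain ⟨g, gu, gv⟩ := h.tr1 a hw
    have : (⟨g, gu⟩ : stabilizer G u) ∈ (D G u v).subgroupOf _ := e ▸ mem_top _
    exact hne (this.2.symm.trans gv)
  · obtain ⟨h1, y, hy, e⟩ := hx
    refine Subtype.ext (h.two a (h.adj_smul g.2 a) (fun e => hg ⟨g.2, e.symm⟩) x.2 h1.2 ?_)
    rw [← e]
    have : (y : G) • v = v := hy.2
    simp [mul_smul, this]

theorem exists_F [Finite G] (u : X) : ∃ N : Subgroup G,
    (∀ g, g ∈ N ↔ g • u = u ∧ (g = 1 ∨ ∀ v, Γ.Adj u v → g • v ≠ v)) ∧ Group.IsNilpotent N ∧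
      ∀ v w, Γ.Adj u v → Γ.Adj u w → ∃ x ∈ N, x • v = w := by
  obtain ⟨v, a⟩ := h.ex1 u
  obtain ⟨N, h1, h2, h3⟩ := S0035.result _ (h.frob a)
  have tv : ∀ w, Γ.Adj u w → ∃ x ∈ N.map (stabilizer G u).subtype, x • v = w := fun w b => by
    obtain ⟨g, gu, gv⟩ := h.tr1 a b
    obtain ⟨⟨x, y⟩, e⟩ := (h3.existsUnique ⟨g, gu⟩).exists
    refine ⟨x.1, mem_map_of_mem _ x.2, ?_⟩
    have e' : (x.1 : G) * y.1 = g := congrArg Subtype.val e
    rw [← gv, ← e', mul_smul, show (y.1 : G) • v = v from y.2.2]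
  refine ⟨N.map (stabilizer G u).subtype, fun g => ⟨?_, fun ⟨gu, hg⟩ => ⟨⟨g, gu⟩, ?_, rfl⟩⟩,
    ?_, fun p q hp hq => ?_⟩
  · rintro ⟨x, hx, rfl⟩
    refine ⟨x.2, ?_⟩
    have : x ∈ frobeniusKernel _ := h1 ▸ hx
    refine this.imp (congrArg Subtype.val) fun hx w b e => ?_
    obtain ⟨g, gu, rfl⟩ := h.tr1 a b
    let y : stabilizer G u := ⟨g, gu⟩
    refine hx y ⟨y⁻¹ * x * y, ⟨(y⁻¹ * x * y).2, ?_⟩, by simp [mul_assoc]⟩
    change (g⁻¹ * x * g) • v = v
    rw [mul_smul, mul_smul, show (x : G) • g • v = g • v from e, inv_smul_smul]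
  · change (⟨g, gu⟩ : stabilizer G u) ∈ (N : Set _)
    rw [h1]
    refine hg.imp (fun e => Subtype.ext e) fun hg y ⟨z, hz, e⟩ => hg (y.1 • v)
      (h.adj_smul y.2 a) ?_
    have e' : (y : G) * z * (y : G)⁻¹ = g := congrArg Subtype.val e
    rw [← e', mul_smul, mul_smul, inv_smul_smul, show (z : G) • v = v from hz.2]
  · have := Solv.Frob.isNilpotent_kernel (h.frob a) h3
    exact Group.nilpotent_of_mulEquiv (N.equivMapOfInjective _ (subtype_injective _))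
  · obtain ⟨x, hx, rfl⟩ := tv p hp
    obtain ⟨y, hy, rfl⟩ := tv q hq
    exact ⟨y * x⁻¹, mul_mem hy (inv_mem hx), by simp [mul_smul]⟩

variable [Finite G]

/-- the Frobenius kernel of a point stabiliser -/
noncomputable def F (u : X) : Subgroup G := (h.exists_F u).choose

theorem mem_F {u : X} {g : G} :
    g ∈ h.F u ↔ g • u = u ∧ (g = 1 ∨ ∀ v, Γ.Adj u v → g • v ≠ v) := (h.exists_F u).choose_spec.1 g

theorem nilp (u : X) : Group.IsNilpotent (h.F u) := (h.exists_F u).choose_spec.2.1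

theorem trF {u v w : X} (a : Γ.Adj u v) (b : Γ.Adj u w) : ∃ x ∈ h.F u, x • v = w :=
  (h.exists_F u).choose_spec.2.2 v w a b

theorem fixF {u : X} {g : G} (hg : g ∈ h.F u) : g • u = u := (h.mem_F.1 hg).1

theorem eq_one {u v : X} {g : G} (hg : g ∈ h.F u) (a : Γ.Adj u v) (e : g • v = v) : g = 1 :=
  (h.mem_F.1 hg).2.resolve_right fun hh => hh v a e

theorem conj_F {u : X} {g : G} (hg : g ∈ h.F u) (w : G) : w * g * w⁻¹ ∈ h.F (w • u) := by
  refine h.mem_F.2 ⟨by simp [mul_smul, h.fixF hg], (h.mem_F.1 hg).2.imp (fun e => by simp [e])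
    fun hh v a e => hh (w⁻¹ • v) ((h.smul w _ _).1 (by simpa using a)) ?_⟩
  rw [eq_inv_smul_iff, ← mul_smul, ← mul_smul, e]

theorem conj_F' {u : X} {g w : G} (hg : g ∈ h.F u) (hw : w • u = u) : w * g * w⁻¹ ∈ h.F u := by
  simpa [hw] using h.conj_F hg w

theorem exists_nb {u : X} {g : G} (gu : g • u = u) (hg : g ∉ h.F u) :
    g ≠ 1 ∧ ∃ v, Γ.Adj u v ∧ g • v = v := by
  rw [h.mem_F] at hg
  push Not at hg
  exact hg gu

theorem mem_F_of_comm {u : X} {g x : G} (gu : g • u = u) (hx : x ∈ h.F u) (x1 : x ≠ 1)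
    (c : g * x = x * g) : g ∈ h.F u := by
  by_contra hg
  obtain ⟨g1, v, a, e⟩ := h.exists_nb gu hg
  exact g1 (h.two a (h.adj_smul (h.fixF hx) a) (fun e' => x1 (h.eq_one hx a e'.symm)) gu e
    (by rw [← mul_smul, c, mul_smul, e]))

theorem free_conj {u v : X} (a : Γ.Adj u v) {g x : G} (hg : g ∈ D G u v) (hx : x ∈ h.F u)
    (x1 : x ≠ 1) (c : g * x * g⁻¹ = x) : g = 1 :=
  h.eq_one (h.mem_F_of_comm hg.1 hx x1 (mul_inv_eq_iff_eq_mul.1 c)) a hg.2

theorem card_F (u : X) : Nat.card (h.F u) = (Γ.neighborSet u).ncard := by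
  obtain ⟨v, a⟩ := h.ex1 u
  rw [card_orb (h.F u) (x := v) (S := Γ.neighborSet u) fun y =>
    ⟨h.trF a, fun ⟨g, hg, e⟩ => e ▸ h.adj_smul (h.fixF hg) a⟩,
    (eq_bot_iff.2 fun g hg => h.eq_one hg.1 a hg.2 : h.F u ⊓ stabilizer G v = ⊥), card_bot, mul_one]

theorem card_F_eq (u v : X) : Nat.card (h.F u) = Nat.card (h.F v) := by
  rw [card_F, card_F, h.ncard_nb u v]

omit [Finite G] in
theorem card_D1 {u v u' v' : X} (a : Γ.Adj u v) (b : Γ.Adj u' v') :
    Nat.card (D G u v) = Nat.card (D G u' v') := by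
  obtain ⟨g, rfl, rfl⟩ := h.tr1 a b
  exact (card_D_smul g u v).symm

omit [Finite G] in
theorem card_D2 {u v u' v' : X} (n : u ≠ v) (n' : u' ≠ v') (a : ¬ Γ.Adj u v) (b : ¬ Γ.Adj u' v') :
    Nat.card (D G u v) = Nat.card (D G u' v') := by
  obtain ⟨g, rfl, rfl⟩ := h.tr2 n n' a b
  exact (card_D_smul g u v).symm

/-- the order of a subgroup between the kernel and the point stabiliser -/
theorem card_over {u v : X} (a : Γ.Adj u v) {N : Subgroup G} (h1 : h.F u ≤ N)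
    (h2 : N ≤ stabilizer G u) :
    Nat.card N = Nat.card (h.F u) * Nat.card (N ⊓ stabilizer G v : Subgroup G) := by
  rw [card_F]
  exact card_orb N fun y => ⟨fun b => (h.trF a b).imp fun x hx => ⟨h1 hx.1, hx.2⟩,
    fun ⟨g, hg, e⟩ => e ▸ h.adj_smul (h2 hg) a⟩

theorem card_stab {u v : X} (a : Γ.Adj u v) :
    Nat.card (stabilizer G u) = Nat.card (h.F u) * Nat.card (D G u v) :=
  h.card_over a (fun _ => h.fixF) le_rfl

theorem card_stab' {u v : X} (n : u ≠ v) (a : ¬ Γ.Adj u v) :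
    Nat.card (stabilizer G u) = {w | u ≠ w ∧ ¬ Γ.Adj u w}.ncard * Nat.card (D G u v) :=
  card_orb _ fun _ => ⟨fun b => h.tr2 n b.1 a b.2, fun ⟨g, hg, e⟩ => e ▸
    ⟨fun e => n (smul_left_cancel g (hg.trans e)), fun b => a ((h.adj_smul_iff hg).1 b)⟩⟩

omit [Finite G] in
theorem card_G (u : X) : Nat.card G = Nat.card X * Nat.card (stabilizer G u) := by
  have := h.prim.toIsPretransitive
  rw [← index_stabilizer_of_transitive G u, mul_comm, card_mul_index]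

theorem dvd_sub {u v : X} (a : Γ.Adj u v) {Y N : Subgroup G} (hY : Y ≤ h.F u) (hN : N ≤ D G u v)
    (hn : ∀ g ∈ N, ∀ y ∈ Y, g * y * g⁻¹ ∈ Y) : Nat.card N ∣ Nat.card Y - 1 := by
  have := dvd_free_conj N ((Y : Set G) \ {1}) (fun g hg y hy => ⟨hn g hg y hy.1, by
    simpa using hy.2⟩) fun g hg y hy e => h.free_conj a (hN hg) (hY hy.1) hy.2 e
  rwa [Set.ncard_sdiff_singleton_of_mem (one_mem Y)] at this

theorem dvd_k {u v : X} (a : Γ.Adj u v) : Nat.card (D G u v) ∣ Nat.card (h.F u) - 1 :=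
  h.dvd_sub a le_rfl le_rfl fun _ hg _ hy => h.conj_F' hy hg.1

theorem coprime {u v : X} (a : Γ.Adj u v) (w : X) :
    (Nat.card (h.F w)).Coprime (Nat.card (D G u v)) := by
  rw [h.card_F_eq w u]
  refine Nat.Coprime.coprime_dvd_right (h.dvd_k a) ?_
  have := Nat.card_pos (α := h.F u)
  obtain ⟨c, hc⟩ : ∃ c, Nat.card (h.F u) = c + 1 := ⟨_, (Nat.sub_add_cancel this).symm⟩
  simp [hc]

theorem mem_F_of_cop {u : X} {g : G} (gu : g • u = u)
    (hc : ∀ v, Γ.Adj u v → (orderOf g).Coprime (Nat.card (D G u v))) : g ∈ h.F u := by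
  by_contra hg
  obtain ⟨g1, v, a, e⟩ := h.exists_nb gu hg
  exact g1 (orderOf_eq_one_iff.1 ((hc v a).eq_one_of_dvd (orderOf_dvd_natCard _
    (show g ∈ D G u v from ⟨gu, e⟩))))

theorem mem_F_of_fix {u w : X} {g : G} (hg : g ∈ h.F w) (gu : g • u = u) : g ∈ h.F u :=
  h.mem_F_of_cop gu fun _ a => (h.coprime a w).coprime_dvd_left (orderOf_dvd_natCard _ hg)

theorem not_adj {u v w : X} {g : G} (hg : g ∈ h.F w) (g1 : g ≠ 1) (gu : g • u = u)
    (gv : g • v = v) : ¬ Γ.Adj u v := fun a => g1 (h.eq_one (h.mem_F_of_fix hg gu) a gv)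

theorem exists_moved [Finite X] {u : X} {g : G} (hg : g ∈ h.F u) (g1 : g ≠ 1) :
    ∃ v, u ≠ v ∧ ¬ Γ.Adj u v ∧ g • v ≠ v := by
  by_contra! hc
  obtain ⟨v, n, a⟩ := h.ex2 u
  obtain ⟨w, b, n', a'⟩ := h.exists_adj_nn n a
  exact h.not_adj hg g1 (hc v n a) (hc w n' a') b

end St

end Cfsg.Agent.TwoTr.Fr
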