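import Mathlib
import Cfsg.Agent.TwoTr.FrBase
import Cfsg.Agent.Bender.Cor
import Cfsg.Agent.S0065

/-! Rank 3 Frobenius groups: the two-point stabiliser of an edge has even order. -/

set_option autoImplicit false

namespace Cfsg.Agent.TwoTr.Fr

open MulAction Subgroup Cfsg.Agent.Perm.DoubleCount

variable {G X : Type*} [Group G] [MulAction G X]

theorem central_invol {H : Type*} [Group H] [Finite H] [Group.IsNilpotent H]
    (he : Even (Nat.card H)) : ∃ z : H, z ≠ 1 ∧ z * z = 1 ∧ ∀ x, x * z = z * x := by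
  obtain ⟨P⟩ : Nonempty (Sylow 2 H) := inferInstance
  have h1 := S0065.result (P : Subgroup H) (P.ne_bot_of_dvd_card he.two_dvd)
  obtain ⟨k, hk⟩ := IsPGroup.iff_card.1 (P.isPGroup'.to_le (inf_le_left (b := center H)))
  obtain ⟨z, hz, z1, z2⟩ := RankOne.exists_invol_of_even (X := (P : Subgroup H) ⊓ center H) (by
    rw [hk]
    refine (Nat.even_pow.2 ⟨even_two, ?_⟩)
    rintro rfl
    exact h1 (card_eq_one.1 hk))
  exact ⟨z, z1, z2, mem_center_iff.1 hz.2⟩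

/-- two involutions with unique fixed points on an invariant set -/
theorem swap [Finite G] {Δ : Set X} {z t : G} {a p : X} (z2 : z * z = 1) (t2 : t * t = 1)
    (hz : ∀ x ∈ Δ, z • x ∈ Δ) (ht : ∀ x ∈ Δ, t • x ∈ Δ) (ha : a ∈ Δ) (hp : p ∈ Δ)
    (za : ∀ x ∈ Δ, z • x = x ↔ x = a) (tp : ∀ x ∈ Δ, t • x = x ↔ x = p)
    (ho : ∀ g : G, g • a = a → g • p = p → (∀ x ∈ Δ, (g * g) • x = x) → ∀ x ∈ Δ, g • x = x) :
    ∃ j : ℕ, ((z * t) ^ j * z) • a = p ∧ ((z * t) ^ j * z) • p = a ∧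
      ∀ x ∈ Δ, ((z * t) ^ j * z * z * ((z * t) ^ j * z)⁻¹) • x = t • x := by
  classical
  have hex : ∃ m, 0 < m ∧ ∀ x ∈ Δ, (z * t) ^ m • x = x :=
    ⟨orderOf (z * t), orderOf_pos _, fun x _ => by rw [pow_orderOf_eq_one, one_smul]⟩
  obtain ⟨m0, hm⟩ := Nat.find_spec hex
  have zi : z⁻¹ = z := inv_eq_of_mul_eq_one_right z2
  have ti : t⁻¹ = t := inv_eq_of_mul_eq_one_right t2
  have e1 : ∀ j : ℕ, z * (z * t) ^ j = ((z * t) ^ j)⁻¹ * z := fun j => by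
    rw [← inv_pow, ← mul_inv_eq_iff_eq_mul, ← conj_pow, mul_inv_rev, zi, ti, ← mul_assoc, z2,
      one_mul]
  have e2 : ∀ j : ℕ, t * (z * t) ^ j = ((z * t) ^ j)⁻¹ * t := fun j => by
    rw [← inv_pow, ← mul_inv_eq_iff_eq_mul, ← conj_pow, mul_inv_rev, zi, ti, mul_assoc, mul_assoc,
      t2, mul_one]
  have hin : ∀ j : ℕ, ∀ x ∈ Δ, (z * t) ^ j • x ∈ Δ := fun j => by
    induction j with
    | zero => simp
    | succ j ih => exact fun x hx => by rw [pow_succ, mul_smul, mul_smul]; exact ih _ (hz _ (ht _ hx))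
  obtain ⟨c, hc | hc⟩ := Nat.even_or_odd' (Nat.find hex)
  · rw [hc, two_mul] at hm m0
    have k : ∀ {y : G} {b : X}, y * (z * t) ^ c = ((z * t) ^ c)⁻¹ * y → b ∈ Δ →
        (∀ x ∈ Δ, y • x = x ↔ x = b) → (z * t) ^ c • b = b := fun {y b} e hb yb => by
      refine (yb _ (hin c b hb)).1 ?_
      rw [← mul_smul, e, mul_smul, (yb b hb).2 rfl, inv_smul_eq_iff, ← mul_smul, ← pow_add, hm b hb]
    exact (Nat.find_min hex (m := c) (by omega) ⟨by omega, ho _ (k (e1 c) ha za) (k (e2 c) hp tp)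
      (by rwa [← pow_add])⟩).elim
  · have e3 : ∀ x ∈ Δ, ((z * t) ^ c * z * z * ((z * t) ^ c * z)⁻¹) • x = t • x := fun x hx => by
      have : (z * t) ^ c * z * z * ((z * t) ^ c * z)⁻¹ = (z * t) ^ (2 * c + 1) * t := by
        have e : z * ((z * t) ^ c)⁻¹ = (z * t) ^ c * z := by
          rw [mul_inv_eq_iff_eq_mul, mul_assoc, e1, mul_inv_cancel_left]
        rw [mul_assoc _ z z, z2, mul_one, mul_inv_rev, zi, e, pow_succ, two_mul, pow_add,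
          mul_assoc _ (z * t), mul_assoc z, t2, mul_one, mul_assoc]
      rw [this, mul_smul, ← hc, hm _ (ht x hx)]
    have e4 : ((z * t) ^ c * z) • a = p := by
      have hd : ((z * t) ^ c * z) • a ∈ Δ := by rw [mul_smul]; exact hin _ _ (hz a ha)
      refine (tp _ hd).1 ?_
      rw [← e3 _ hd, mul_smul, inv_smul_smul, mul_smul, (za a ha).2 rfl]
    refine ⟨c, e4, ?_, e3⟩
    rw [← e4, ← mul_smul, mul_assoc, ← mul_assoc z, e1, ← mul_assoc, ← mul_assoc, mul_inv_cancel,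
      one_mul, z2, one_smul]

namespace St

variable {Γ : SimpleGraph X} (h : St G Γ) [Finite G]
include h

/-- part of the kernel fixing a second point -/
noncomputable def XX (u v : X) : Subgroup G := h.F u ⊓ stabilizer G v

theorem mem_XX {u v : X} {g : G} : g ∈ h.XX u v ↔ g ∈ h.F u ∧ g • v = v := Iff.rfl

theorem XX_comm (u v : X) : h.XX u v = h.XX v u :=
  le_antisymm (fun _ hg => ⟨h.mem_F_of_fix hg.1 hg.2, h.fixF hg.1⟩)
    fun _ hg => ⟨h.mem_F_of_fix hg.1 hg.2, h.fixF hg.1⟩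

theorem conj_XX {u v : X} {g : G} (hg : g ∈ h.XX u v) (w : G) :
    w * g * w⁻¹ ∈ h.XX (w • u) (w • v) :=
  ⟨h.conj_F hg.1 w, by simp [mul_smul, (h.mem_XX.1 hg).2]⟩

theorem card_XX {u v u' v' : X} (n : u ≠ v) (n' : u' ≠ v') (a : ¬ Γ.Adj u v) (b : ¬ Γ.Adj u' v') :
    Nat.card (h.XX u v) = Nat.card (h.XX u' v') := by
  obtain ⟨g, rfl, rfl⟩ := h.tr2 n n' a b
  exact Nat.card_congr ((MulAut.conj g).toEquiv.subtypeEquiv fun x =>
    ⟨fun hx => h.conj_XX hx g, fun hx => by simpa [mul_assoc] using h.conj_XX hx g⁻¹⟩)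

theorem XX_eq {u v p q : X} (n : u ≠ v) (a : ¬ Γ.Adj u v) (hX : h.XX u v ≠ ⊥) (n' : p ≠ q)
    (hp : ∀ x ∈ h.XX u v, x • p = p) (hq : ∀ x ∈ h.XX u v, x • q = q) :
    ¬ Γ.Adj p q ∧ h.XX p q = h.XX u v := by
  obtain ⟨x, x1⟩ := ne_bot_iff_exists_ne_one.1 hX
  have b := h.not_adj x.2.1 (fun e => x1 (Subtype.ext e)) (hp x x.2) (hq x x.2)
  have hle : h.XX u v ≤ h.XX p q := fun y hy => ⟨h.mem_F_of_fix hy.1 (hp y hy), hq y hy⟩
  exact ⟨b, (eq_of_le_of_card_ge hle (h.card_XX n' n b a).le).symm⟩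

/-- central elements of order at most two in the kernel -/
def Z (u : X) : Subgroup G where
  carrier := {z | z ∈ h.F u ∧ z * z = 1 ∧ ∀ x ∈ h.F u, x * z = z * x}
  one_mem' := ⟨one_mem _, mul_one _, by simp⟩
  mul_mem' := fun {a b} ha hb => ⟨mul_mem ha.1 hb.1, by
    rw [mul_assoc, ← mul_assoc b, ha.2.2 b hb.1, mul_assoc, hb.2.1, mul_one, ha.2.1],
    fun x hx => by rw [← mul_assoc, ha.2.2 x hx, mul_assoc, hb.2.2 x hx, mul_assoc]⟩
  inv_mem' := fun {a} ha => by rwa [inv_eq_of_mul_eq_one_right ha.2.1]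

theorem conj_Z {u : X} {z : G} (hz : z ∈ h.Z u) (w : G) : w * z * w⁻¹ ∈ h.Z (w • u) :=
  ⟨h.conj_F hz.1 w, by rw [conj_mul, hz.2.1]; simp, fun x hx => by
    have := hz.2.2 (w⁻¹ * x * w⁻¹⁻¹) (by simpa using h.conj_F hx w⁻¹)
    calc x * (w * z * w⁻¹) = w * (w⁻¹ * x * w⁻¹⁻¹ * z) * w⁻¹ := by group
      _ = _ := by rw [this]; group⟩

theorem conj_Z' {u : X} {z w : G} (hz : z ∈ h.Z u) (hw : w • u = u) : w * z * w⁻¹ ∈ h.Z u := by
  simpa [hw] using h.conj_Z hz w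

theorem card_Z (u v : X) : Nat.card (h.Z u) = Nat.card (h.Z v) := by
  obtain ⟨g, rfl⟩ := h.tr u v
  exact Nat.card_congr ((MulAut.conj g).toEquiv.subtypeEquiv fun x =>
    ⟨fun hx => h.conj_Z hx g, fun hx => by simpa [mul_assoc] using h.conj_Z hx g⁻¹⟩)

theorem card_X [Finite X] (u : X) :
    Nat.card X = 1 + Nat.card (h.F u) + {w | u ≠ w ∧ ¬ Γ.Adj u w}.ncard := by
  rw [card_F, ← Set.ncard_singleton u, ← Set.ncard_union_eq (by simp),
    ← Set.ncard_union_eq (Set.disjoint_left.2 (by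
      rintro w (rfl | e) ⟨e1, e2⟩
      exacts [e1 rfl, e2 e])), ← Set.ncard_univ]
  congr 1
  refine (Set.eq_univ_of_forall fun w => ?_).symm
  by_cases e : u = w
  · exact Or.inl (Or.inl e.symm)
  by_cases e' : Γ.Adj u w
  exacts [Or.inl (Or.inr e'), Or.inr ⟨e, e'⟩]

section Odd

variable [Finite X] (hG : Even (Nat.card G))
  (ho : ∀ {u v : X}, Γ.Adj u v → Odd (Nat.card (D G u v)))
include ho

omit [Finite X] in
theorem mem_F_of_sq {u : X} {g : G} (gu : g • u = u) (hg : g * g ∈ h.F u) : g ∈ h.F u := by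
  by_contra hn
  obtain ⟨g1, v, a, e⟩ := h.exists_nb gu hn
  have h2 : g ^ 2 = 1 := by rw [sq]; exact h.eq_one hg a (by rw [mul_smul, e, e])
  exact g1 (orderOf_eq_one_iff.1 (Nat.eq_one_of_dvd_coprimes (ho a).coprime_two_left
    (orderOf_dvd_of_pow_eq_one h2) (orderOf_dvd_natCard _ (show g ∈ D G u v from ⟨gu, e⟩))))

include hG in
theorem even_F (u : X) : Even (Nat.card (h.F u)) := by
  obtain ⟨v, a⟩ := h.ex1 u
  obtain ⟨w, n, b⟩ := h.ex2 u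
  by_contra hk
  rw [Nat.not_even_iff_odd] at hk
  have h1 : Odd (Nat.card (stabilizer G u)) := by rw [h.card_stab a]; exact hk.mul (ho a)
  have h2 := h1
  rw [h.card_stab' n b, Nat.odd_mul] at h2
  rw [h.card_G u, h.card_X u, ← Nat.not_odd_iff_even] at hG
  exact hG (Odd.mul ((odd_one.add_odd hk).add_odd h2.1) h1)

include hG in
theorem exists_Z (u : X) : ∃ z ∈ h.Z u, z ≠ 1 := by
  have := h.nilp u
  obtain ⟨z, z1, z2, hz⟩ := central_invol (h.even_F hG ho u)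
  exact ⟨z, ⟨z.2, congrArg Subtype.val z2, fun x hx => congrArg Subtype.val (hz ⟨x, hx⟩)⟩,
    fun e => z1 (Subtype.ext e)⟩

omit [Finite X] ho in
theorem dvd_Z {u v : X} (a : Γ.Adj u v) : Nat.card (D G u v) ∣ Nat.card (h.Z u) - 1 :=
  h.dvd_sub a (fun _ hz => hz.1) le_rfl fun _ hg _ hy => h.conj_Z' hy hg.1

omit [Finite X] in
theorem three_le {u v : X} (a : Γ.Adj u v) : 3 ≤ Nat.card (D G u v) := by
  obtain ⟨g, g1, hg⟩ := h.nt a
  have : 1 < Nat.card (D G u v) := one_lt_card_iff_ne_bot _ |>.2 fun e =>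
    g1 (mem_bot.1 (e ▸ (hg : g ∈ D G u v)))
  obtain ⟨c, hc⟩ := ho a
  omega

include hG in
theorem four_le (u : X) : 4 ≤ Nat.card (h.Z u) := by
  obtain ⟨v, a⟩ := h.ex1 u
  obtain ⟨z, hz, z1⟩ := h.exists_Z hG ho u
  have : 1 < Nat.card (h.Z u) := one_lt_card_iff_ne_bot _ |>.2 fun e => z1 (mem_bot.1 (e ▸ hz))
  have h1 := Nat.le_of_dvd (by omega) (h.dvd_Z a)
  have := h.three_le ho a
  omega

include hG in
theorem XX_ne_bot {u v : X} (n : u ≠ v) (a : ¬ Γ.Adj u v) : h.XX u v ≠ ⊥ := fun hX => by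
  obtain ⟨b, ab⟩ := h.ex1 u
  have hH : IsStronglyEmbedded (stabilizer G u) := by
    refine ⟨fun e => ?_, by rw [h.card_stab ab]; exact (h.even_F hG ho u).mul_right _,
      fun g hg => Nat.not_even_iff_odd.1 fun he => ?_⟩
    · obtain ⟨g, hg⟩ := h.tr u v
      exact n ((show g • u = u from (e ▸ mem_top g : g ∈ stabilizer G u)).symm.trans hg)
    · obtain ⟨t, ⟨tu, y, hy, rfl⟩, t1, t2⟩ := RankOne.exists_invol_of_even he
      have hF := h.mem_F_of_sq ho tu (by rw [t2]; exact one_mem _)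
      have e : ((MulAut.conj g).toMonoidHom y) • g • u = g • u := by
        simp [mul_smul, show y • u = u from hy]
      have b := h.not_adj hF t1 tu e
      have := h.card_XX (fun e => hg e.symm) n b a
      rw [hX, card_bot, card_eq_one] at this
      exact t1 (mem_bot.1 (this ▸ (⟨hF, e⟩ : _ ∈ h.XX u (g • u))))
  have h2 : Suz.TwoRank G := by
    have := h.four_le hG ho u
    obtain ⟨x, y, x1, y1, xy⟩ : ∃ x y : h.Z u, x ≠ 1 ∧ y ≠ 1 ∧ x ≠ y := by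
      classical
      have := Fintype.ofFinite (h.Z u)
      obtain ⟨a, b, c, h1, h2, h3⟩ := Fintype.two_lt_card_iff.1
        (show 2 < Fintype.card (h.Z u) by rw [← Nat.card_eq_fintype_card]; omega)
      by_cases e : a = 1
      · exact ⟨b, c, e ▸ h1.symm, e ▸ h2.symm, h3⟩
      by_cases e' : b = 1
      exacts [⟨a, c, e, e' ▸ h3.symm, h2⟩, ⟨a, b, e, e', h1⟩]
    exact ⟨x, y, fun e => x1 (Subtype.ext e), fun e => y1 (Subtype.ext e),
      fun e => xy (Subtype.ext e), x.2.2.1, y.2.2.1, y.2.2.2 x x.2.1⟩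
  obtain ⟨g, rfl⟩ := h.tr u b
  obtain ⟨k, rfl⟩ := h.tr u v
  obtain ⟨x, hx, e⟩ := Bender.two_trans_of_twoRank hH h2 (g₁ := g) (g₂ := k)
    (fun e => ab.ne (Eq.symm e)) fun e => n (Eq.symm e)
  rw [mem_stabilizer_iff, mul_smul, inv_smul_eq_iff, mul_smul] at e
  exact a (e ▸ h.adj_smul hx ab)

include hG in
theorem exists_out {u v : X} (n : u ≠ v) (a : ¬ Γ.Adj u v) : ∃ z ∈ h.Z u, z • v ≠ v := by
  obtain ⟨z, hz, z1⟩ := h.exists_Z hG ho u
  obtain ⟨p, n', a', e⟩ := h.exists_moved hz.1 z1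
  obtain ⟨g, gu, rfl⟩ := h.tr2 n' n a' a
  exact ⟨g * z * g⁻¹, h.conj_Z' hz gu, by simpa [mul_smul] using e⟩

include hG in
theorem fix_out {u v p : X} (n : u ≠ v) (a : ¬ Γ.Adj u v) {z : G} (hz : z ∈ h.Z u)
    (e : z • v ≠ v) (hp : ∀ x ∈ h.XX u v, x • p = p) : z • p = p ↔ p = u := by
  refine ⟨fun e' => by_contra fun n' => e ?_, fun e' => e' ▸ h.fixF hz.1⟩
  have := (h.XX_eq n a (h.XX_ne_bot hG ho n a) (Ne.symm n') (fun x hx => h.fixF hx.1) hp).2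
  exact (this ▸ (⟨hz.1, e'⟩ : z ∈ h.XX u p) : z ∈ h.XX u v).2

include hG in
theorem exists_swap {u v : X} (n : u ≠ v) (a : ¬ Γ.Adj u v) {z t : G} (hz : z ∈ h.Z u)
    (e : z • v ≠ v) (ht : t ∈ h.Z v) (e' : t • u ≠ u) :
    ∃ w : G, w • u = v ∧ w • v = u ∧ (∀ x ∈ h.XX u v, x * w = w * x) ∧
      ∀ p : X, (∀ x ∈ h.XX u v, x • p = p) → (w * z * w⁻¹) • p = t • p := by
  have cz : ∀ x ∈ h.XX u v, x * z = z * x := fun x hx => hz.2.2 x hx.1
  have ct : ∀ x ∈ h.XX u v, x * t = t * x := fun x hx => ht.2.2 x (h.XX_comm u v ▸ hx).1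
  obtain ⟨j, h1, h2, h3⟩ := swap (Δ := {p | ∀ x ∈ h.XX u v, x • p = p}) (a := u) (p := v) hz.2.1
    ht.2.1 (fun p hp x hx => by rw [← mul_smul, cz x hx, mul_smul, hp x hx])
    (fun p hp x hx => by rw [← mul_smul, ct x hx, mul_smul, hp x hx]) (fun x hx => h.fixF hx.1)
    (fun x hx => hx.2) (fun p hp => h.fix_out hG ho n a hz e hp)
    (fun p hp => h.fix_out hG ho n.symm (fun b => a b.symm) ht e' (h.XX_comm u v ▸ hp))
    fun g gu gv hg p hp => by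
      by_cases hn : g ∈ h.F u
      · exact hp g ⟨hn, gv⟩
      obtain ⟨-, w, b, e⟩ := h.exists_nb gu hn
      obtain ⟨c, hc⟩ := ho b
      have h1 : g ^ (2 * c + 1) = 1 := hc ▸ congrArg Subtype.val
        (pow_card_eq_one' (x := (⟨g, gu, e⟩ : D G u w)))
      have h2 : (g * g) ^ c • p = p := (stabilizer G p).pow_mem (hg p hp) c
      rw [← h2, ← mul_smul, ← sq, ← pow_mul, ← pow_succ', h1, one_smul, pow_mul, sq, h2]
  exact ⟨_, h1, h2, fun x hx => ((Commute.mul_right (cz x hx) (ct x hx)).pow_right j).mul_right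
    (cz x hx), h3⟩

include hG in
theorem mul_fix {u v : X} (n : u ≠ v) (a : ¬ Γ.Adj u v) {z y : G} (hz : z ∈ h.Z u)
    (e : z • v ≠ v) (hy : y ∈ h.Z u) (e' : y • v ≠ v) : (z * y) • v = v := by
  obtain ⟨t, ht, e''⟩ := h.exists_out hG ho n.symm fun b => a b.symm
  obtain ⟨w, w1, w2, w3, w4⟩ := h.exists_swap hG ho n a hz e ht e''
  obtain ⟨x, x1, x2, x3, x4⟩ := h.exists_swap hG ho n a hy e' ht e''
  obtain ⟨s, s1⟩ := ne_bot_iff_exists_ne_one.1 (h.XX_ne_bot hG ho n a)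
  have hF : w⁻¹ * x ∈ h.F u := h.mem_F_of_comm (by rw [mul_smul, x1, inv_smul_eq_iff, w1]) s.2.1
    (fun e => s1 (Subtype.ext e)) ((Commute.inv_right (w3 s s.2)).mul_right (x3 s s.2)).symm
  have c := hy.2.2 _ hF
  have h1 := (w4 u fun x hx => h.fixF hx.1).trans (x4 u fun x hx => h.fixF hx.1).symm
  have h2 : x * y * x⁻¹ = w * y * w⁻¹ := by
    calc x * y * x⁻¹ = w * (w⁻¹ * x * y) * x⁻¹ := by group
      _ = _ := by rw [c]; group
  rw [h2, mul_smul, mul_smul, mul_smul, mul_smul, smul_left_cancel_iff,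
    inv_smul_eq_iff.2 w2.symm] at h1
  rw [mul_smul, ← h1, ← mul_smul, hz.2.1, one_smul]

include hG in
theorem mem_Z_of_fix {u v : X} (n : u ≠ v) (a : ¬ Γ.Adj u v) {y : G} (hy : y ∈ h.Z u)
    (e' : y • v = v) : y ∈ h.Z v := by
  obtain ⟨z, hz, e⟩ := h.exists_out hG ho n a
  obtain ⟨t, ht, e''⟩ := h.exists_out hG ho n.symm fun b => a b.symm
  obtain ⟨w, w1, -, w3, -⟩ := h.exists_swap hG ho n a hz e ht e''
  have := h.conj_Z hy w
  rwa [w1, ← w3 y ⟨hy.1, e'⟩, mul_inv_cancel_right] at this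

include hG in
theorem card_inf {u v : X} (n : u ≠ v) (a : ¬ Γ.Adj u v) :
    Nat.card (h.Z u ⊓ h.Z v : Subgroup G) * 2 = Nat.card (h.Z u) := by
  obtain ⟨z, hz, e⟩ := h.exists_out hG ho n a
  have : ((h.Z u ⊓ h.Z v).subgroupOf (h.Z u)).index = 2 := by
    refine index_eq_two_iff'.2 ⟨⟨z, hz⟩, fun y => ?_⟩
    by_cases e' : (y : G) • v = v
    · refine Or.inr ⟨⟨y.2, h.mem_Z_of_fix hG ho n a y.2 e'⟩, fun hh => e ?_⟩
      have : (z * y) • v = v := h.fixF hh.2.1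
      rwa [mul_smul, e'] at this
    · exact Or.inl ⟨⟨mul_mem hz y.2, h.mem_Z_of_fix hG ho n a (mul_mem hz y.2)
        (h.mul_fix hG ho n a hz e y.2 e')⟩, fun hh => e' (h.fixF hh.2.1)⟩
  rw [← this, ← Nat.card_congr (subgroupOfEquivOfLe (inf_le_left (a := h.Z u) (b := h.Z v))).toEquiv,
    card_mul_index]

include hG in
theorem card_Z_four (u : X) : Nat.card (h.Z u) = 4 := by
  obtain ⟨v, n, a⟩ := h.ex2 u
  obtain ⟨w, b, c⟩ := h.not_sub n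
  have n' : u ≠ w := fun e => a (e ▸ b.symm)
  have h1 := card_mul_le (inf_le_left (a := h.Z u) (b := h.Z v))
    (inf_le_left (a := h.Z u) (b := h.Z w)) fun x hx hy => h.eq_one hx.2.1 b (h.fixF hy.2.1)
  have h2 := h.card_inf hG ho n a
  have h3 := h.card_inf hG ho n' c
  have h4 := h.four_le hG ho u
  nlinarith

include hG in
theorem exists_z {u v : X} (n : u ≠ v) (a : ¬ Γ.Adj u v) : ∃ z : G, z ≠ 1 ∧ z ∈ h.Z u ∧ z ∈ h.Z v ∧
    ∀ y, y ≠ 1 → y ∈ h.Z u → y ∈ h.Z v → y = z := by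
  have h2 := h.card_inf hG ho n a
  rw [h.card_Z_four hG ho] at h2
  obtain ⟨z, z1, hz⟩ := (Nat.card_eq_two_iff' (1 : (h.Z u ⊓ h.Z v : Subgroup G))).1 (by omega)
  exact ⟨z, fun e => z1 (Subtype.ext e), z.2.1, z.2.2, fun y y1 hu hv =>
    congrArg Subtype.val (hz ⟨y, hu, hv⟩ fun e => y1 (congrArg Subtype.val e))⟩

include hG in
theorem no_tri {u v p : X} (n : u ≠ v) (a : ¬ Γ.Adj u v) (n1 : u ≠ p) (a1 : ¬ Γ.Adj u p)
    (n2 : v ≠ p) (a2 : ¬ Γ.Adj v p) {z : G} (z1 : z ≠ 1) (hu : z ∈ h.Z u) (hv : z ∈ h.Z v) :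
    z ∈ h.Z p := by
  obtain ⟨s, -, -, -, hs⟩ := h.exists_z hG ho n a
  obtain ⟨x, x1, xu, xp, -⟩ := h.exists_z hG ho n1 a1
  obtain ⟨y, y1, yv, yp, -⟩ := h.exists_z hG ho n2 a2
  by_cases e : x • v = v
  · rwa [hs z z1 hu hv, ← hs x x1 xu (h.mem_Z_of_fix hG ho n a xu e)]
  by_cases e' : y • u = u
  · rwa [hs z z1 hu hv, ← hs y y1 (h.mem_Z_of_fix hG ho n.symm (fun b => a b.symm) yv e') yv]
  refine (e' ((h.fix_out hG ho n a xu e fun g hg => ?_).1 ?_)).elim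
  · rw [← mul_smul, yv.2.2 g (h.XX_comm u v ▸ hg).1, mul_smul, h.fixF hg.1]
  · rw [← mul_smul, yp.2.2 x xp.1, mul_smul, h.fixF xu.1]

include hG in
theorem false_of_odd (u : X) : False := by
  have hZ := h.card_Z_four hG ho u
  have e3 : ∀ {b}, Γ.Adj u b → Nat.card (D G u b) = 3 := fun b =>
    le_antisymm (Nat.le_of_dvd (by norm_num) (by simpa [hZ] using h.dvd_Z b)) (h.three_le ho b)
  have hZ' : ((h.Z u : Set G) \ {1}).ncard = 3 := by
    rw [Set.ncard_sdiff_singleton_of_mem (one_mem _), ← Nat.card_coe_set_eq]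
    exact congrArg (· - 1) hZ
  obtain ⟨c, n, a⟩ := h.ex2 u
  obtain ⟨w, aw, cw⟩ := h.not_sub n.symm
  have hJ : ∀ {g : G} {p}, g • u = u → u ≠ p ∧ ¬ Γ.Adj u p → u ≠ g • p ∧ ¬ Γ.Adj u (g • p) :=
    fun {g p} gu hp => ⟨fun e => hp.1 (smul_left_cancel g (gu.trans e)),
      fun b => hp.2 ((h.adj_smul_iff gu).1 b)⟩
  have hM : ∀ b, Γ.Adj u b → Nat.card {p // (u ≠ p ∧ ¬ Γ.Adj u p) ∧ ¬ Γ.Adj p b} = 3 := fun b ab => by
    have h1 := dvd_free (D G u b) {p | (u ≠ p ∧ ¬ Γ.Adj u p) ∧ ¬ Γ.Adj p b}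
      (fun g hg p hp => ⟨hJ hg.1 hp.1, fun e => hp.2 ((h.adj_smul_iff hg.2).1 e.symm).symm⟩)
      fun g hg p hp e => by
        obtain ⟨z, z1, zu, zp, hz⟩ := h.exists_z hG ho hp.1.1 hp.1.2
        exact h.free_conj ab hg zu.1 z1 (hz _ (by simpa using z1) (h.conj_Z' zu hg.1)
          (h.conj_Z' zp e))
    have h2 := card_mul_le_card_mul (m := 1) (n := 1)
      (fun (p : {p // (u ≠ p ∧ ¬ Γ.Adj u p) ∧ ¬ Γ.Adj p b}) (z : ((h.Z u : Set G) \ {1} : Set G)) =>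
        z.1 ∈ h.Z p.1) (fun p => by
          obtain ⟨z, z1, zu, zp, -⟩ := h.exists_z hG ho p.2.1.1 p.2.1.2
          exact Nat.card_pos_iff.2 ⟨⟨⟨⟨z, zu, z1⟩, zp⟩⟩, inferInstance⟩) fun z => by
        refine Finite.card_le_one_iff_subsingleton.2 ⟨fun p q => by_contra fun e => ?_⟩
        have e' : p.1.1 ≠ q.1.1 := fun e' => e (Subtype.ext (Subtype.ext e'))
        have := h.no_tri hG ho e' (h.not_adj p.2.1 z.2.2 (h.fixF p.2.1) (h.fixF q.2.1))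
          (fun e => p.1.2.1.2 (by rw [e]; exact ab)) p.1.2.2
          (fun e => q.1.2.1.2 (by rw [e]; exact ab)) q.1.2.2 z.2.2 p.2 q.2
        exact z.2.2 (h.eq_one z.2.1.1 ab (h.fixF this.1))
    have h3 : 0 < Nat.card {p // (u ≠ p ∧ ¬ Γ.Adj u p) ∧ ¬ Γ.Adj p b} := by
      obtain ⟨g, gu, rfl⟩ := h.tr1 aw ab
      exact Nat.card_pos_iff.2 ⟨⟨⟨g • c, hJ gu ⟨n, a⟩, fun e => cw ((h.smul g _ _).1 e)⟩⟩,
        inferInstance⟩
    rw [e3 ab] at h1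
    rw [Nat.card_coe_set_eq, hZ'] at h2
    have := Nat.le_of_dvd h3 h1
    omega
  have hν : ∀ p, u ≠ p ∧ ¬ Γ.Adj u p → {b | Γ.Adj u b ∧ ¬ Γ.Adj p b}.ncard =
      {b | Γ.Adj u b ∧ ¬ Γ.Adj c b}.ncard := fun p hp => by
    obtain ⟨g, gu, rfl⟩ := h.tr2 hp.1 n hp.2 a
    refine Set.ncard_congr (fun x _ => g • x) (fun x hx => ⟨h.adj_smul gu hx.1, fun e =>
      hx.2 ((h.smul g _ _).1 e)⟩) (fun _ _ _ _ e => smul_left_cancel g e) fun x hx =>
        ⟨g⁻¹ • x, ⟨(h.adj_smul_iff gu).1 (by simpa using hx.1), fun e => hx.2 (by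
          simpa using (h.smul g _ _).2 e)⟩, by simp⟩
  have h1 := card_mul_eq_card_mul (fun (b : Γ.neighborSet u) (p : {w | u ≠ w ∧ ¬ Γ.Adj u w}) =>
    ¬ Γ.Adj p.1 b.1) (fun b => (card_subtype_subtype _ fun p => ¬ Γ.Adj p b.1).trans (hM b b.2))
    fun p => (card_subtype_subtype (Γ.Adj u) fun b => ¬ Γ.Adj p.1 b).trans (hν p p.2)
  have hW : {z | z ≠ 1 ∧ z ∈ h.Z u ∧ ∃ p, (u ≠ p ∧ ¬ Γ.Adj u p) ∧ z ∈ h.Z p} =
      (h.Z u : Set G) \ {1} := by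
    have hs : {z | z ≠ 1 ∧ z ∈ h.Z u ∧ ∃ p, (u ≠ p ∧ ¬ Γ.Adj u p) ∧ z ∈ h.Z p} ⊆
      (h.Z u : Set G) \ {1} := fun z hz => ⟨hz.2.1, hz.1⟩
    refine Set.eq_of_subset_of_ncard_le hs ?_
    rw [hZ', ← e3 aw]
    refine Nat.le_of_dvd ((Set.ncard_pos (Set.toFinite _)).2 ?_) (dvd_free_conj _ _ ?_
      fun g hg z hz e => h.free_conj aw hg hz.2.1.1 hz.1 e)
    · obtain ⟨z, z1, zu, zp, -⟩ := h.exists_z hG ho n a
      exact ⟨z, z1, zu, c, ⟨n, a⟩, zp⟩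
    · rintro g hg z ⟨z1, zu, p, hp, zp⟩
      exact ⟨by simpa using z1, h.conj_Z' zu hg.1, g • p, hJ hg.1 hp, h.conj_Z zp g⟩
  set l := {w | u ≠ w ∧ ¬ Γ.Adj u w}.ncard with hl
  set ν := {b | Γ.Adj u b ∧ ¬ Γ.Adj c b}.ncard
  have hs : ∀ z ∈ (h.Z u : Set G) \ {1}, {q | (u ≠ q ∧ ¬ Γ.Adj u q) ∧ z ∈ h.Z q}.ncard = l - ν := by
    intro z hz
    obtain ⟨z1, zu, p, hp, zp⟩ := hW.ge hz
    have h2 := (h.card_X u).symm.trans (h.card_X p)
    rw [h.card_F_eq p u, ← hl] at h2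
    have h3 : {w | p ≠ w ∧ ¬ Γ.Adj p w} = {b | Γ.Adj u b ∧ ¬ Γ.Adj p b} ∪
        insert u ({q | (u ≠ q ∧ ¬ Γ.Adj u q) ∧ z ∈ h.Z q} \ {p}) := by
      ext q
      constructor
      · rintro ⟨q1, q2⟩
        by_cases e : Γ.Adj u q
        · exact Or.inl ⟨e, q2⟩
        by_cases e' : u = q
        · exact Or.inr (Or.inl e'.symm)
        exact Or.inr (Or.inr ⟨⟨⟨e', e⟩, h.no_tri hG ho hp.1 hp.2 e' e q1 q2 z1 zu zp⟩, q1.symm⟩)
      · rintro (e | rfl | e)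
        · exact ⟨fun e' => hp.2 (e' ▸ e.1), e.2⟩
        · exact ⟨hp.1.symm, fun e => hp.2 e.symm⟩
        · exact ⟨Ne.symm e.2, h.not_adj zp.1 z1 (h.fixF zp.1) (h.fixF e.1.2.1)⟩
    rw [h3, Set.ncard_union_eq (Set.disjoint_left.2 (by
      rintro q e (rfl | e')
      exacts [Γ.irrefl e.1, e'.1.1.2 e.1])), hν p hp, Set.ncard_insert_of_notMem
        fun e => e.1.1.1 rfl, Set.ncard_sdiff_singleton_add_one
          (show p ∈ {q | (u ≠ q ∧ ¬ Γ.Adj u q) ∧ z ∈ h.Z q} from ⟨hp, zp⟩)] at h2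
    omega
  have h2 := card_mul_eq_card_mul (n := 1) (fun (z : ((h.Z u : Set G) \ {1} : Set G))
    (p : {w | u ≠ w ∧ ¬ Γ.Adj u w}) => z.1 ∈ h.Z p.1)
    (fun z => (card_subtype_subtype _ fun p => z.1 ∈ h.Z p).trans (hs z z.2)) fun p => by
      obtain ⟨z, z1, zu, zp, hz⟩ := h.exists_z hG ho p.2.1 p.2.2
      exact Nat.card_eq_one_iff_exists.2 ⟨⟨⟨z, zu, z1⟩, zp⟩, fun y =>
        Subtype.ext (Subtype.ext (hz _ y.1.2.2 y.1.2.1 y.2))⟩
  rw [Nat.card_coe_set_eq, Nat.card_coe_set_eq, ← hl] at h1 h2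
  rw [hZ'] at h2
  have h3 := h.dvd_k aw
  have h4 := Nat.card_pos (α := h.F u)
  rw [← h.card_F] at h1
  rw [e3 aw] at h3
  obtain ⟨s, hs⟩ : ∃ s, l - ν = s := ⟨_, rfl⟩
  have hl0 : 0 < l := (Set.ncard_pos (Set.toFinite _)).2 ⟨c, n, a⟩
  rw [show l = 3 * s by omega, show ν = 2 * s by omega] at h1
  have h5 : Nat.card (h.F u) = 2 * (s * s) := by linarith
  have : s % 3 = 0 ∨ s % 3 = 1 ∨ s % 3 = 2 := by omega
  have h6 := Nat.mul_mod s s 3
  rcases this with e | e | e <;> rw [e] at h6 <;> omega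

end Odd

end St

end Cfsg.Agent.TwoTr.Fr
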