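import Mathlib
import Cfsg.Agent.TwoTr.FrOdd

/-! Rank 3 Frobenius groups: involutions and parameters when edge stabilisers have even order. -/

set_option autoImplicit false

namespace Cfsg.Agent.TwoTr.Fr

open MulAction Subgroup Cfsg.Agent.Perm.DoubleCount

variable {G X : Type*} [Group G] [MulAction G X]

theorem card_split_le [Finite G] [Finite X] (T : G → Prop) (S : Set X) (u : X) {m : ℕ}
    (hm : ∀ w ∈ S, Nat.card {t // T t ∧ t • u = w} ≤ m) :
    Nat.card {t // T t ∧ t • u ∈ S} ≤ S.ncard * m :=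
  card_le_mul_of_fiber (fun t : {t // T t ∧ t • u ∈ S} => (⟨t.1 • u, t.2.2⟩ : S)) fun w =>
    le_trans (Nat.card_le_card_of_injective
      (fun t => (⟨t.1.1, t.1.2.1, congrArg Subtype.val t.2⟩ : {t // T t ∧ t • u = w}))
      fun _ _ e => Subtype.ext (Subtype.ext (congrArg (fun w => w.1) e))) (hm w w.2)

theorem card_split [Finite G] [Finite X] (T : G → Prop) (S : Set X) (u : X) {m : ℕ}
    (hm : ∀ w ∈ S, Nat.card {t // T t ∧ t • u = w} = m) :
    Nat.card {t // T t ∧ t • u ∈ S} = S.ncard * m :=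
  card_eq_mul_of_fiber (fun t : {t // T t ∧ t • u ∈ S} => (⟨t.1 • u, t.2.2⟩ : S)) fun w => by
    rw [← hm w w.2]
    exact Nat.card_congr ⟨fun t => ⟨t.1.1, t.1.2.1, congrArg Subtype.val t.2⟩,
      fun t => ⟨⟨t.1, t.2.1, by rw [t.2.2]; exact w.2⟩, Subtype.ext t.2.2⟩, fun _ => rfl, fun _ => rfl⟩

theorem card_two {α : Type*} [Finite α] (T P : α → Prop) :
    Nat.card {t // T t} = Nat.card {t // T t ∧ P t} + Nat.card {t // T t ∧ ¬ P t} := by
  rw [← card_subtype_add_card_not (fun t : {t // T t} => P t.1), card_subtype_subtype,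
    card_subtype_subtype T fun t => ¬ P t]

theorem card_rel_conj (R : X → X → Prop) (hR : ∀ (g : G) u v, R (g • u) (g • v) ↔ R u v) (g d : G) :
    Nat.card {v // R v ((g * d * g⁻¹) • v)} = Nat.card {v // R v (d • v)} :=
  Nat.card_congr ((toPerm g⁻¹).subtypeEquiv fun v => by simp [mul_smul, ← hR g (g⁻¹ • v)])

/-- involutions -/
def Iv (t : G) : Prop := t ≠ 1 ∧ t * t = 1

theorem Iv.conj {t : G} (h : Iv t) (g : G) : Iv (g * t * g⁻¹) :=
  ⟨by simpa using h.1, by rw [conj_mul, h.2]; simp⟩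

theorem Iv.inv {t : G} (h : Iv t) : t⁻¹ = t := inv_eq_of_mul_eq_one_right h.2

theorem Iv.swap {t : G} (h : Iv t) {u w : X} (e : t • u = w) : t • w = u := by
  rw [← e, ← mul_smul, h.2, one_smul]

theorem Iv.even [Finite G] {t : G} (h : Iv t) {L : Subgroup G} (ht : t ∈ L) : Even (Nat.card L) :=
  even_iff_two_dvd.2 ((orderOf_eq_prime (by rw [sq, h.2]) h.1 : orderOf t = 2) ▸
    orderOf_dvd_natCard L ht)

theorem card_swap_le [Finite G] (T : G → Prop) (hT : ∀ t, T t → Iv t) {u w : X} (L : Subgroup G)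
    (hL : ∀ s t, T s → T t → s • u = w → t • u = w → (s * t) • u = u → (s * t) • w = w → s * t ∈ L) :
    Nat.card {t // T t ∧ t • u = w} ≤ Nat.card L := by
  rcases isEmpty_or_nonempty {t // T t ∧ t • u = w} with e | ⟨⟨s, hs, su⟩⟩
  · simp
  exact Nat.card_le_card_of_injective (fun t => (⟨s * t.1, hL s t hs t.2.1 su t.2.2
    (by rw [mul_smul, t.2.2, (hT s hs).swap su]) (by rw [mul_smul, (hT _ t.2.1).swap t.2.2, su])⟩ : L))
    fun _ _ e => Subtype.ext (mul_left_cancel (congrArg Subtype.val e))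

theorem disc_sq {lam mu k : ℕ} (h7 : mu < k) {s : ℤ}
    (hs : ((lam : ℤ) - mu) ^ 2 + 4 * (k - mu) = s * s) :
    ∃ r t : ℕ, 0 < r ∧ 0 < t ∧ r + mu = lam + t ∧ r * t + mu = k := by
  wlog s0 : 0 ≤ s generalizing s
  · exact this (s := -s) (by rw [hs]; ring) (by omega)
  have hk : (mu : ℤ) < k := by exact_mod_cast h7
  have s1 : (lam : ℤ) - mu < s := by nlinarith
  have s2 : (mu : ℤ) - lam < s := by nlinarith
  have s3 : Even (s + lam - mu) := by
    have : Even (s * s - ((lam : ℤ) - mu) ^ 2) := ⟨2 * (k - mu), by rw [← hs]; ring⟩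
    simp only [Int.even_sub, Int.even_add, Int.even_mul, Int.even_pow] at this ⊢
    tauto
  obtain ⟨r, hr⟩ := s3
  obtain ⟨r, rfl⟩ := Int.eq_ofNat_of_zero_le (show 0 ≤ r by omega)
  obtain ⟨t, ht⟩ := Int.eq_ofNat_of_zero_le (show 0 ≤ s - r by omega)
  have e2 : (r : ℤ) * t + mu = k := by
    rw [show s = r + t by omega, show (lam : ℤ) - mu = r - t by omega] at hs
    linarith
  exact ⟨r, t, by omega, by omega, by omega, by exact_mod_cast e2⟩

namespace St

variable {Γ : SimpleGraph X} (h : St G Γ) [Finite G]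
include h

theorem exists_F_ne (u : X) : ∃ x ∈ h.F u, x ≠ 1 := by
  obtain ⟨v, a⟩ := h.ex1 u
  obtain ⟨w, b, n⟩ := h.exists_ne_nb a
  obtain ⟨x, hx, e⟩ := h.trF a b
  exact ⟨x, hx, fun e' => n (by rw [← e, e', one_smul])⟩

/-- the parameters -/
theorem par [Finite X] {u b v : X} (ab : Γ.Adj u b) (n : u ≠ v) (a : ¬ Γ.Adj u v) {N k l : ℕ}
    (hN : Nat.card X = N) (hk : Nat.card (h.F u) = k) (hl : {w | u ≠ w ∧ ¬ Γ.Adj u w}.ncard = l) :
    ∃ lam mu j : ℕ, lam + j + 1 = k ∧ 0 < mu ∧ mu < k ∧ Nat.card (D G u b) ∣ lam ∧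
      Nat.card (D G u v) ∣ mu ∧ k * j = l * mu ∧ (2 * k + (k + l) * lam = (k + l) * mu ∨
      ∃ r t : ℕ, 0 < r ∧ 0 < t ∧ r + mu = lam + t ∧ r * t + mu = k ∧ ∀ (K : Subgroup G) (d : G),
        (∀ v : X, ∃ x ∈ K, d • v = x • v) → (∀ x ∈ K, ∃ g : G, x * d = g * d * g⁻¹) →
        ∃ f : ℕ, (r + t) * f + Nat.card {v : X // Γ.Adj v (d • v)} + r =
          r * Nat.card {v : X // d • v = v} + k) := by
  classical
  have := Fintype.ofFinite X
  have := h.prim.toIsPretransitive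
  obtain ⟨lam, mu, S⟩ := Spor.isSRG_of_rank_three (G := G) Γ h.smul u (fun _ _ => h.tr1)
    fun _ _ e e' => h.tr2 e.symm e'.symm
  have hX := h.card_X u
  have e : (Finset.univ.filter fun x => Γ.Adj u x).card = k := by
    rw [← hk, card_F, Set.ncard_eq_toFinset_card']
    congr 1
    ext; simp
  rw [e, ← Nat.card_eq_fintype_card, hN] at S
  rw [hN, hk, hl] at hX
  have h1 := Spor.srg_l_lt S ab
  have h2 := S.param_eq Γ (by omega)
  have h3 : (Γ.commonNeighbors u b).ncard = lam := by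
    rw [← S.of_adj u b ab, ← Nat.card_eq_fintype_card, Nat.card_coe_set_eq]
  have h4 : ∀ {p q}, p ≠ q → ¬ Γ.Adj p q → (Γ.commonNeighbors p q).ncard = mu := fun n a => by
    rw [← S.of_not_adj n a, ← Nat.card_eq_fintype_card, Nat.card_coe_set_eq]
  have h5 : ∀ p, Nat.card (D G u p) ∣ (Γ.commonNeighbors u p).ncard ∨ u = p := fun p => by
    refine or_iff_not_imp_right.2 fun n => dvd_free _ _ (fun g hg x hx =>
      ⟨h.adj_smul hg.1 hx.1, h.adj_smul hg.2 hx.2⟩) fun g hg x hx e =>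
        h.two hx.1.symm hx.2.symm n e hg.1 hg.2
  have h6 : 0 < mu := by
    obtain ⟨p, q, h1, h2, h3, h5⟩ := h.exists_path u
    rw [← h4 h3 h5]
    exact (Set.ncard_pos (Set.toFinite _)).2 ⟨p, h1, h2.symm⟩
  have h7 : mu < k := by
    obtain ⟨w, h1, h2⟩ := h.not_sub n.symm
    rw [← h4 n a, ← hk, card_F]
    exact Set.ncard_lt_ncard ⟨fun _ hx => hx.1, fun hh => h2 (hh h1).2⟩
  obtain ⟨j, rfl⟩ : ∃ j, k = lam + j + 1 := ⟨k - lam - 1, by omega⟩
  rw [show lam + j + 1 - lam - 1 = j by omega, show N - (lam + j + 1) - 1 = l by omega] at h2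
  have hp : ((lam + j + 1 : ℕ) : ℤ) * ((lam + j + 1 : ℕ) - lam - 1) =
      mu * (N - (lam + j + 1 : ℕ) - 1) := by
    have : ((lam + j + 1 : ℕ) : ℤ) * j = l * mu := by exact_mod_cast h2
    rw [hX]; push_cast at this ⊢; linear_combination this
  refine ⟨lam, mu, j, rfl, h6, h7, h3 ▸ (h5 b).resolve_right ab.ne,
    h4 n a ▸ (h5 v).resolve_right n, h2, ?_⟩
  set k := lam + j + 1
  rcases TT.srg_disc Γ S (by omega) h7 hp with ⟨s, hs⟩ | e
  · obtain ⟨r, t, r0, t0, e1, e2⟩ := disc_sq h7 hs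
    exact Or.inr ⟨r, t, r0, t0, e1, e2, fun K d => srg_int Γ S (by omega) hp t0 e1 e2 h.smul K d⟩
  · left
    have : (2 * k + (k + l) * lam : ℤ) = (k + l) * mu := by
      rw [hX] at e; push_cast at e; linear_combination e
    exact_mod_cast this

section Even

variable (he : ∀ {u v : X}, Γ.Adj u v → Even (Nat.card (D G u v)))
include he

theorem odd_F (u : X) : Odd (Nat.card (h.F u)) := by
  obtain ⟨v, a⟩ := h.ex1 u
  obtain ⟨c, hc⟩ := (he a).two_dvd.trans (h.dvd_k a)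
  have := Nat.card_pos (α := h.F u)
  exact ⟨c, by omega⟩

theorem iv_nb {t : G} {u : X} (ht : Iv t) (tu : t • u = u) : ∃ v, Γ.Adj u v ∧ t • v = v :=
  (h.exists_nb tu fun hF => Nat.not_odd_iff_even.2 (ht.even hF) (h.odd_F he u)).2

theorem iv_inv {t x : G} {u : X} (ht : Iv t) (tu : t • u = u) (hx : x ∈ h.F u) :
    t * x * t = x⁻¹ := by
  obtain ⟨v, a, tv⟩ := h.iv_nb he ht tu
  let φ : h.F u → h.F u := fun y => ⟨y.1⁻¹ * (t * y * t⁻¹), mul_mem (inv_mem y.2) (h.conj_F' y.2 tu)⟩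
  have hφ : Function.Injective φ := fun y z e => by
    have e' : y.1⁻¹ * (t * y * t⁻¹) = z.1⁻¹ * (t * z * t⁻¹) := congrArg Subtype.val e
    by_contra hn
    refine ht.1 (h.free_conj a ⟨tu, tv⟩ (mul_mem y.2 (inv_mem z.2))
      (fun e => hn (Subtype.ext (mul_inv_eq_one.1 e))) ?_)
    calc t * (y.1 * z.1⁻¹) * t⁻¹ = y * (y.1⁻¹ * (t * y * t⁻¹)) * (t * z.1⁻¹ * t⁻¹) := by group
      _ = _ := by rw [e']; group
  obtain ⟨y, hy⟩ := Finite.injective_iff_surjective.1 hφ ⟨x, hx⟩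
  have e : y.1⁻¹ * (t * y * t⁻¹) = x := congrArg Subtype.val hy
  rw [← e, ht.inv]
  calc t * (y.1⁻¹ * (t * y * t)) * t = t * y.1⁻¹ * t * y * (t * t) := by group
    _ = t⁻¹ * y.1⁻¹ * t⁻¹ * y := by rw [ht.2, ht.inv, mul_one]
    _ = _ := by group

omit h [Finite G] in
theorem exists_d [Finite G] {u v : X} (a : Γ.Adj u v) : ∃ d : G, Iv d ∧ d • u = u ∧ d • v = v := by
  obtain ⟨d, hd, h1, h2⟩ := RankOne.exists_invol_of_even (he a)
  exact ⟨d, ⟨h1, h2⟩, hd⟩

theorem comm_F {x y : G} {u : X} (hx : x ∈ h.F u) (hy : y ∈ h.F u) : x * y = y * x := by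
  obtain ⟨v, a⟩ := h.ex1 u
  obtain ⟨d, hd, du, -⟩ := exists_d he a
  have := h.iv_inv he hd du (mul_mem hx hy)
  rw [show d * (x * y) * d = (d * x * d) * (d * y * d) from
    calc d * (x * y) * d = d * x * (d * d) * y * d := by rw [hd.2]; group
      _ = _ := by group, h.iv_inv he hd du hx, h.iv_inv he hd du hy, ← mul_inv_rev, inv_inj] at this
  exact this.symm

omit h [Finite G] he in
theorem comm_of_inv {s t x : G} (hs : Iv s) (ht : Iv t) (e1 : s * x * s = x⁻¹)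
    (e2 : t * x * t = x⁻¹) : s * t * x = x * (s * t) := by
  have e3 : s * x⁻¹ * s = x := by rw [← e1, ← mul_assoc, ← mul_assoc, hs.2, one_mul, mul_assoc,
    hs.2, mul_one]
  calc s * t * x = s * (t * x * t) * s * (s⁻¹ * t⁻¹) := by group
    _ = _ := by rw [e2, e3, hs.inv, ht.inv]

theorem mul_mem_F {s t : G} {u : X} (hs : Iv s) (su : s • u = u) (ht : Iv t) (tu : t • u = u) :
    s * t ∈ h.F u := by
  obtain ⟨x, hx, x1⟩ := h.exists_F_ne u
  exact h.mem_F_of_comm (by rw [mul_smul, tu, su]) hx x1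
    (comm_of_inv hs ht (h.iv_inv he hs su hx) (h.iv_inv he ht tu hx))

theorem uniq_d {s t : G} {u v : X} (a : Γ.Adj u v) (hs : Iv s) (su : s • u = u) (sv : s • v = v)
    (ht : Iv t) (tu : t • u = u) (tv : t • v = v) : s = t := by
  rw [← hs.inv, inv_eq_iff_mul_eq_one]
  exact h.eq_one (h.mul_mem_F he hs su ht tu) a (by rw [mul_smul, tv, sv])

theorem iv_mul {t x : G} {u : X} (ht : Iv t) (tu : t • u = u) (hx : x ∈ h.F u) : Iv (x * t) :=
  ⟨fun e => Nat.not_odd_iff_even.2 (ht.even (eq_inv_of_mul_eq_one_right e ▸ inv_mem hx))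
    (h.odd_F he u), by rw [mul_assoc, ← mul_assoc t, h.iv_inv he ht tu hx, mul_inv_cancel]⟩

theorem card_iv {t : G} {u v : X} (ht : Iv t) (tu : t • u = u) (tv : t • v = v) :
    Nat.card {s : G // Iv s ∧ s • u = u ∧ s • v = v} = Nat.card (h.XX u v) :=
  Nat.card_congr ⟨fun s => ⟨s.1 * t, h.mul_mem_F he s.2.1 s.2.2.1 ht tu,
      show (s.1 * t) • v = v by rw [mul_smul, tv, s.2.2.2]⟩,
    fun x => ⟨x.1 * t, h.iv_mul he ht tu x.2.1, by rw [mul_smul, tu, h.fixF x.2.1],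
      by rw [mul_smul, tv]; exact x.2.2⟩, fun s => Subtype.ext (by simp [mul_assoc, ht.2]),
    fun s => Subtype.ext (by simp [mul_assoc, ht.2])⟩

theorem card_iv1 (u : X) : Nat.card {s : G // Iv s ∧ s • u = u} = Nat.card (h.F u) := by
  obtain ⟨v, a⟩ := h.ex1 u
  obtain ⟨d, hd, du, -⟩ := exists_d he a
  have : h.XX u u = h.F u := inf_eq_left.2 fun _ => h.fixF
  rw [← this, ← h.card_iv he hd du du]
  simp

theorem conj_iv' {s t : G} {u : X} (hs : Iv s) (su : s • u = u) (ht : Iv t) (tu : t • u = u) :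
    ∃ x ∈ h.F u, x * s * x⁻¹ = t := by
  obtain ⟨v, a, sv⟩ := h.iv_nb he hs su
  obtain ⟨w, b, tw⟩ := h.iv_nb he ht tu
  obtain ⟨x, hx, rfl⟩ := h.trF a b
  refine ⟨x, hx, h.uniq_d he b (hs.conj x) ?_ (by simp [mul_smul, sv]) ht tu tw⟩
  rw [mul_smul, mul_smul, h.fixF (inv_mem hx), su, h.fixF hx]

theorem conj_iv {s t : G} {u v : X} (hs : Iv s) (su : s • u = u) (ht : Iv t) (tv : t • v = v) :
    ∃ g : G, g * s * g⁻¹ = t := by
  obtain ⟨g, rfl⟩ := h.tr u v
  obtain ⟨x, -, e⟩ := h.conj_iv' he (hs.conj g) (by simp [mul_smul, su]) ht tv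
  exact ⟨x * g, by rw [← e]; group⟩

end Even

end St

end Cfsg.Agent.TwoTr.Fr
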