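import Mathlib
import Cfsg.Agent.TwoTr.FrEven

/-! Rank 3 Frobenius groups: the case where the kernel is not semiregular on non-neighbours. -/

set_option autoImplicit false

namespace Cfsg.Agent.TwoTr.Fr

open MulAction Subgroup Cfsg.Agent.Perm.DoubleCount

variable {G X : Type*} [Group G] [MulAction G X]

theorem card_iv_smul (g : G) (u v : X) :
    Nat.card {s : G // Iv s ∧ s • g • u = g • u ∧ s • g • v = g • v} =
      Nat.card {s : G // Iv s ∧ s • u = u ∧ s • v = v} :=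
  (Nat.card_congr ((MulAut.conj g).toEquiv.subtypeEquiv fun x => and_congr
    ⟨fun hx => hx.conj g, fun hx => by simpa [mul_assoc] using hx.conj g⁻¹⟩
    (by simp [mul_smul]))).symm

theorem card_fix_conj (S : Set X) {g : G} (hg : ∀ x, g • x ∈ S ↔ x ∈ S) (d : G) :
    Nat.card {q // q ∈ S ∧ (g * d * g⁻¹) • q = q} = Nat.card {q // q ∈ S ∧ d • q = q} :=
  (Nat.card_congr ((toPerm g).subtypeEquiv fun v => by simp [mul_smul, hg])).symm

theorem card_ne_add {α : Type*} [Finite α] (P : α → Prop) {a : α} (ha : P a) :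
    Nat.card {q // P q} = Nat.card {q // P q ∧ a ≠ q} + 1 := by
  rw [card_two P (a ≠ ·), Nat.card_eq_one_iff_exists.2 ⟨(⟨a, ha, by simp⟩ : {q // P q ∧ ¬ a ≠ q}),
    fun y => Subtype.ext (not_not.1 y.2.2).symm⟩]

theorem a1_arith {ξ c s f ν ε : ℕ} (h0 : 0 < s) (hc : 1 < c) (h1 : ξ * c * f = ξ * c + s * ξ)
    (h2 : s + 1 ≤ f * f) (h3 : ξ * c * ν = s * (ξ * ε)) (h4 : ν ∣ ξ * c - 1) (h5 : ν ∣ ξ - 1)
    (hξ : 0 < ξ) (he : 2 ≤ ε) : c = 3 ∧ ε = 2 := by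
  obtain ⟨ξ, rfl⟩ : ∃ x, ξ = x + 1 := ⟨ξ - 1, by omega⟩
  obtain ⟨c, rfl⟩ : ∃ x, c = x + 1 := ⟨c - 1, by omega⟩
  have e1 : (c + 1) * f = c + 1 + s := Nat.eq_of_mul_eq_mul_left hξ (by linarith)
  obtain ⟨f, rfl⟩ : ∃ x, f = x + 1 := ⟨f - 1, by rcases f with _ | f <;> omega⟩
  obtain rfl : s = (c + 1) * f := by linarith
  have e2 : ν = f * ε := Nat.eq_of_mul_eq_mul_left (by positivity : 0 < (ξ + 1) * (c + 1))
    (by linarith)
  rw [show (ξ + 1) * (c + 1) - 1 = ξ * (c + 1) + c from Nat.sub_eq_of_eq_add (by ring)] at h4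
  have := Nat.le_of_dvd (by omega) ((Nat.dvd_add_right (Dvd.dvd.mul_right h5 _)).1 h4)
  have f0 : 0 < f := Nat.pos_of_mul_pos_left h0
  have : c ≤ f + 1 := by nlinarith
  obtain rfl : f = 1 := by nlinarith
  omega

namespace St

variable {Γ : SimpleGraph X} (h : St G Γ) [Finite G] [Finite X]
  (he : ∀ {u v : X}, Γ.Adj u v → Even (Nat.card (D G u v)))
  {u v : X} (n : u ≠ v) (a : ¬ Γ.Adj u v) (hX : h.XX u v ≠ ⊥)
include h

/-- the fixed points of `XX` -/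
def Dl (u v : X) : Set X := {p | ∀ x ∈ h.XX u v, x • p = p}

omit [Finite X] in
theorem dl_of_norm {g : G} (hg : ∀ x ∈ h.XX u v, g⁻¹ * x * g ∈ h.XX u v) {p : X}
    (hp : p ∈ h.Dl u v) : g • p ∈ h.Dl u v := fun x hx =>
  inv_smul_eq_iff.1 (show g⁻¹ • x • g • p = p by rw [← mul_smul, ← mul_smul, hp _ (hg x hx)])

include he

omit [Finite X] in
theorem dl_F {p q : X} (hp : p ∈ h.Dl u v) {g : G} (hg : g ∈ h.F p) (hq : q ∈ h.Dl u v) :
    g • q ∈ h.Dl u v := h.dl_of_norm (fun x hx => by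
  rwa [mul_assoc, h.comm_F he (h.mem_F_of_fix hx.1 (hp x hx)) hg, inv_mul_cancel_left]) hq

omit [Finite X] in
theorem dl_iv {p q : X} (hp : p ∈ h.Dl u v) {t : G} (ht : Iv t) (tp : t • p = p)
    (hq : q ∈ h.Dl u v) : t • q ∈ h.Dl u v := h.dl_of_norm (fun x hx => by
  rw [ht.inv, h.iv_inv he ht tp (h.mem_F_of_fix hx.1 (hp x hx))]; exact inv_mem hx) hq

include n a hX

theorem dl_fix {p : X} (hp : p ∈ h.Dl u v) {t : G} (ht : Iv t) (tp : t • p = p) :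
    Nat.card (h.F u) * Nat.card {q // q ∈ h.Dl u v ∧ t • q = q} = Nat.card (h.F u) +
      ((h.Dl u v).ncard - 1) * Nat.card {s : G // Iv s ∧ s • u = u ∧ s • v = v} := by
  have := card_mul_eq_card_mul (fun (s : {s : G // Iv s ∧ s • p = p})
    (q : {q // q ∈ h.Dl u v ∧ p ≠ q}) => s.1 • q.1 = q.1)
    (m := Nat.card {q // (q ∈ h.Dl u v ∧ t • q = q) ∧ p ≠ q})
    (n := Nat.card {s : G // Iv s ∧ s • u = u ∧ s • v = v}) (fun s => by
      obtain ⟨x, hx, e⟩ := h.conj_iv' he ht tp s.2.1 s.2.2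
      have := card_fix_conj (h.Dl u v) (g := x) (fun y => ⟨fun hy => by
        simpa using h.dl_F he hp (inv_mem hx) hy, h.dl_F he hp hx⟩) t
      rw [e, card_ne_add (fun q => q ∈ h.Dl u v ∧ s.1 • q = q) ⟨hp, s.2.2⟩,
        card_ne_add (fun q => q ∈ h.Dl u v ∧ t • q = q) ⟨hp, tp⟩] at this
      rw [card_subtype_subtype _ fun q => s.1 • q = q, ← Nat.add_right_cancel this]
      simp only [and_right_comm]) fun q => by
      obtain ⟨g, e1, e2⟩ := h.tr2 n q.2.2 a (h.XX_eq n a hX q.2.2 hp q.2.1).1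
      rw [card_subtype_subtype _ fun s : G => s • q.1 = q.1, ← card_iv_smul g, e1, e2]
      simp only [and_assoc]
  rw [h.card_iv1 he, h.card_F_eq p u] at this
  rw [card_ne_add (fun q => q ∈ h.Dl u v ∧ t • q = q) ⟨hp, tp⟩, mul_add, this, ← Nat.card_coe_set_eq,
    card_ne_add (· ∈ h.Dl u v) hp]
  simp [add_comm]

theorem dl_count {f : ℕ} (hf : ∀ p ∈ h.Dl u v, ∀ t : G, Iv t → t • p = p →
    Nat.card {q // q ∈ h.Dl u v ∧ t • q = q} = f) :
    (h.Dl u v).ncard * Nat.card (h.F u) ≤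
      (Nat.card (h.F u) + ((h.Dl u v).ncard - 1) * Nat.card (h.XX u v)) * f := by
  have hu : u ∈ h.Dl u v := fun x hx => h.fixF hx.1
  let T : G → Prop := fun t => Iv t ∧ ∃ p ∈ h.Dl u v, t • p = p
  have h1 := card_mul_eq_card_mul (fun (s : {s : G // T s}) (q : h.Dl u v) => s.1 • q.1 = q.1)
    (m := f) (n := Nat.card (h.F u)) (fun s => by
      obtain ⟨p, hp, e⟩ := s.2.2
      exact (card_subtype_subtype _ fun q => s.1 • q = q).trans (hf p hp _ s.2.1 e)) fun q => by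
      rw [card_subtype_subtype _ fun s : G => s • q.1 = q.1, h.card_F_eq u q, ← h.card_iv1 he]
      exact Nat.card_congr (Equiv.subtypeEquivRight fun s =>
        ⟨fun hs => ⟨hs.1.1, hs.2⟩, fun hs => ⟨⟨hs.1, _, q.2, hs.2⟩, hs.2⟩⟩)
  rw [Nat.card_coe_set_eq] at h1
  rw [← h1, card_two T (· • u = u), ← Set.ncard_sdiff_singleton_of_mem hu]
  refine Nat.mul_le_mul_right _ (add_le_add ?_ (le_trans (card_subtype_le_of_imp ?_)
    (card_split_le T _ u fun w hw => card_swap_le T (fun _ ht => ht.1) _ ?_)))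
  · exact h.card_iv1 he u ▸ card_subtype_le_of_imp fun t ht => ⟨ht.1.1, ht.2⟩
  · rintro t ⟨⟨ht, p, hp, e⟩, e'⟩
    exact ⟨⟨ht, p, hp, e⟩, h.dl_iv he hp ht e hu, e'⟩
  · rintro s t ⟨hs, p, hp, e⟩ ⟨ht, q, hq, e'⟩ - - e1 e2
    obtain ⟨x, x1⟩ := ne_bot_iff_exists_ne_one.1 hX
    rw [← (h.XX_eq n a hX (Ne.symm hw.2) hu hw.1).2]
    exact ⟨h.mem_F_of_comm e1 x.2.1 (fun e => x1 (Subtype.ext e)) (comm_of_inv hs ht
      (h.iv_inv he hs e (h.mem_F_of_fix x.2.1 (hp _ x.2)))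
      (h.iv_inv he ht e' (h.mem_F_of_fix x.2.1 (hq _ x.2)))), e2⟩

omit he [Finite X] in
theorem dl_norm : ∃ N : Subgroup G, N ≤ stabilizer G u ∧ (∀ g ∈ N, ∀ x ∈ h.XX u v,
    g * x * g⁻¹ ∈ h.XX u v) ∧ (∀ g, g • u = u → (∀ x ∈ h.XX u v, g * x = x * g) → g ∈ N) ∧
    Nat.card N = ((h.Dl u v).ncard - 1) * Nat.card (D G u v) := by
  have hu : u ∈ h.Dl u v := fun x hx => h.fixF hx.1
  have hv : v ∈ h.Dl u v := fun x hx => hx.2
  have key : ∀ g : G, g • u = u → g • v ∈ h.Dl u v → g ∈ normalizer (h.XX u v : Set G) :=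
    fun g gu gv => mem_normalizer_fintype fun x hx => by
      have := h.conj_XX hx g
      rwa [gu, (h.XX_eq n a hX (fun e => n (smul_left_cancel g (gu.trans e))) hu gv).2] at this
  refine ⟨stabilizer G u ⊓ normalizer (h.XX u v : Set G), inf_le_left,
    fun g hg x hx => (hg.2 x).1 hx, fun g gu hg => ⟨gu, mem_normalizer_fintype fun x hx => by
      rwa [hg x hx, mul_inv_cancel_right]⟩, ?_⟩
  rw [card_orb _ (x := v) (S := h.Dl u v \ {u}) fun y => ⟨fun hy => ?_, ?_⟩,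
    Set.ncard_sdiff_singleton_of_mem hu]
  · congr 3
    exact le_antisymm (fun g hg => ⟨hg.1.1, hg.2⟩) fun g hg =>
      ⟨⟨hg.1, key g hg.1 (hg.2.symm ▸ hv)⟩, hg.2⟩
  · obtain ⟨g, e1, e2⟩ := h.tr2 n (Ne.symm hy.2) a (h.XX_eq n a hX (Ne.symm hy.2) hu hy.1).1
    exact ⟨g, ⟨e1, key g e1 (e2 ▸ hy.1)⟩, e2⟩
  · rintro ⟨g, hg, rfl⟩
    exact ⟨h.dl_of_norm (fun x hx => by simpa using ((inv_mem hg).2 x).1 hx) hv,
      fun e => n (smul_left_cancel g (hg.1.trans e.symm))⟩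

theorem a1_k : Nat.card (h.F u) = 9 ∧ Nat.card (D G u v) = 6 := by
  have hu : u ∈ h.Dl u v := fun x hx => h.fixF hx.1
  have hv : v ∈ h.Dl u v := fun x hx => hx.2
  obtain ⟨b, ab⟩ := h.ex1 u
  obtain ⟨d, hd, du, -⟩ := exists_d he ab
  have k0 := Nat.card_pos (α := h.F u)
  have h1 := h.dl_fix he n a hX hu hd du
  have h2 := h.dl_count he n a hX fun p hp t ht tp =>
    Nat.eq_of_mul_eq_mul_left k0 ((h.dl_fix he n a hX hp ht tp).trans h1.symm)
  obtain ⟨N, n1, n2, n3, n4⟩ := h.dl_norm n a hX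
  rw [h.card_over ab (fun g hg => n3 g (h.fixF hg) fun x hx => h.comm_F he hg hx.1) n1] at n4
  have hN : N ⊓ stabilizer G b ≤ D G u b := inf_le_inf_right _ n1
  have h4 := (card_dvd_of_le hN).trans (h.dvd_k ab)
  have h5 := h.dvd_sub ab (Y := h.XX u v) inf_le_left hN fun g hg => n2 g hg.1
  obtain ⟨c, hc⟩ := card_dvd_of_le (show h.XX u v ≤ h.F u from fun _ hx => hx.1)
  obtain ⟨ε, hε⟩ := card_dvd_of_le (show h.XX u v ≤ D G u v from fun x hx => ⟨h.fixF hx.1, hx.2⟩)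
  have s0 : 1 < (h.Dl u v).ncard := (Set.one_lt_ncard (Set.toFinite _)).2 ⟨u, hu, v, hv, n⟩
  obtain ⟨s, hs⟩ : ∃ s, (h.Dl u v).ncard = s + 1 := ⟨_, (Nat.sub_add_cancel s0.le).symm⟩
  obtain ⟨w, vw, n', a'⟩ := h.exists_adj_nn n a
  have h6 := card_mul_le (A := h.XX u v) (B := h.XX u w) (C := h.F u) inf_le_left inf_le_left
    fun x hx hx' => by_contra fun x1 => h.not_adj hx.1 x1 hx.2 hx'.2 vw
  have h7 := h.odd_F he u
  have x0 := Nat.card_pos (α := h.XX u v)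
  have x1 : Nat.card (h.XX u v) ≠ 1 := fun e => hX (card_eq_one.1 e)
  rw [h.card_XX n' n a' a] at h6
  rw [hs, Nat.add_sub_cancel] at h1 h2 n4
  rw [hs] at s0
  rw [hc, Nat.odd_mul] at h7
  have c1 : 1 < c := by
    by_contra hh
    obtain rfl : c = 1 := by obtain ⟨_, e⟩ := h7.2; omega
    rw [hc] at h6
    nlinarith [Nat.one_lt_iff_ne_zero_and_ne_one.2 ⟨x0.ne', x1⟩]
  rcases isEmpty_or_nonempty {s : G // Iv s ∧ s • u = u ∧ s • v = v} with e | ⟨⟨t, ht, tu, tv⟩⟩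
  · rw [@Nat.card_of_isEmpty _ e, mul_zero, add_zero] at h1
    rw [Nat.eq_of_mul_eq_mul_left k0 (h1.trans (mul_one _).symm), hc] at h2
    have : s * Nat.card (h.XX u v) * 1 < s * Nat.card (h.XX u v) * c :=
      Nat.mul_lt_mul_of_pos_left c1 (Nat.mul_pos (by omega) x0)
    nlinarith
  rw [h.card_iv he ht tu tv] at h1
  have h8 := ht.even (L := D G u v) ⟨tu, tv⟩
  have d0 := Nat.card_pos (α := D G u v)
  rw [← h1] at h2
  rw [hε] at h8 n4 d0 ⊢
  rw [hc] at h1 n4 h4 h6 ⊢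
  obtain ⟨rfl, rfl⟩ := a1_arith (by omega) c1 h1 (Nat.le_of_mul_le_mul_right
    (h2.trans_eq (by ring)) k0) n4 h4 h5 x0 (Nat.le_of_dvd (Nat.pos_of_mul_pos_left d0)
      ((Nat.even_mul.1 h8).resolve_left (Nat.not_even_iff_odd.2 h7.1)).two_dvd)
  have : Nat.card (h.XX u v) ≤ 3 := Nat.le_of_mul_le_mul_left h6 x0
  obtain ⟨_, e⟩ := h7.1
  omega

theorem a1 : Nat.card X = 16 ∧ Nat.card G = 576 := by
  obtain ⟨hk, hD⟩ := h.a1_k he n a hX
  obtain ⟨b, ab⟩ := h.ex1 u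
  obtain ⟨lam, mu, j, p1, p2, p3, -, p5, p6, p7⟩ := h.par ab n a rfl hk rfl
  have h1 := h.card_stab ab
  have h2 := h.card_X u
  have h3 := Nat.le_of_dvd (by rw [hk]; norm_num) (h.dvd_k ab)
  have h4 := h.dvd_k ab
  obtain ⟨c, h5⟩ := he ab
  rw [h.card_G u, h1]
  rw [h.card_stab' n a, hk, hD] at h1
  rw [hD] at p5
  rw [hk] at h2 h3 h4 ⊢
  rw [h5] at h1 h3 h4 ⊢
  obtain rfl : mu = 6 := by omega
  generalize {w | u ≠ w ∧ ¬ Γ.Adj u w}.ncard = l at *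
  have hc : c = 1 ∨ c = 2 ∨ c = 4 := by
    have : c ≤ 4 := by omega
    interval_cases c <;> omega
  rcases hc with rfl | rfl | rfl
  · obtain rfl : l = 3 := by omega
    obtain rfl : lam = 6 := by omega
    obtain e | ⟨r, t, -, -, e1, e2, -⟩ := p7
    · omega
    obtain rfl : r = t := by omega
    have : r ≤ 2 := by nlinarith
    interval_cases r <;> omega
  · rw [h2]; omega
  · obtain rfl : l = 12 := by omega
    obtain rfl : lam = 0 := by omega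
    obtain e | ⟨r, t, r0, -, e1, e2, -⟩ := p7
    · omega
    nlinarith

end St

end Cfsg.Agent.TwoTr.Fr
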