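import Mathlib

/-! Rank 3 Frobenius groups: arithmetic of the semiregular case. -/

set_option autoImplicit false

namespace Cfsg.Agent.TwoTr.Fr

theorem a2_odd {k m ε i lam mu y y' : ℕ} (hk : k = i * (m * ε) + 1) (ho : Odd ε)
    (he : Even (m * ε)) (m0 : 0 < m) (h1 : (1 + y + m * y') * 2 = 1 + k + k * m) (h2 : y ≤ m * ε)
    (h3 : y' ≤ ε) (h4 : lam + m * mu + 1 = k) (h5 : 0 < mu) (h6 : ε ∣ mu)
    (h7 : 2 * k + (k + k * m) * lam = (k + k * m) * mu ∨ ∃ r t g, 0 < r ∧ r + mu = lam + t ∧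
      r * t + mu = k ∧ (r + t) * g + r = r * (1 + k + k * m) + k) : k = 3 ∧ m = 2 ∧ ε = 1 := by
  have ε0 := ho.pos
  have m2 : 2 ≤ m := Nat.le_of_dvd m0 ((Nat.even_mul.1 he).resolve_right
    (Nat.not_even_iff_odd.2 ho)).two_dvd
  have e0 : 0 < m * ε := by positivity
  have h8 : m * y' ≤ m * ε := Nat.mul_le_mul_left _ h3
  have h9 : i * (1 + m) * (m * ε) < 4 * (m * ε) := by subst hk; nlinarith
  have h10 := Nat.lt_of_mul_lt_mul_right h9
  have i0 : i ≠ 0 := by rintro rfl; nlinarith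
  obtain rfl : i = 1 := by nlinarith [Nat.pos_of_ne_zero i0]
  obtain rfl : m = 2 := by omega
  have := Nat.le_of_dvd h5 h6
  obtain rfl : mu = ε := by omega
  obtain rfl : lam = 0 := by omega
  subst hk
  obtain e | ⟨r, t, g, r0, e1, e2, e3⟩ := h7
  · nlinarith
  obtain rfl : t = r + mu := by omega
  obtain rfl : r = 1 := by nlinarith
  have h : mu + 2 ∣ 12 := (Nat.dvd_add_right (Dvd.intro g rfl)).1 ⟨8, by linarith⟩
  have := Nat.le_of_dvd (by norm_num) h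
  obtain ⟨c, rfl⟩ := ho
  have : c ≤ 4 := by omega
  interval_cases c <;> simp_all

theorem a2_zero {m ε i y y' r g v : ℕ} (hm : Even m) (m0 : 0 < m) (he : Even ε) (ε0 : 0 < ε)
    (i1 : 1 ≤ i) (i2 : i ≤ 2) (h1 : (y + m * y') * (m + 2) = (m + 1) * m * (i * ε))
    (h3 : y' ≤ ε) (r0 : 0 < r) (e2 : r * (r + i * ε) + i * ε = m * (i * ε) + 1)
    (e3 : (2 * r + i * ε) * g = (r * (m + 1) + 1) * (m * (i * ε) + 1))
    (e4 : (2 * r + i * ε) * v + (m + 2) * y = r * (m + 1) + (m * (i * ε) + 1)) :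
    (i = 1 ∧ m = 2 ∧ ε = 2) ∨ (i = 1 ∧ m = 2 ∧ ε = 10) ∨
      (y' < ε ∧ (3 * ε < 4 * y' ∨ (ε = 4 ∧ y' = 3))) := by
  have hμ : 0 < i * ε := by positivity
  have rm : r + 1 ≤ m := by
    by_contra hh
    nlinarith
  have ε2 : 2 ≤ ε := Nat.le_of_dvd ε0 he.two_dvd
  have εμ : ε ≤ i * ε := Nat.le_mul_of_pos_left _ i1
  have hi : i * ε = ε ∧ i = 1 ∨ i * ε = 2 * ε := by interval_cases i <;> simp
  obtain ⟨c, hc⟩ := he
  generalize i * ε = μ at *
  have hd : m + 2 ∣ 2 * μ := by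
    obtain ⟨m, rfl⟩ : ∃ x, m = x + 1 := ⟨m - 1, by omega⟩
    exact (Nat.dvd_add_right (Dvd.intro (m * μ) rfl)).1 ⟨y + (m + 1) * y', by linarith⟩
  rcases le_or_gt 14 m with m14 | m14
  · have h4 := Nat.le_of_dvd (by omega) hd
    have h5 : m * μ ≤ (m + 2) * y' + m := Nat.le_of_mul_le_mul_left (by
      have := Nat.mul_le_mul_right (m + 1) rm
      have := Nat.zero_le ((2 * r + μ) * v)
      linarith) m0
    refine Or.inr (Or.inr ⟨h3.lt_of_ne ?_, Or.inl ?_⟩)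
    · rintro rfl
      rcases hi with ⟨e, -⟩ | e <;> subst e <;> nlinarith
    · obtain ⟨m, rfl⟩ : ∃ x, m = x + 14 := ⟨m - 14, by omega⟩
      have : (m + 16) * (3 * μ) < (m + 16) * (4 * y') := by nlinarith
      have := Nat.lt_of_mul_lt_mul_left this
      omega
  obtain ⟨m, rfl⟩ := hm
  have : m ≤ 6 := by omega
  rcases (by omega : m = 1 ∨ 2 ≤ m) with rfl | m2
  · obtain rfl : r = 1 := by omega
    have h : μ + 2 ∣ 12 := (Nat.dvd_add_right (Dvd.intro g rfl)).1 ⟨8, by linarith⟩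
    have := Nat.le_of_dvd (by norm_num) h
    have : μ ≤ 10 := by omega
    interval_cases μ <;> omega
  · have : r < m + m := rm
    exfalso
    interval_cases m <;> interval_cases r <;> first
      | omega
      | (obtain rfl | rfl | rfl : μ = 4 ∨ μ = 6 ∨ μ = 24 := by omega) <;> omega

theorem a2_even {k m ε i lam mu y y' : ℕ} (hk : k = i * (m * ε) + 1) (hm : Even m) (m0 : 0 < m)
    (he : Even ε) (ε0 : 0 < ε) (h1 : (1 + y + m * y') * (m + 2) = 1 + k + k * m) (h2 : y ≤ m * ε)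
    (h3 : y' ≤ ε) (h4 : lam + m * mu + 1 = k) (h5 : 0 < mu) (h6 : ε ∣ mu) (h6' : m * ε ∣ lam)
    (h7 : 2 * k + (k + k * m) * lam = (k + k * m) * mu ∨ ∃ r t g v, 0 < r ∧ 0 < t ∧
      r + mu = lam + t ∧ r * t + mu = k ∧ (r + t) * g + r = r * (1 + k + k * m) + k ∧
      (r + t) * v + (m + 2) * y + r = r * (m + 2) + k) :
    (k = 5 ∧ m = 2 ∧ ε = 2) ∨ (k = 21 ∧ m * ε = 20) ∨
      (y' < ε ∧ (3 * ε < 4 * y' ∨ (ε = 4 ∧ y' = 3))) := by
  have m2 : 2 ≤ m := Nat.le_of_dvd m0 hm.two_dvd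
  have ε2 : 2 ≤ ε := Nat.le_of_dvd ε0 he.two_dvd
  have e0 : 0 < m * ε := by positivity
  have h8 : m * y' ≤ m * ε := Nat.mul_le_mul_left _ h3
  have h9 : (y + m * y') * (m + 2) = (m + 1) * m * (i * ε) := by subst hk; linarith
  have h10 : i * (m + 1) ≤ 2 * (m + 2) := Nat.le_of_mul_le_mul_right (by
    have := Nat.mul_le_mul_right (m + 2) (add_le_add h2 h8)
    linarith) e0
  have i2 : i ≤ 2 := by nlinarith
  obtain ⟨a, rfl⟩ := h6
  obtain ⟨b, rfl⟩ := h6'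
  have a0 : 0 < a := Nat.pos_of_mul_pos_left h5
  obtain rfl : i = b + a := Nat.eq_of_mul_eq_mul_left e0 (by subst hk; linarith)
  have k0 : 0 < k := by omega
  obtain rfl | b1 := b.eq_zero_or_pos
  · obtain e | ⟨r, t, g, v, r0, t0, e1, e2, e3, e4⟩ := h7
    · have : 2 = (1 + m) * (ε * a) := Nat.eq_of_mul_eq_mul_left k0 (by linarith)
      nlinarith
    obtain rfl : t = r + ε * a := by omega
    subst hk
    rcases a2_zero (i := a) (y := y) (g := g) (v := v) hm m0 he ε0 a0 (by omega) (by linarith) h3 r0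
      (by linarith) (by linarith) (by linarith) with ⟨rfl, rfl, rfl⟩ | ⟨rfl, rfl, rfl⟩ | h
    exacts [Or.inl (by simp), Or.inr (Or.inl (by simp)), Or.inr (Or.inr h)]
  obtain rfl : a = 1 := by omega
  obtain rfl : b = 1 := by omega
  obtain e | ⟨r, t, g, v, r0, t0, e1, e2, -⟩ := h7
  · have : (k + k * m) * (ε * 1) ≤ (k + k * m) * (m * ε * 1) := Nat.mul_le_mul_left _ (by nlinarith)
    omega
  obtain ⟨m, rfl⟩ : ∃ x, m = x + 2 := ⟨m - 2, by omega⟩
  obtain rfl : r = t + (m + 1) * ε := by linarith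
  rcases (by omega : t = 1 ∨ t = 2 ∨ 3 ≤ t) with rfl | rfl | t3
  · nlinarith
  · obtain rfl : ε = 3 := by linarith
    exact absurd he (by decide)
  · nlinarith [Nat.mul_le_mul_left ((m + 1) * ε) t3, Nat.mul_le_mul t3 t3]

end Cfsg.Agent.TwoTr.Fr
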