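import Mathlib
import Cfsg.Agent.TwoTr.FrA1
import Cfsg.Agent.TwoTr.FrAr

/-! Rank 3 Frobenius groups: the case where the kernel is semiregular on non-neighbours. -/

set_option autoImplicit false

namespace Cfsg.Agent.TwoTr.Fr

open MulAction Subgroup Cfsg.Agent.Perm.DoubleCount

variable {G X : Type*} [Group G] [MulAction G X]

theorem even_of_invol {α : Type*} [Finite α] (σ : α → α) (h1 : ∀ a, σ (σ a) = a)
    (h2 : ∀ a, σ a ≠ a) : Even (Nat.card α) := by
  classical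
  have := Fintype.ofFinite α
  rw [Nat.card_eq_fintype_card, ← ZMod.natCast_eq_zero_iff_even]
  simpa using Finset.sum_involution (s := Finset.univ) (f := fun _ => (1 : ZMod 2))
    (fun a _ => σ a) (fun _ _ => by decide) (fun a _ _ => h2 a) (fun _ _ => Finset.mem_univ _)
    fun a _ => h1 a

theorem le_of_half [Finite G] {E H : Subgroup G} (S : Set G) (hS : S ⊆ E) (hH : S ⊆ H)
    (h : Nat.card E < 2 * S.ncard) : E ≤ H := by
  have h1 : S.ncard ≤ Nat.card (E ⊓ H : Subgroup G) :=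
    Set.ncard_le_ncard (show S ⊆ (E ⊓ H : Subgroup G) from fun x hx => ⟨hS hx, hH hx⟩)
  obtain ⟨c, hc⟩ := card_dvd_of_le (inf_le_left : E ⊓ H ≤ E)
  have := Nat.card_pos (α := E)
  obtain rfl : c = 1 := by
    rcases (by omega : c = 0 ∨ c = 1 ∨ 2 ≤ c) with rfl | rfl | c2
    · omega
    · rfl
    · nlinarith
  exact inf_eq_left.1 (eq_of_le_of_card_ge inf_le_left (by omega))

/-- an element inverting more than three quarters of a subgroup -/
theorem comm_of_many [Finite G] (E : Subgroup G) (s : G)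
    (h : 3 * Nat.card E < 4 * {x | x ∈ E ∧ s * x * s⁻¹ = x⁻¹}.ncard) :
    ∀ x ∈ E, ∀ y ∈ E, x * y = y * x := by
  set S := {x | x ∈ E ∧ s * x * s⁻¹ = x⁻¹}
  refine fun x hx y hy => le_of_half (H := centralizer E) S (fun _ h => h.1) (fun x hx => ?_)
    (by omega) hy x hx
  refine fun y hy => (le_of_half (H := centralizer {x}) (S ∩ (x * ·) ⁻¹' S) (fun _ h => h.1.1)
    (fun y hy => mem_centralizer_singleton_iff.2 ?_) ?_ hy x rfl).symm
  · have := hy.2.2
    rwa [← conj_mul, hx.2, hy.1.2, ← mul_inv_rev, inv_inj] at this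
  · have h1 := Set.ncard_union_add_ncard_inter S ((x * ·) ⁻¹' S)
    have h2 : (S ∪ (x * ·) ⁻¹' S).ncard ≤ Nat.card E := Set.ncard_le_ncard
      (Set.union_subset (fun _ hy => hy.1) fun _ hy => (mul_mem_cancel_left hx.1).1 hy.1 : _ ⊆ (E : Set G))
    rw [Set.ncard_preimage_of_injective_subset_range (mul_right_injective x)
      (by simp [(Group.mulLeft_bijective x).2.range_eq])] at h1
    omega

variable (X) in
/-- involutions with a fixed point -/
def Iw (t : G) : Prop := Iv t ∧ ∃ p : X, t • p = p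

theorem Iw.conj {t : G} (h : Iw X t) (g : G) : Iw X (g * t * g⁻¹) :=
  ⟨h.1.conj g, h.2.elim fun p e => ⟨g • p, by simp [mul_smul, e]⟩⟩

variable (G) in
/-- the number of such involutions interchanging two points -/
noncomputable def yy (u v : X) : ℕ := Nat.card {t : G // Iw X t ∧ t • u = v}

theorem yy_smul (g : G) (u v : X) : yy G (g • u) (g • v) = yy G u v :=
  (Nat.card_congr ((MulAut.conj g).toEquiv.subtypeEquiv fun x => and_congr
    ⟨fun hx => hx.conj g, fun hx => by simpa [mul_assoc] using hx.conj g⁻¹⟩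
    (by simp [mul_smul]))).symm

theorem yy_le [Finite G] (u v : X) : yy G u v ≤ Nat.card (D G u v) :=
  card_swap_le _ (fun _ ht => ht.1) _ fun _ _ _ _ _ _ e e' => ⟨e, e'⟩

theorem yy_le' [Finite G] {u v : X} {s : G} (hs : Iv s) (e : s • u = v) :
    yy G u v ≤ {x | x ∈ D G u v ∧ s * x * s⁻¹ = x⁻¹}.ncard :=
  Nat.card_le_card_of_injective (fun t => (⟨s * t.1, mem_D.2
    ⟨by rw [mul_smul, t.2.2, hs.swap e], by rw [mul_smul, t.2.1.1.swap t.2.2, e]⟩, by
      rw [← mul_assoc, hs.2, one_mul, mul_inv_rev, t.2.1.1.inv]⟩ :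
      {x | x ∈ D G u v ∧ s * x * s⁻¹ = x⁻¹}))
    fun _ _ e => Subtype.ext (mul_left_cancel (congrArg Subtype.val e))

namespace St

variable {Γ : SimpleGraph X} (h : St G Γ) [Finite G] [Finite X]
  (he : ∀ {u v : X}, Γ.Adj u v → Even (Nat.card (D G u v)))
include h

theorem card_nb {u b : X} (ab : Γ.Adj u b) (p : X) :
    Nat.card {t : G // Iw X t ∧ Γ.Adj p (t • p)} = Nat.card (h.F u) * yy G u b := by
  rw [h.card_F_eq u p, card_F]
  exact card_split (Iw X) (Γ.neighborSet p) p fun w hw => by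
    obtain ⟨g, rfl, rfl⟩ := h.tr1 ab hw
    exact yy_smul g u b

include he

theorem card_Iw {u b v : X} (ab : Γ.Adj u b) (n : u ≠ v) (a : ¬ Γ.Adj u v) :
    Nat.card {t : G // Iw X t} = Nat.card (h.F u) + Nat.card (h.F u) * yy G u b +
      {w | u ≠ w ∧ ¬ Γ.Adj u w}.ncard * yy G u v := by
  rw [card_two (Iw X) fun t : G => t • u ∈ {w | u ≠ w ∧ ¬ Γ.Adj u w}, add_comm,
    card_split (Iw X) _ u (m := yy G u v) fun w hw => by
      obtain ⟨g, e, rfl⟩ := h.tr2 n hw.1 a hw.2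
      exact (e ▸ yy_smul g u v :),
    card_two _ fun t : G => t • u = u, ← h.card_nb ab u, ← h.card_iv1 he u]
  congr 2 <;> refine Nat.card_congr (Equiv.subtypeEquivRight fun t => ?_)
  · exact ⟨fun ht => ⟨ht.1.1.1, ht.2⟩, fun ht => ⟨⟨⟨ht.1, u, ht.2⟩, fun e => e.1 ht.2.symm⟩, ht.2⟩⟩
  · exact ⟨fun ht => ⟨ht.1.1, by_contra fun e => ht.1.2 ⟨Ne.symm ht.2, e⟩⟩,
      fun ht => ⟨⟨ht.1, fun e => e.2 ht.2⟩, ht.2.ne'⟩⟩

theorem card_Iw_mul {d : G} {u : X} (hd : Iv d) (du : d • u = u) (R : X → X → Prop)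
    (hR : ∀ (g : G) u v, R (g • u) (g • v) ↔ R u v) {m : ℕ}
    (hm : ∀ p, Nat.card {t : G // Iw X t ∧ R p (t • p)} = m) :
    Nat.card {t : G // Iw X t} * Nat.card {p // R p (d • p)} = Nat.card X * m :=
  card_mul_eq_card_mul (fun (t : {t : G // Iw X t}) (p : X) => R p (t.1 • p)) (fun t => by
    obtain ⟨p, e⟩ := t.2.2
    obtain ⟨g, e'⟩ := h.conj_iv he hd du t.2.1 e
    rw [← e', card_rel_conj R hR]) fun p =>
      (card_subtype_subtype _ fun t : G => R p (t • p)).trans (hm p)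

theorem even_fix {d : G} (hd : Iv d) : Even (Nat.card {p : X // d • p = p}) := by
  choose σ h1 h2 using fun p : {p : X // d • p = p} => h.iv_nb he hd p.2
  refine even_of_invol (fun p => ⟨σ p, h2 p⟩) (fun p => Subtype.ext (by_contra fun e => hd.1 ?_))
    fun p e => (h1 p).ne' (congrArg Subtype.val e)
  exact h.two (h1 ⟨σ p, h2 p⟩) (h1 p).symm e (h2 p) (h2 _) p.2

theorem card_fix {d : G} {u v : X} (hd : Iv d) (du : d • u = u) (n : u ≠ v) (a : ¬ Γ.Adj u v) :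
    Nat.card (h.F u) * Nat.card {p : X // d • p = p} = Nat.card (h.F u) * 2 +
      {w | u ≠ w ∧ ¬ Γ.Adj u w}.ncard * Nat.card {s : G // Iv s ∧ s • u = u ∧ s • v = v} := by
  have key : ∀ t : G, Iv t → t • u = u → Nat.card {p : X // t • p = p} =
      Nat.card {p // (u ≠ p ∧ ¬ Γ.Adj u p) ∧ t • p = p} + 2 := fun t ht tu => by
    obtain ⟨b, ab, tb⟩ := h.iv_nb he ht tu
    rw [card_ne_add (fun p => t • p = p) tu, card_ne_add (fun p => t • p = p ∧ u ≠ p) ⟨tb, ab.ne⟩]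
    rw [add_assoc, Nat.add_right_cancel_iff]
    refine Nat.card_congr (Equiv.subtypeEquivRight fun p => ?_)
    exact ⟨fun hp => ⟨⟨hp.1.2, fun e => ht.1 (h.two ab e hp.2 tu tb hp.1.1)⟩, hp.1.1⟩,
      fun hp => ⟨⟨hp.2, hp.1.1⟩, fun e => hp.1.2 (e ▸ ab)⟩⟩
  have := card_mul_eq_card_mul (fun (s : {s : G // Iv s ∧ s • u = u})
    (q : {w | u ≠ w ∧ ¬ Γ.Adj u w}) => s.1 • q.1 = q.1)
    (m := Nat.card {p // (u ≠ p ∧ ¬ Γ.Adj u p) ∧ d • p = p})
    (n := Nat.card {s : G // Iv s ∧ s • u = u ∧ s • v = v}) (fun s => by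
      obtain ⟨x, -, e⟩ := h.conj_iv' he hd du s.2.1 s.2.2
      have := card_rel_conj (fun v w : X => w = v) (by simp) x d
      rw [e, key _ s.2.1 s.2.2, key d hd du] at this
      exact (card_subtype_subtype _ fun q => s.1 • q = q).trans (Nat.add_right_cancel this))
    fun q => by
      obtain ⟨g, e1, e2⟩ := h.tr2 n q.2.1 a q.2.2
      rw [card_subtype_subtype _ fun s : G => s • q.1 = q.1, ← card_iv_smul g, e1, e2]
      simp only [and_assoc]
  rw [h.card_iv1 he, Nat.card_coe_set_eq] at this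
  rw [key d hd du, mul_add, this, add_comm]

omit [Finite X] in
theorem yy_half {u v : X} (hX : h.XX u v = ⊥)
    (hc : ∀ x ∈ D G u v, ∀ y ∈ D G u v, x * y = y * x) (h1 : yy G u v < Nat.card (D G u v)) :
    2 * yy G u v ≤ Nat.card (D G u v) := by
  by_contra! h2
  let φ : D G u v →* G := MonoidHom.mk' (fun x => x.1 * x.1) fun x y => by
    rw [coe_mul, mul_assoc, ← mul_assoc y.1, hc _ y.2 _ x.2, mul_assoc, mul_assoc]
  have h3 : Nat.card φ.ker ≤ 2 := by
    rw [card_ne_add (· ∈ φ.ker) (one_mem _)]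
    refine Nat.succ_le_succ (Finite.card_le_one_iff_subsingleton.2 ⟨fun x y => ?_⟩)
    have hx : Iv x.1.1 := ⟨fun e => x.2.2 (Subtype.ext e.symm), x.2.1⟩
    have hy : Iv y.1.1 := ⟨fun e => y.2.2 (Subtype.ext e.symm), y.2.1⟩
    have : x.1.1 * y.1.1 ∈ h.XX u v := ⟨h.mul_mem_F he hx x.1.2.1 hy y.1.2.1, (mul_mem x.1.2 y.1.2).2⟩
    rw [hX, mem_bot, mul_eq_one_iff_eq_inv, hy.inv] at this
    exact Subtype.ext (Subtype.ext this)
  have h4 := φ.ker.card_mul_index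
  rw [index_ker] at h4
  have h5 : Nat.card φ.range ∣ yy G u v := by
    refine dvd_free φ.range {t : G | Iw X t ∧ t • u = v} ?_ fun g _ x _ e => by simpa using e
    rintro _ ⟨x, rfl⟩ t ht
    have hi : t * x * t⁻¹ = x.1⁻¹ := by
      let H : Subgroup G :=
        { carrier := {x | x ∈ D G u v ∧ t * x * t⁻¹ = x⁻¹}
          one_mem' := ⟨one_mem _, by simp⟩
          mul_mem' := fun {a b} ha hb => ⟨mul_mem ha.1 hb.1, by
            rw [← conj_mul, ha.2, hb.2, ← mul_inv_rev, hc _ ha.1 _ hb.1]⟩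
          inv_mem' := fun {a} ha => ⟨inv_mem ha.1, by rw [← conj_inv, ha.2]⟩ }
      exact (le_of_half (H := H) H (fun _ h => h.1) subset_rfl
        (h2.trans_le (Nat.mul_le_mul_left _ (yy_le' ht.1.1 ht.2))) x.2).2
    have e : φ x • t = x.1 * t * x.1⁻¹ := by
      rw [← hi, ht.1.1.inv, mul_assoc, ← mul_assoc t, ← mul_assoc t, ht.1.1.2, one_mul,
        ← mul_assoc]
      rfl
    rw [e]
    exact ⟨ht.1.conj _, by rw [mul_smul, mul_smul, (inv_mem x.2).1, ht.2, x.2.2]⟩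
  have := Nat.le_of_dvd (by omega) ((Nat.dvd_sub (Dvd.intro_left _ h4) h5))
  have := Nat.mul_le_mul_right (Nat.card φ.range) h3
  omega

omit he [Finite X] in
theorem not_21 {u b : X} (ab : Γ.Adj u b) (hk : Nat.card (h.F u) = 21) :
    Nat.card (D G u b) ≠ 20 := fun hD => by
  have : Fact (Nat.Prime 7) := ⟨by norm_num⟩
  obtain ⟨x, hx⟩ := exists_prime_orderOf_dvd_card' (G := h.F u) 3 (by rw [hk]; norm_num)
  obtain ⟨y, hy⟩ := exists_prime_orderOf_dvd_card' (G := h.F u) 7 (by rw [hk]; norm_num)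
  rw [← orderOf_coe] at hx hy
  have h1 := dvd_free_conj (D G u b) {x | x ∈ h.F u ∧ orderOf x = 3} (fun g hg x hx =>
    ⟨h.conj_F' hx.1 hg.1, ((MulAut.conj g).orderOf_eq x).trans hx.2⟩)
    fun g hg x hx e => h.free_conj ab hg hx.1 (fun e => by simp [e] at hx) e
  have h2 := Nat.le_of_dvd ((Set.ncard_pos (Set.toFinite _)).2 ⟨x.1, by exact ⟨x.2, hx⟩⟩) h1
  have h3 : {x | x ∈ h.F u ∧ orderOf x = 3}.ncard ≤ (((h.F u : Set G) \ {1}) \ {y.1}).ncard :=
    Set.ncard_le_ncard (fun z hz => And.intro ⟨hz.1, fun e => by simp [show z = 1 from e] at hz⟩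
      fun e => by simp [show z = y from e, hy] at hz)
  rw [Set.ncard_sdiff_singleton_of_mem
      (by exact ⟨y.2, fun e => by simp [show y.1 = 1 from e] at hy⟩),
    Set.ncard_sdiff_singleton_of_mem (one_mem _), show (h.F u : Set G).ncard = 21 from hk] at h3
  omega

theorem a2 {u v : X} (n : u ≠ v) (a : ¬ Γ.Adj u v) (hX : h.XX u v = ⊥) :
    (Nat.card X = 10 ∧ Nat.card G = 60) ∨ (Nat.card X = 16 ∧ Nat.card G = 320) := by
  have hX' : ∀ w, u ≠ w → ¬ Γ.Adj u w → h.XX u w = ⊥ := fun w n' a' =>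
    card_eq_one.1 (by rw [h.card_XX n' n a' a, hX, card_bot])
  obtain ⟨b, ab⟩ := h.ex1 u
  obtain ⟨d, hd, du, -⟩ := exists_d he ab
  obtain ⟨m, hm⟩ := dvd_free (h.F u) {w | u ≠ w ∧ ¬ Γ.Adj u w} (fun g hg w hw =>
    ⟨fun e => hw.1 (smul_left_cancel g ((h.fixF hg).trans e)),
      fun e => hw.2 ((h.adj_smul_iff (h.fixF hg)).1 e)⟩)
    fun g hg w hw e => mem_bot.1 (hX' w hw.1 hw.2 ▸ (⟨hg, e⟩ : g ∈ h.XX u w))
  have k0 := Nat.card_pos (α := h.F u)
  have ε0 := Nat.card_pos (α := D G u v)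
  have m0 : 0 < m := Nat.pos_of_mul_pos_left (hm ▸ (Set.ncard_pos (Set.toFinite _)).2
    ⟨v, (⟨n, a⟩ : u ≠ v ∧ ¬ Γ.Adj u v)⟩)
  have h1 := h.card_stab ab
  have h2 := h.card_X u
  have h3 : Nat.card (D G u b) = m * Nat.card (D G u v) := Nat.eq_of_mul_eq_mul_left k0 (by
    rw [← h1, h.card_stab' n a, hm, mul_assoc])
  obtain ⟨i, hi⟩ := h.dvd_k ab
  have hk : Nat.card (h.F u) = i * (m * Nat.card (D G u v)) + 1 := by
    rw [mul_comm i, ← h3]; omega
  have h4 := h.card_Iw he ab n a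
  have h5 := h.card_Iw_mul he hd du (fun v w => w = v) (by simp) (m := Nat.card (h.F u)) fun p => by
    rw [h.card_F_eq u p, ← h.card_iv1 he]
    exact Nat.card_congr (Equiv.subtypeEquivRight fun t =>
      ⟨fun ht => ⟨ht.1.1, ht.2⟩, fun ht => ⟨⟨ht.1, p, ht.2⟩, ht.2⟩⟩)
  have h6 := h.card_Iw_mul he hd du Γ.Adj h.smul (h.card_nb ab)
  have h7 := h.card_fix he hd du n a
  have h8 := yy_le (G := G) u b
  have h9 := he ab
  obtain ⟨lam, mu, j, p1, p2, -, p4, p5, p6, p7⟩ := h.par ab n a rfl rfl hm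
  obtain rfl : j = m * mu := Nat.eq_of_mul_eq_mul_left k0 (by rw [p6, mul_assoc])
  rw [h.card_G u, h1]
  rw [hm] at h2 h4 h7
  rw [h4, h2] at h5
  rw [h3] at h8 h9 p4 ⊢
  rcases Nat.even_or_odd (Nat.card (D G u v)) with hε | hε
  · obtain ⟨t, ht, t1, t2⟩ := RankOne.exists_invol_of_even hε
    rw [h.card_iv he ⟨t1, t2⟩ ht.1 ht.2, hX, card_bot] at h7
    have f : Nat.card {p : X // d • p = p} = m + 2 := Nat.eq_of_mul_eq_mul_left k0 (by linarith)
    have hα : Nat.card {p // Γ.Adj p (d • p)} = (m + 2) * yy G u b := by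
      refine Nat.eq_of_mul_eq_mul_left (Nat.card_pos_iff.2 ⟨⟨⟨d, hd, u, du⟩⟩, inferInstance⟩ :
        0 < Nat.card {t : G // Iw X t}) ?_
      rw [h6, ← mul_assoc (Nat.card _) (m + 2), ← f, h4, h5, h2, mul_assoc]
    have hm2 : Even m := by simpa [f, parity_simps] using h.even_fix he hd
    rw [f] at h5
    have p9 := a2_even (y := yy G u b) hk hm2 m0 hε ε0
      (Nat.eq_of_mul_eq_mul_left k0 (by linarith)) h8 (yy_le u v) p1 p2 p5 p4
      (p7.imp_right fun ⟨r, t, r0, t0, e1, e2, e3⟩ => by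
        obtain ⟨g, hg⟩ := e3 ⊥ 1 (fun v => ⟨1, one_mem _, rfl⟩)
          fun x hx => ⟨1, by simp [mem_bot.1 hx]⟩
        obtain ⟨w, hw⟩ := e3 (h.F u) d (fun p => by
          by_cases e : u = p
          · exact ⟨1, one_mem _, by rw [← e, du, one_smul]⟩
          by_cases e' : Γ.Adj u p
          · exact (h.trF e' (h.adj_smul du e')).imp fun _ hx => ⟨hx.1, hx.2.symm⟩
          obtain ⟨s, hs, s1, s2⟩ := RankOne.exists_invol_of_even (h.card_D2 n e a e' ▸ hε)
          exact ⟨d * s, h.mul_mem_F he hd du ⟨s1, s2⟩ hs.1, by rw [mul_smul, hs.2]⟩) fun x hx =>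
          (h.conj_iv he hd du (h.iv_mul he hd du hx) (by rw [mul_smul, du, h.fixF hx])).imp
            fun _ => Eq.symm
        exact ⟨r, t, g, w, r0, t0, e1, e2, by simpa [h2] using hg, by rwa [hα, f] at hw⟩)
    clear p7
    rcases p9 with ⟨e1, e2, e3⟩ | ⟨e1, e2⟩ | ⟨e1, e2⟩
    · right
      rw [h2, e1, e2, e3]; norm_num
    · exact (h.not_21 ab e1 (h3.trans e2)).elim
    · have := h.yy_half he hX (by
        rcases e2 with e2 | ⟨e2, -⟩
        · obtain ⟨⟨s, hs⟩⟩ := (Nat.card_pos_iff.1 (show 0 < yy G u v by omega)).1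
          exact comm_of_many _ s (e2.trans_le (Nat.mul_le_mul_left _ (yy_le' hs.1.1 hs.2)))
        · exact fun x hx y hy => congrArg Subtype.val
            ((IsPGroup.isMulCommutative_of_card_eq_prime_sq (p := 2) e2).is_comm.comm
              (⟨x, hx⟩ : D G u v) ⟨y, hy⟩)) e1
      omega
  · left
    have : IsEmpty {s : G // Iv s ∧ s • u = u ∧ s • v = v} :=
      ⟨fun s => Nat.not_even_iff_odd.2 hε (s.2.1.even s.2.2)⟩
    rw [@Nat.card_of_isEmpty _ this, mul_zero, add_zero] at h7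
    rw [Nat.eq_of_mul_eq_mul_left k0 h7] at h5
    obtain ⟨e1, e2, e3⟩ := a2_odd (y := yy G u b) hk hε h9 m0
      (Nat.eq_of_mul_eq_mul_left k0 (by linarith)) h8 (yy_le u v) p1 p2 p5
      (p7.imp_right fun ⟨r, t, r0, _, e1, e2, e3⟩ => by
        obtain ⟨g, hg⟩ := e3 ⊥ 1 (fun v => ⟨1, one_mem _, rfl⟩)
          fun x hx => ⟨1, by simp [mem_bot.1 hx]⟩
        exact ⟨r, t, g, r0, e1, e2, by simpa [h2] using hg⟩)
    rw [h2, e1, e2, e3]; norm_num

end St

end Cfsg.Agent.TwoTr.Fr
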