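import Mathlib
import Cfsg.Agent.TwoTr.AtkSetup
import Cfsg.Agent.TwoTr.AtkSchur
import Cfsg.Agent.Perm.PrimRel
import Cfsg.Agent.Inv.SylowTwo
import Cfsg.Agent.S0341
import Cfsg.Agent.S0741

/-! Atkinson's theorem on doubly transitive groups of degree `p ^ 2 + 1`. -/

set_option autoImplicit false
set_option linter.unusedSectionVars false

namespace Cfsg.Agent.TwoTr.Atk

open MulAction Subgroup
open scoped Pointwise IsMulCommutative

variable {G Ω : Type*} [Group G] [Finite G] [MulAction G Ω] [Finite Ω] {p : ℕ} (A : Atk G Ω p)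
include A

/-- `K a` is doubly transitive on the block of `b` -/
def T2 (a b : Ω) : Prop :=
  ∀ y ∈ A.Δ a b, ∀ z ∈ A.Δ a b, y ≠ b → z ≠ b → ∃ k ∈ A.K a, k • b = b ∧ k • y = z

theorem T2_all {a b : Ω} (hab : b ≠ a) (h : A.T2 a b) {c d : Ω} (hcd : d ≠ c) : A.T2 c d := by
  obtain ⟨g, rfl, rfl⟩ := A.h2 a b c d hab.symm hcd.symm
  intro y hy z hz hyb hzb
  obtain ⟨k, hk, h1, h2⟩ := h (g⁻¹ • y) ((A.smul_iff g).1 (by simpa using hy)) (g⁻¹ • z)
    ((A.smul_iff g).1 (by simpa using hz)) (fun e => hyb (inv_smul_eq_iff.1 e))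
    fun e => hzb (inv_smul_eq_iff.1 e)
  exact ⟨_, A.conj_K hk g, by simp [mul_smul, h1], by simp [mul_smul, h2]⟩

/-- the fixed points of `K_b` -/
def F (a b : Ω) : Set Ω := {x | ∀ k ∈ A.K a, k • b = b → k • x = x}

theorem F_smul (g : G) {a b x : Ω} (h : x ∈ A.F a b) : g • x ∈ A.F (g • a) (g • b) := by
  intro k hk hb
  have h1 := A.conj_K hk g⁻¹
  rw [inv_smul_smul] at h1
  have := h _ h1 (by simp [mul_smul, hb])
  rwa [mul_smul, mul_smul, inv_inv, inv_smul_eq_iff] at this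

theorem card_K {a x : Ω} (hx : x ≠ a) :
    Nat.card (A.K a) = p * Nat.card ↥(A.K a ⊓ stabilizer G x) := by
  rw [card_of_orbit (A.K a) x (A.Δ a x) fun y => ⟨A.K_trans hx, by
    rintro ⟨k, hk, rfl⟩; exact hk.2 x hx⟩, A.ncard a x hx]

theorem K_fix_iff {a b δ : Ω} (hab : b ≠ a) (hδ : δ ∈ A.F a b) (hδa : δ ≠ a) {k : G}
    (hk : k ∈ A.K a) : k • b = b ↔ k • δ = δ := by
  have h : A.K a ⊓ stabilizer G b = A.K a ⊓ stabilizer G δ :=
    eq_of_le_of_card_ge (fun g hg => ⟨hg.1, hδ g hg.1 hg.2⟩)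
      (Nat.eq_of_mul_eq_mul_left A.hp.pos ((A.card_K hδa).symm.trans (A.card_K hab))).le
  exact ⟨hδ k hk, fun e => (h.symm ▸ (⟨hk, e⟩ : k ∈ A.K a ⊓ stabilizer G δ) :
    k ∈ A.K a ⊓ stabilizer G b).2⟩

theorem F_eq {a b δ : Ω} (hab : b ≠ a) (hδ : δ ∈ A.F a b) (hδa : δ ≠ a) : A.F a δ = A.F a b :=
  Set.ext fun _ => forall₂_congr fun k hk => by rw [A.K_fix_iff hab hδ hδa hk]

theorem F_stab {a b : Ω} (hab : b ≠ a) {g : G} (ha : g • a = a) (hb : g • b ∈ A.F a b) :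
    g ∈ stabilizer G (A.F a b) := mem_stab_set.2 fun x hx => by
  have := A.F_smul g hx
  rwa [ha, A.F_eq hab hb fun h => hab (smul_left_cancel g (h.trans ha.symm))] at this

theorem exists_move (hp2 : p ≠ 2) {a b : Ω} (hab : b ≠ a) (h : A.T2 a b) {y : Ω} (hy : y ∈ A.Δ a b)
    (hyb : y ≠ b) : y ∉ A.F a b := fun hF => by
  have h1 : 1 < (A.Δ a b \ {b}).ncard := by
    rw [Set.ncard_sdiff_singleton_of_mem (A.self a b hab), A.ncard a b hab]
    have := A.hp.two_le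
    omega
  obtain ⟨z, hz, hzy⟩ := Set.exists_ne_of_one_lt_ncard h1 y
  obtain ⟨k, hk, h2, h3⟩ := h y hy z hz.1 hyb hz.2
  exact hzy (h3.symm.trans (hF k hk h2))

theorem false_of_grid (hp2 : p ≠ 2) (hT : ∀ a b, b ≠ a → A.T2 a b)
    (h : ∀ a b, b ≠ a → ∃ δ ∈ A.F a b, δ ≠ a ∧ δ ≠ b) {a b : Ω} (hab : b ≠ a) : False := by
  have hdes : ∀ a b, b ≠ a → (A.F a b).ncard = p + 1 ∧ ∀ g ∈ stabilizer G (A.F a b), g • a = a := by
    intro a b hab
    obtain ⟨δ, h1, h2, h3⟩ := h a b hab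
    obtain ⟨y, hy, hyb⟩ := A.exists_ne a b hab b
    refine A.design hab (fun k hk _ => hk.1) (fun _ _ h => h) h1 h2 h3
      (fun e => A.exists_move hp2 hab (hT a b hab) hy hyb (e ▸ Set.mem_univ y))
      (fun g ha hb => A.F_stab hab ha (by rw [hb]; exact fun _ _ h => h)) fun x hx hxa => ?_
    obtain ⟨g, h4, h5⟩ := A.h2 a b a x hab.symm hxa.symm
    exact ⟨g, A.F_stab hab h4 (h5 ▸ hx), h4, h5⟩
  obtain ⟨hX, -⟩ := hdes a b hab
  obtain ⟨hY, hY'⟩ := hdes b a hab.symm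
  have haY : a ∈ A.F b a := fun _ _ h => h
  have hbY : b ∈ A.F b a := fun k hk _ => hk.1
  have hDY : ∀ g : G, g • a = a → g • b = b → ∀ x ∈ A.F b a, g • x ∈ A.F b a := fun g ha hb =>
    mem_stab_set.1 (A.F_stab hab.symm hb (by rwa [ha]))
  obtain ⟨γ, hγ, hγ'⟩ : ∃ γ ∈ A.F b a, γ ∉ A.F a b := by
    by_contra hc
    push Not at hc
    have e : A.F b a = A.F a b := Set.eq_of_subset_of_ncard_le hc (by rw [hX, hY])
    obtain ⟨δ, h1, h2, h3⟩ := h a b hab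
    obtain ⟨g, h4, h5⟩ := A.h2 a b a δ hab.symm h2.symm
    exact h3 (h5.symm.trans (hY' g (e ▸ A.F_stab hab h4 (h5 ▸ h1))))
  have hγa : γ ≠ a := fun e => hγ' (e ▸ fun k hk _ => hk.1)
  obtain ⟨δ, hδ, hδa, hδγ⟩ : ∃ δ ∈ A.F a b, δ ≠ a ∧ A.Δ a δ = A.Δ a γ := by
    have h1 : (fun x => A.Δ a x) '' (A.F a b \ {a}) = A.Bl a := by
      refine Set.eq_of_subset_of_ncard_le (by rintro _ ⟨x, hx, rfl⟩; exact ⟨x, hx.2, rfl⟩) ?_
      rw [Set.InjOn.ncard_image, A.ncard_Bl,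
        Set.ncard_sdiff_singleton_of_mem (show a ∈ A.F a b from fun k hk _ => hk.1), hX]
      · simp
      · intro x hx y hy e
        by_contra hxy
        exact A.exists_move hp2 hx.2 (hT a x hx.2) (y := y)
          ((show A.Δ a x = A.Δ a y from e) ▸ A.self a y hy.2) (Ne.symm hxy)
          (A.F_eq hab hx.1 hx.2 ▸ hy.1)
    obtain ⟨δ, h2, h3⟩ := h1.symm.subset ⟨γ, hγa, rfl⟩
    exact ⟨δ, h2.1, h2.2, h3⟩
  have hγδ : γ ∈ A.Δ a δ := hδγ ▸ A.self a γ hγa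
  have hne : γ ≠ δ := fun e => hγ' (e ▸ hδ)
  have h1 : ∀ z ∈ A.Δ a δ, z ≠ δ → z ∈ A.F b a := fun z hz hzδ => by
    obtain ⟨k, hk, h2, rfl⟩ := hT a δ hδa γ hγδ z hz hne hzδ
    exact hDY k hk.1 ((A.K_fix_iff hab hδ hδa hk).2 h2) γ hγ
  have h2 : δ ∈ A.F b a := fun m hm ha => by
    have h3 : m • δ ∈ A.Δ a δ := by
      rw [hδγ]
      exact A.smul_mem' hγa ha (hγ m hm ha) (hδγ ▸ A.self a δ hδa)
    by_contra h4
    exact h4 (smul_left_cancel m (h1 _ h3 h4 m hm ha))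
  have h3 : insert a (A.Δ a δ) = A.F b a := Set.eq_of_subset_of_ncard_le (by
    rintro z (rfl | hz)
    · exact haY
    · by_cases e : z = δ
      · exact e ▸ h2
      · exact h1 z hz e) (by rw [hY, A.ncard_insert hδa])
  have h4 : b ∈ A.Δ a δ := (h3.symm.subset hbY).resolve_left hab
  obtain ⟨y, hy, hyb⟩ := A.exists_ne a δ hδa b
  obtain ⟨k, hk, rfl⟩ := A.K_trans hab (A.eq _ _ _ h4 ▸ hy)
  exact hyb (hY' k (h3 ▸ A.mem_stab_insert hk.1 (hk.2 δ hδa)))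

theorem false_of_free (hp2 : p ≠ 2) {a b : Ω} (hab : b ≠ a) (hT : A.T2 a b)
    (h : ∀ δ ∈ A.F a b, δ ≠ a → δ = b) : False := by
  obtain ⟨P, c, hP⟩ := A.exists_isP a
  have : IsMulCommutative P := ⟨⟨fun u v => Subtype.ext (hP.comm u u.2 v v.2)⟩⟩
  let T := A.K a ⊔ P
  have hTa : ∀ t ∈ T, t • a = a := fun t ht =>
    (sup_le (fun k hk => hk.1) hP.fix : T ≤ stabilizer G a) ht
  have hne : ∀ t ∈ T, ∀ x, x ≠ a → t • x ≠ a := fun t ht x hx e =>
    hx (smul_left_cancel t (e.trans (hTa t ht).symm))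
  have hinj : ∀ u ∈ P, ∀ v ∈ P, u • b = v • b → u = v := fun u hu v hv e =>
    (inv_mul_eq_one.1 (hP.free _ (mul_mem (inv_mem hv) hu) b hab
      (by rw [mul_smul, e, inv_smul_smul]))).symm
  let e : P ≃ {x // x ≠ a} := Equiv.ofBijective
    (fun u => ⟨(u : G) • b, hne u (mem_sup_right u.2) b hab⟩)
    ⟨fun u v h => Subtype.ext (hinj u u.2 v v.2 (congrArg Subtype.val h)), fun x => by
      obtain ⟨u, hu, h⟩ := hP.trans b x hab x.2
      exact ⟨⟨u, hu⟩, Subtype.ext h⟩⟩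
  have he : ∀ x, ((e.symm x : P) : G) • b = x := fun x =>
    congrArg Subtype.val (e.apply_symm_apply x)
  let sm : T → P → P := fun t u =>
    e.symm ⟨(t : G) • (u : G) • b, hne t t.2 _ (hne u (mem_sup_right u.2) b hab)⟩
  have hsm : ∀ t u, ((sm t u : P) : G) • b = (t : G) • (u : G) • b := fun t u => he _
  have hext : ∀ u v : P, (u : G) • b = (v : G) • b → u = v := fun u v h =>
    Subtype.ext (hinj u u.2 v v.2 h)
  let _ : MulAction T P :=
    { smul := sm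
      one_smul := fun u => hext _ _ ((hsm 1 u).trans (one_smul _ _))
      mul_smul := fun s t u => hext _ _ ((hsm (s * t) u).trans
        ((mul_smul (s : G) t _).trans ((congrArg ((s : G) • ·) (hsm t u)).symm.trans
          (hsm s _).symm))) }
  have hs : ∀ (t : T) (u : P), ((t • u : P) : G) • b = (t : G) • (u : G) • b := hsm
  have hQ : ∀ u : P, u ∈ zpowers (⟨c, hP.mem⟩ : P) ↔ (u : G) • b ∈ A.Δ a b := fun u => by
    refine ⟨?_, fun h => ?_⟩
    · rintro ⟨i, rfl⟩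
      exact (zpow_mem hP.memK i).2 b hab
    · obtain ⟨v, ⟨i, rfl⟩, hv⟩ := hP.gen b _ hab h
      exact ⟨i, hext _ _ hv⟩
  have hQ' : ∀ y u : P, y⁻¹ * u ∈ zpowers (⟨c, hP.mem⟩ : P) ↔
      (u : G) • b ∈ A.Δ a ((y : G) • b) := fun y u => by
    rw [hQ, ← A.smul_iff (y : G), hP.fix y y.2]
    simp [mul_smul]
  have hK : ∀ s : T, s • (1 : P) = 1 → (s : G) ∈ A.K a ∧ (s : G) • b = b := fun s hs1 => by
    have h1 : (s : G) • b = b := by simpa [hs1] using (hs s 1).symm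
    obtain ⟨k, hk, u, hu, e⟩ := mem_sup_of_conj (fun u hu k hk => A.conj_K' hk (hP.fix u hu)) s.2
    refine ⟨?_, h1⟩
    rw [e, mul_smul, smul_eq_iff_eq_inv_smul] at h1
    obtain ⟨i, hi⟩ := (hQ ⟨u, hu⟩).2 (h1 ▸ (inv_mem hk).2 b hab)
    rw [e, ← show c ^ i = u from congrArg Subtype.val hi]
    exact mul_mem hk (zpow_mem hP.memK i)
  have hmove : ∀ u : P, (u : G) • b ∉ A.Δ a b → ∃ k ∈ A.K a, k • b = b ∧ ∃ v : P, u ≠ v ∧
      k • (u : G) • b = (v : G) • b := fun u hu => by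
    have h1 : (u : G) • b ∉ A.F a b := fun h1 => hu (by
      rw [h _ h1 (hne u (mem_sup_right u.2) b hab)]; exact A.self a b hab)
    simp only [F, Set.mem_ofPred_eq, not_forall] at h1
    obtain ⟨k, hk, h2, h3⟩ := h1
    exact ⟨k, hk, h2, (⟨k, mem_sup_left hk⟩ : T) • u, fun e => h3 (by
      have := hs ⟨k, mem_sup_left hk⟩ u
      rw [← e] at this
      exact this.symm), (hs ⟨k, mem_sup_left hk⟩ u).symm⟩
  obtain ⟨x, hx, hxa⟩ : ∃ x, x ∉ A.Δ a b ∧ x ≠ a := by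
    by_contra hc
    push Not at hc
    have h1 : (Set.univ : Set Ω) ⊆ insert a (A.Δ a b) := fun x _ => by
      by_cases hx : x ∈ A.Δ a b
      exacts [Or.inr hx, Or.inl (hc x hx)]
    have h2 := Set.ncard_le_ncard h1
    rw [A.ncard_insert hab, Set.ncard_univ, A.card] at h2
    have := A.hp.two_le
    nlinarith
  obtain ⟨y, hy, rfl⟩ := hP.trans b x hab hxa
  lift y to P using hy
  let X : Set P := {u | ∃ k ∈ A.K a, k • b = b ∧ k • (y : G) • b = (u : G) • b}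
  have hXk : ∀ k ∈ A.K a, k • b = b → ∀ u v : P, k • (u : G) • b = (v : G) • b → u ∈ X → v ∈ X :=
    fun k hk h1 u v h2 ⟨k', hk', h3, h4⟩ =>
      ⟨k * k', mul_mem hk hk', by rw [mul_smul, h3, h1], by rw [mul_smul, h4, h2]⟩
  have hXk' : ∀ k ∈ A.K a, k • b = b → ∀ u v : P, k • (u : G) • b = (v : G) • b → v ∈ X → u ∈ X :=
    fun k hk h1 u v h2 => hXk k⁻¹ (inv_mem hk) (inv_smul_eq_iff.2 h1.symm) v u
      (inv_smul_eq_iff.2 h2.symm)
  obtain ⟨z, hz, hzX⟩ : ∃ z ∈ A.Δ a ((y : G) • b),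
      ¬ ∃ k ∈ A.K a ⊓ stabilizer G b, k • (y : G) • b = z := by
    by_contra hc
    push Not at hc
    refine A.not_dvd_card hab (H := A.K a ⊓ stabilizer G b) (fun g hg => hg.1.1)
      (fun g hg => hg.2) ?_
    exact (A.ncard a _ hxa).symm.dvd.trans (ncard_orbit_dvd _ ((y : G) • b) _ fun z => ⟨hc z, by
      rintro ⟨k, hk, rfl⟩; exact hk.1.2 _ hxa⟩)
  obtain ⟨w, hw, rfl⟩ := hP.trans b z hab (A.ne _ _ _ hz)
  lift w to P using hw
  have hwX : w ∉ X := fun ⟨k, hk, h1, h2⟩ => hzX ⟨k, ⟨hk, h1⟩, h2⟩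
  obtain ⟨k, hk, h1, y', hy', h2⟩ := hmove y hx
  obtain ⟨k', hk', h3, w', hw', h4⟩ := hmove w fun h5 =>
    hx (A.eq _ _ _ h5 ▸ A.eq _ _ _ hz ▸ A.self _ _ hxa)
  have hyX : y ∈ X := ⟨1, one_mem _, one_smul _ _, one_smul _ _⟩
  refine schur_false (T := T) (ι := inclusion le_sup_right) (c := ⟨c, hP.mem⟩) (y := y) A.hp hp2
    (fun u v => hext _ _ ((hs _ _).trans (mul_smul _ _ _).symm)) hP.card
    ((orderOf_coe _).symm.trans hP.ord) (fun u hu v hv hu1 hv1 => ?_) X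
    (fun s hs1 u => propext ⟨hXk' s (hK s hs1).1 (hK s hs1).2 u _ (hs s u).symm,
      hXk s (hK s hs1).1 (hK s hs1).2 u _ (hs s u).symm⟩)
    (fun u ⟨k, hk, _, h⟩ => (hQ' y u).2 (h ▸ hk.2 _ hxa)) hyX (hXk k hk h1 y y' h2 hyX) hy' hwX
    (fun h => hwX (hXk' k' hk' h3 w w' h4 h)) hw' ((hQ' y w).2 hz)
    ((hQ' y w').2 (h4 ▸ A.K_smul hk' hz))
  obtain ⟨k, hk, h5, h6⟩ := hT _ ((hQ u).1 hu) _ ((hQ v).1 hv)
    (fun e => hu1 (hext _ _ (by simpa using e))) fun e => hv1 (hext _ _ (by simpa using e))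
  exact ⟨⟨k, mem_sup_left hk⟩, hext _ _ ((hs _ _).trans (by simpa using h5)),
    hext _ _ ((hs _ _).trans h6)⟩

section affine

variable (hT : ∀ a b, b ≠ a → ¬ A.T2 a b)
include hT

theorem aff {a b : Ω} (hab : b ≠ a) :
    (∀ g ∈ A.K a, ∀ x ∈ A.Δ a b, ∀ y ∈ A.Δ a b, x ≠ y → g • x = x → g • y = y → g = 1) ∧
      ∀ g ∈ A.K a, ∀ g' ∈ A.K a, g ^ p = 1 → g' ^ p = 1 → g * g' = g' * g := by
  have h := (burnside_dichotomy A.hp (A.K a) (A.Δ a b) (A.ncard a b hab)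
    (fun g hg x hx => A.K_smul hg hx) fun x hx y hy =>
      A.K_trans (A.ne _ _ _ hx) (A.eq _ _ _ hx ▸ hy)).resolve_left
    fun h => hT a b hab (h b (A.self a b hab))
  refine ⟨fun g hg x hx y hy hxy h1 h2 => A.K_faith hab hg (h.1 g hg x hx y hy hxy h1 h2),
    fun g hg g' hg' h1 h2 => ?_⟩
  refine (inv_mul_eq_one.1 (A.K_faith hab (mul_mem (inv_mem (mul_mem hg' hg)) (mul_mem hg hg'))
    fun z hz => ?_)).symm
  rw [mul_smul, inv_smul_eq_iff, mul_smul, mul_smul, h.2 g hg g' hg' h1 h2 z hz]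

theorem conj_c {a : Ω} {P : Subgroup G} {c : G} (hP : A.IsP a P c) {g : G} (hg : g • a = a) :
    g * c * g⁻¹ ∈ zpowers c := by
  have hp := A.hp.two_le
  have : Nontrivial Ω := Finite.one_lt_card_iff_nontrivial.1 (by rw [A.card]; nlinarith)
  obtain ⟨b, hab⟩ := _root_.exists_ne a
  have hc : c ^ p = 1 := hP.ord ▸ pow_orderOf_eq_one c
  have h1 := A.conj_K' hP.memK hg
  have h2 := (A.aff hT hab).2 _ h1 _ hP.memK (by rw [conj_pow, hc]; simp) hc
  generalize g * c * g⁻¹ = u at h1 h2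
  obtain ⟨v, hv, e⟩ := hP.gen b _ hab (h1.2 b hab)
  have h3 : ∀ w ∈ zpowers c, u * w = w * u := by
    rintro _ ⟨i, rfl⟩
    exact (Commute.zpow_right h2 i).eq
  have h4 := A.K_faith hab (mul_mem (inv_mem (zpowers_le.2 hP.memK hv)) h1) fun z hz => by
    obtain ⟨w, hw, rfl⟩ := hP.gen b z hab hz
    rw [mul_smul, inv_smul_eq_iff, ← mul_smul, h3 w hw, mul_smul, ← e, ← mul_smul, ← mul_smul,
      hP.comm w (zpowers_le.2 hP.mem hw) v (zpowers_le.2 hP.mem hv)]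
  exact inv_mul_eq_one.1 h4 ▸ hv

theorem comm_fix {a b : Ω} (hab : b ≠ a) {d d' : G} (ha : d • a = a) (hb : d • b = b)
    (ha' : d' • a = a) (hb' : d' • b = b) {z : Ω} (hz : z ∈ A.Δ a b) : d • d' • z = d' • d • z := by
  obtain ⟨P, c, hP⟩ := A.exists_isP a
  obtain ⟨i, hi⟩ := A.conj_c hT hP ha
  obtain ⟨j, hj⟩ := A.conj_c hT hP ha'
  obtain ⟨_, ⟨n, rfl⟩, rfl⟩ := hP.gen b z hab hz
  have h1 : ∀ (d : G) (i : ℤ), d • b = b → c ^ i = d * c * d⁻¹ → ∀ m : ℤ,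
      d • c ^ m • b = c ^ (i * m) • b := fun d i h1 h2 m => by
    rw [zpow_mul, h2, conj_zpow, mul_smul, mul_smul, inv_smul_eq_iff.2 h1.symm]
  simp only
  rw [h1 d' j hb' hj, h1 d i hb hi, h1 d i hb hi, h1 d' j hb' hj, mul_left_comm]

theorem D_comm {a b : Ω} (hab : b ≠ a) {d d' : G} (ha : d • a = a) (hb : d • b = b)
    (ha' : d' • a = a) (hb' : d' • b = b) : d * d' = d' * d := by
  let M : Set G := {m | m • a = a ∧ m • b = b ∧ (∀ z ∈ A.Δ a b, m • z = z) ∧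
    ∀ z ∈ A.Δ b a, m • z = z}
  have hM : ∀ m ∈ M, ∀ d : G, d • a = a → d • b = b → d⁻¹ * m * d ∈ M :=
    fun m hm d ha hb => ⟨by simp [mul_smul, ha, hm.1, inv_smul_eq_iff],
      by simp [mul_smul, hb, hm.2.1, inv_smul_eq_iff], fun z hz => by
        rw [mul_smul, mul_smul, hm.2.2.1 _ (A.smul_mem' hab ha hb hz), inv_smul_smul],
      fun z hz => by
        rw [mul_smul, mul_smul, hm.2.2.2 _ (A.smul_mem' hab.symm hb ha hz), inv_smul_smul]⟩
  have hm : (d' * d)⁻¹ * (d * d') ∈ M := by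
    refine ⟨?_, ?_, fun z hz => ?_, fun z hz => ?_⟩ <;>
      rw [mul_smul, inv_smul_eq_iff, mul_smul, mul_smul]
    · rw [ha, ha', ha]
    · rw [hb, hb', hb]
    · exact A.comm_fix hT hab ha hb ha' hb' hz
    · exact A.comm_fix hT hab.symm hb ha hb' ha' hz
  refine (inv_mul_eq_one.1 (by_contra fun h1 => ?_)).symm
  generalize (d' * d)⁻¹ * (d * d') = m at hm h1
  have hf : ∀ δ : Ω, (∀ m ∈ M, m • δ = δ) → ∀ d : G, d • a = a → d • b = b → m • d • δ = d • δ :=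
    fun δ h d ha hb => by
      have := h _ (hM m hm d ha hb)
      rwa [mul_smul, mul_smul, inv_smul_eq_iff] at this
  have e1 : {δ | ∀ m ∈ M, m • δ = δ} = insert a (A.Δ a b) := Set.ext fun δ => ⟨fun h => by
    by_contra h2
    rw [Set.mem_insert_iff, not_or] at h2
    exact h1 (A.K_faith hab (A.mem_K_of_fix hab h2.1 h2.2 hm.1 hm.2.1 (hf δ h)) hm.2.2.1), by
    rintro (rfl | h) m hm
    exacts [hm.1, hm.2.2.1 δ h]⟩
  have e2 : {δ | ∀ m ∈ M, m • δ = δ} = insert b (A.Δ b a) := Set.ext fun δ => ⟨fun h => by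
    by_contra h2
    rw [Set.mem_insert_iff, not_or] at h2
    exact h1 (A.K_faith hab.symm (A.mem_K_of_fix hab.symm h2.1 h2.2 hm.2.1 hm.1
      fun d hb ha => hf δ h d ha hb) hm.2.2.2), by
    rintro (rfl | h) m hm
    exacts [hm.2.1, hm.2.2.2 δ h]⟩
  obtain ⟨y, hy, hya⟩ := A.exists_ne b a hab.symm a
  obtain ⟨k, hk, rfl⟩ := A.K_trans hab.symm hy
  exact hya (A.design_Δ hab (e1 ▸ e2 ▸ A.mem_stab_insert hk.1 hy))

theorem fix_trans {a b γ : Ω} (hab : b ≠ a) {h : G} (h1 : h ≠ 1) (ha : h • a = a) (hb : h • b = b)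
    (hγ : h • γ = γ) (hγa : γ ≠ a) (hγb : γ ≠ b) {x : Ω} (hx : h • x = x) (hxa : x ≠ a) :
    ∃ g ∈ stabilizer G {z : Ω | h • z = z}, g • a = a ∧ g • b = x := by
  by_cases hK : h ∈ A.K a
  · have h2 : ∀ δ, δ ≠ a → h • δ = δ → A.F a δ = {z : Ω | h • z = z} := fun δ hδa hδ =>
      Set.ext fun z => ⟨fun hz => hz h hK hδ, fun hz k hk hkδ => by
        by_cases hza : z = a
        · exact hza ▸ hk.1
        by_contra h3
        refine h1 ((A.aff hT hza).1 h hK _ (hk.2 z hza) z (A.self a z hza) h3 ?_ hz)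
        rw [← mul_smul, A.D_comm hT hδa ha hδ hk.1 hkδ, mul_smul, hz]⟩
    obtain ⟨g, h3, h4⟩ := A.h2 a b a x hab.symm hxa.symm
    exact ⟨g, h2 b hab hb ▸ A.F_stab hab h3 (by rw [h4, h2 b hab hb]; exact hx), h3, h4⟩
  · have h2 : ∀ δ, δ ≠ a → h • δ = δ → δ ∈ A.Δ a b := fun δ hδa hδ => by_contra fun h3 =>
      hK (A.mem_K_of_fix hab hδa h3 ha hb fun d h4 h5 => by
        rw [← mul_smul, A.D_comm hT hab ha hb h4 h5, mul_smul, hδ])
    obtain ⟨P, c, hP⟩ := A.exists_isP a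
    obtain ⟨u, hu, rfl⟩ := hP.gen b γ hab (h2 γ hγa hγ)
    have hu1 : u ≠ 1 := fun e => hγb (by rw [e, one_smul])
    have h3 : h * u * h⁻¹ ∈ zpowers c := by
      obtain ⟨i, rfl⟩ := hu
      simp only [← conj_zpow]
      exact zpow_mem (A.conj_c hT hP ha) i
    have h4 := hP.free _ (zpowers_le.2 hP.mem (mul_mem (inv_mem hu) h3)) b hab (by
      rw [mul_smul, mul_smul, mul_smul, inv_smul_eq_iff.2 hb.symm, hγ, inv_smul_smul])
    have h5 : u ∈ stabilizer G {z : Ω | h • z = z} := mem_stab_set.2 fun z hz => by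
      have e : h * u = u * h := by rw [← mul_inv_eq_iff_eq_mul, ← inv_mul_eq_one.1 h4]
      rw [Set.mem_ofPred_eq, ← mul_smul, e, mul_smul, hz]
    obtain ⟨v, hv, e⟩ := hP.gen b x hab (h2 x hxa hx)
    exact ⟨v, zpowers_le.2 (zpowers_le.2 h5 (mem_zpowers_of_prime A.hp hP.ord hu hu1)) hv,
      hP.fix v (zpowers_le.2 hP.mem hv), e⟩

theorem eq_one_of_three {a b γ : Ω} (hab : b ≠ a) {h : G} (ha : h • a = a) (hb : h • b = b)
    (hγ : h • γ = γ) (hγa : γ ≠ a) (hγb : γ ≠ b) : h = 1 := by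
  by_contra h1
  have h2 := (A.design (X := {z : Ω | h • z = z}) hab ha hb hγ hγa hγb
    (fun e => h1 (A.faith h fun x => (e ▸ Set.mem_univ x : x ∈ {z : Ω | h • z = z})))
    (fun g h3 h4 => mem_stab_set.2 fun z hz => by
      rw [Set.mem_ofPred_eq, ← mul_smul, A.D_comm hT hab ha hb h3 h4, mul_smul, hz])
    fun x hx hxa => A.fix_trans hT hab h1 ha hb hγ hγa hγb hx hxa).2
  obtain ⟨g, hg, -, h3⟩ := A.fix_trans hT hab.symm h1 hb ha hγ hγb hγa hγ hγb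
  exact hγa (h3.symm.trans (h2 g hg))

theorem false_of_aff (hp2 : p ≠ 2) {a b : Ω} (hab : b ≠ a) : False := by
  have := Fintype.ofFinite Ω
  have hF : FaithfulSMul G Ω := ⟨fun {g g'} h => (inv_mul_eq_one.1 (A.faith _ fun x => by
    rw [mul_smul, h x, inv_smul_smul])).symm⟩
  have h2 : IsMultiplyPretransitive G Ω 2 := by
    rw [is_two_pretransitive_iff]; exact fun h h' => A.h2 _ _ _ _ h h'
  have h3 : ∀ g : G, ∀ a b c : Ω, a ≠ b → b ≠ c → a ≠ c → g • a = a → g • b = b → g • c = c →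
      g = 1 := fun g a b c h1 h3 h4 ha hb hc => A.eq_one_of_three hT h1.symm ha hb hc h4.symm h3.symm
  obtain ⟨q, hq⟩ := A.hp.odd_of_ne_two hp2
  have hp := A.hp.two_le
  have hn : Nat.card Ω = 2 * (2 * (q * q + q) + 1) := by rw [A.card, hq]; ring
  have hG := card_eq_two A.h2 hab.symm
  rcases Nat.even_or_odd (Nat.card ↥(stabilizer G a ⊓ stabilizer G b)) with hd | hd
  · have hfix : ∃ g : G, g ≠ 1 ∧ ∃ a b : Ω, a ≠ b ∧ g • a = a ∧ g • b = b := by
      have : Nontrivial ↥(stabilizer G a ⊓ stabilizer G b) := Finite.one_lt_card_iff_nontrivial.1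
        (Nat.le_of_dvd Nat.card_pos hd.two_dvd)
      obtain ⟨g, hg⟩ := _root_.exists_ne (1 : ↥(stabilizer G a ⊓ stabilizer G b))
      exact ⟨g, fun e => hg (Subtype.ext e), a, b, hab.symm, g.2.1, g.2.2⟩
    have h4 := S0741.result ⟨hF, h2, h3, hfix, fun N hN ht => by_contra fun h => by
      push Not at h
      obtain ⟨r, hr, h5⟩ := S0341.result h2 h3 hfix N ht h
      obtain ⟨s, rfl⟩ := Nat.exists_eq_add_of_le hr.two_le
      rw [← Nat.card_eq_fintype_card, hn, pow_add] at h5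
      omega⟩ hab.symm hd
    obtain ⟨y, hy, hyb⟩ := A.exists_ne a b hab b
    have h5 := card_of_orbit (stabilizer G a ⊓ stabilizer G b) y
      {z | ∃ g ∈ stabilizer G a ⊓ stabilizer G b, g • y = z} fun _ => Iff.rfl
    rw [(eq_bot_iff_forall (stabilizer G a ⊓ stabilizer G b ⊓ stabilizer G y)).2 fun g hg =>
      A.eq_one_of_three hT hab hg.1.1 hg.1.2 hg.2 (A.ne _ _ _ hy) hyb, card_bot, mul_one] at h5
    have h6 := Set.ncard_le_ncard (show {z | ∃ g ∈ stabilizer G a ⊓ stabilizer G b, g • y = z} ⊆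
      A.Δ a b \ {b} by
        rintro _ ⟨g, hg, rfl⟩
        exact ⟨A.smul_mem' hab hg.1 hg.2 hy, fun e => hyb (smul_left_cancel g
          ((Set.mem_singleton_iff.1 e).trans (mem_stabilizer_iff.1 hg.2).symm))⟩)
    rw [← h5, Set.ncard_sdiff_singleton_of_mem (A.self a b hab), A.ncard a b hab] at h6
    rw [← Nat.card_eq_fintype_card, hn] at h4
    have : 1 ≤ q := by omega
    have : 1 ≤ q * q := Nat.mul_pos this this
    omega
  · have hodd : Odd ((2 * (q * q + q) + 1) * ((Nat.card Ω - 1) *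
        Nat.card ↥(stabilizer G a ⊓ stabilizer G b))) := by
      refine Odd.mul ⟨_, rfl⟩ (Odd.mul ?_ hd)
      rw [A.card]
      exact (A.hp.odd_of_ne_two hp2).pow
    rw [hn, mul_assoc, ← hn] at hG
    obtain ⟨T⟩ : Nonempty (Sylow 2 G) := inferInstance
    have hT2 : Nat.card (T : Subgroup G) = 2 := by
      rw [T.card_eq_multiplicity, hG, Nat.factorization_mul two_ne_zero hodd.pos.ne',
        Finsupp.add_apply, Nat.factorization_eq_zero_of_not_dvd hodd.not_two_dvd_nat,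
        Nat.prime_two.factorization_self]
      rfl
    obtain ⟨H, hH⟩ := Inv.exists_index_two_of_cyclic_sylow ⟨_, by rw [hG, two_mul]⟩ T
      (isCyclic_of_prime_card hT2)
    have := normal_of_index_eq_two hH
    have h4 := H.card_mul_index
    rw [hH, hG, mul_comm, Nat.mul_right_inj two_ne_zero] at h4
    have h5 := Perm.isPretransitive_of_normal_of_ne_bot (isPreprimitive_of_is_two_pretransitive h2)
      H fun e => by
        rw [e, card_bot] at h4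
        have := Nat.eq_one_of_mul_eq_one_right h4.symm
        have : 1 ≤ q := by omega
        omega
    have : Nonempty Ω := ⟨a⟩
    have h6 := Perm.card_dvd_of_isPretransitive H Ω
    rw [h4] at h6
    exact hodd.not_two_dvd_nat (Dvd.dvd.trans ⟨_, hn⟩ h6)

end affine

theorem eq_two {a b : Ω} (hab : b ≠ a) : p = 2 := by
  by_contra hp2
  by_cases hT : ∀ a b, b ≠ a → ¬ A.T2 a b
  · exact A.false_of_aff hT hp2 hab
  push Not at hT
  obtain ⟨a', b', h1, h2⟩ := hT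
  by_cases h : ∀ a b, b ≠ a → ∃ δ ∈ A.F a b, δ ≠ a ∧ δ ≠ b
  · exact A.false_of_grid hp2 (fun _ _ => A.T2_all h1 h2) h hab
  · push Not at h
    obtain ⟨c, d, h3, h4⟩ := h
    exact A.false_of_free hp2 h3 (A.T2_all h1 h2 h3) h4

theorem card_eq_twenty {a b : Ω} (hab : b ≠ a) : Nat.card G = 20 := by
  obtain rfl := A.eq_two hab
  rw [card_eq_two A.h2 hab.symm, A.card, 
    (eq_bot_iff_forall (stabilizer G a ⊓ stabilizer G b)).2 fun g hg => ?_, card_bot]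
  · rfl
  have h1 : ∀ x, x ≠ a → g • x ∈ A.Δ a x → g • g • x = x := fun x hx h => by
    by_contra h2
    by_cases h3 : g • x = x
    · exact h2 (by rw [h3, h3])
    have h4 : 2 < (A.Δ a x).ncard := (Set.two_lt_ncard_iff (Set.toFinite _)).2
      ⟨x, _, _, A.self a x hx, h, A.smul_mem hg.1 h h, Ne.symm h3, Ne.symm h2,
        fun e => h3 (smul_left_cancel g e).symm⟩
    rw [A.ncard a x hx] at h4
    omega
  refine A.eq_one_of_pow hab hg.1 hg.2 (A.faith _ fun x => ?_)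
  rw [pow_two, mul_smul]
  by_cases hx : x = a
  · rw [hx, mem_stabilizer_iff.1 hg.1, mem_stabilizer_iff.1 hg.1]
  refine h1 x hx (by_contra fun h2 => ?_)
  have h3 : g • x ≠ a := fun e => hx (smul_left_cancel g (e.trans (mem_stabilizer_iff.1 hg.1).symm))
  have h4 : x ∉ A.Δ a b := fun h => h2 (A.eq _ _ _ h ▸ A.smul_mem' hab hg.1 hg.2 h)
  have h5 : 2 < (A.Bl a).ncard := (Set.two_lt_ncard_iff (Set.toFinite _)).2
    ⟨_, _, _, ⟨b, hab, rfl⟩, ⟨x, hx, rfl⟩, ⟨_, h3, rfl⟩, fun e => h4 (e ▸ A.self a x hx),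
      fun e => h4 ((A.smul_iff g).1 (by
        rw [mem_stabilizer_iff.1 hg.1, mem_stabilizer_iff.1 hg.2, e]; exact A.self _ _ h3)),
      fun e => h2 (e ▸ A.self _ _ h3)⟩
  rw [A.ncard_Bl] at h5
  omega

end Cfsg.Agent.TwoTr.Atk
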