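import Mathlib
import Cfsg.Agent.TwoTr.CamBasic
import Cfsg.Agent.TwoTr.CamLin
import Cfsg.Agent.PLocal.ElemAb
import Cfsg.Agent.KSG.PSL2
import Cfsg.Agent.S0700
import Cfsg.Agent.S0054

/-!
# Triply transitive groups whose point stabilizer has an abelian normal subgroup
-/

set_option autoImplicit false
set_option linter.unusedSectionVars false

namespace Cfsg.Agent.TwoTr.Cam

open MulAction Subgroup Cfsg.Agent.PLocal Cfsg

universe u

variable {G : Type u} {Ω : Type*} [Group G] [MulAction G Ω] [Finite G] [Finite Ω]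
  [hf : FaithfulSMul G Ω]

/-- Burnside's dichotomy for an abstract faithful action. -/
theorem burnside (h2 : IsMultiplyPretransitive G Ω 2) {N : Subgroup G} [hNn : N.Normal]
    (hN : N ≠ ⊥) (hmin : ∀ M : Subgroup G, M.Normal → M ≤ N → M = ⊥ ∨ M = N) :
    IsSimpleGroup N ∨ ∃ p : ℕ, p.Prime ∧ IsElementaryAbelian p N := by
  have := Fintype.ofFinite Ω
  have htr : IsPretransitive N Ω := Perm.isPretransitive_subgroup_iff.2
    (R.trans_of_normal h2 hNn hN)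
  obtain ⟨⟨x, hx⟩, hx1⟩ := ne_bot_iff_exists_ne_one.1 hN
  obtain ⟨a, -⟩ := R.exists_moved (Ω := Ω) (g := x) fun h => hx1 (Subtype.ext h)
  by_cases hnr : ∃ g : N, g ≠ 1 ∧ ∃ a : Ω, g • a = a
  · exact Or.inl (S0700.simple h2 N hN hmin (S0700.primitive h2 N hmin hnr) a)
  · push Not at hnr
    have : Nonempty Ω := ⟨a⟩
    obtain ⟨h1, p, hp, h3⟩ := S0054.result h2 N htr fun y => eq_bot_iff.2 fun g hg => by
      by_contra h
      exact hnr g h y hg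
    exact Or.inr ⟨p, hp, h1, h3⟩

/-- `V` is an abelian normal subgroup of the stabilizer of `a`. -/
structure AbSt (V : Subgroup G) (a : Ω) : Prop where
  h3 : T3 G Ω
  ne : V ≠ ⊥
  le : V ≤ stabilizer G a
  conj : ∀ g : G, g • a = a → ∀ x ∈ V, g * x * g⁻¹ ∈ V
  comm : ∀ x ∈ V, ∀ y ∈ V, x * y = y * x

namespace AbSt

variable {V : Subgroup G} {a b : Ω} (h : AbSt V a)
include h

theorem fix {x : G} (hx : x ∈ V) : x • a = a := h.le hx

theorem trans {c d : Ω} (hc : a ≠ c) (hd : a ≠ d) : ∃ x ∈ V, x • c = d :=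
  trans_off h.h3 h.ne h.le h.conj hc hd

theorem reg {x : G} (hx : x ∈ V) {c : Ω} (hc : a ≠ c) (e : x • c = c) : x = 1 :=
  R.eq_one_of_forall (Ω := Ω) fun d => by
    by_cases hd : a = d
    · rw [← hd, h.fix hx]
    · obtain ⟨y, hy, rfl⟩ := h.trans hc hd
      rw [smul_smul, h.comm x hx y hy, mul_smul, e]

theorem eq_of {x y : G} (hx : x ∈ V) (hy : y ∈ V) {c : Ω} (hc : a ≠ c) (e : x • c = y • c) :
    x = y :=
  (inv_mul_eq_one.1 (h.reg (mul_mem (inv_mem hy) hx) hc (by rw [mul_smul, e, inv_smul_smul]))).symm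

theorem ne_smul {x : G} (hx : x ∈ V) {c : Ω} (hc : a ≠ c) : a ≠ x • c :=
  fun e => hc (smul_left_cancel x ((h.fix hx).trans e))

theorem card (hab : a ≠ b) : Nat.card V = Nat.card Ω - 1 := by
  have h1 := card_of_orbit V b {a}ᶜ fun c =>
    ⟨fun hc => h.trans hab (Ne.symm hc), by rintro ⟨x, hx, rfl⟩; exact (h.ne_smul hx hab).symm⟩
  have h2 : V ⊓ stabilizer G b = ⊥ := eq_bot_iff.2 fun x hx => h.reg hx.1 hab hx.2
  rw [h1, h2, card_bot, mul_one, Set.ncard_compl, Set.ncard_singleton]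

theorem conj' {g : G} (hg : g • a = a) {x : G} (hx : x ∈ V) : g⁻¹ * x * g ∈ V := by
  simpa using h.conj g⁻¹ (inv_smul_eq_iff.2 hg.symm) x hx

omit h in
/-- non-trivial elements of the conjugate of `V` fixing `b` -/
def Wb (V : Subgroup G) (a b : Ω) (β : G) : Prop :=
  ∃ g : G, g • a = b ∧ ∃ y ∈ V, y ≠ 1 ∧ β = g * y * g⁻¹

omit h in
/-- the elements of `V W V` interchanging `a` and `b` -/
def Nu (V : Subgroup G) (a b : Ω) (ν : G) : Prop :=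
  ν • a = b ∧ ν • b = a ∧ ∃ x ∈ V, ∃ z ∈ V, ∃ β, Wb V a b β ∧ ν = x * β * z

theorem Wb.fix {β : G} (hβ : Wb V a b β) : β • b = b := by
  obtain ⟨g, rfl, y, hy, -, rfl⟩ := hβ
  rw [mul_smul, inv_smul_smul, mul_smul, h.fix hy]

theorem Wb.ne (hab : a ≠ b) {β : G} (hβ : Wb V a b β) : a ≠ β • a := by
  obtain ⟨g, rfl, y, hy, hy1, rfl⟩ := hβ
  intro e
  refine hy1 (h.reg hy (c := g⁻¹ • a) (fun e => hab (eq_inv_smul_iff.1 e).symm) ?_)
  rw [eq_inv_smul_iff, ← mul_smul, ← mul_smul, ← e]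

theorem Wb.ne' (hab : a ≠ b) {β : G} (hβ : Wb V a b β) : b ≠ β • a :=
  fun e => hab (smul_left_cancel β (e.symm.trans (Wb.fix h hβ).symm))

omit h in
theorem Wb.inv {β : G} (hβ : Wb V a b β) : Wb V a b β⁻¹ := by
  obtain ⟨g, hg, y, hy, hy1, rfl⟩ := hβ
  exact ⟨g, hg, y⁻¹, inv_mem hy, inv_ne_one.2 hy1, by group⟩

omit h in
theorem Wb.conj {β g : G} (hβ : Wb V a b β) (hg : g • b = b) : Wb V a b (g * β * g⁻¹) := by
  obtain ⟨k, hk, y, hy, hy1, rfl⟩ := hβ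
  exact ⟨g * k, by rw [mul_smul, hk, hg], y, hy, hy1, by group⟩

theorem Wb.eq (hab : a ≠ b) {β β' : G} (hβ : Wb V a b β) (hβ' : Wb V a b β')
    (e : β • a = β' • a) : β = β' := by
  obtain ⟨g, hg, y, hy, -, rfl⟩ := hβ
  obtain ⟨g', hg', y', hy', -, rfl⟩ := hβ'
  have h1 := h.conj (g⁻¹ * g') (by rw [mul_smul, hg', inv_smul_eq_iff, hg]) y' hy'
  have h2 := h.eq_of hy h1 (c := g⁻¹ • a) (fun e => hab (by rw [← hg, e, smul_inv_smul, ← e]))
    (smul_left_cancel g (by simpa only [smul_smul, mul_inv_rev, inv_inv, ← mul_assoc,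
      mul_inv_cancel, one_mul, mul_inv_cancel_right] using e))
  rw [h2]; group

theorem exists_nu (hab : a ≠ b) {β : G} (hβ : Wb V a b β) :
    ∃ x ∈ V, ∃ z ∈ V, Nu V a b (x * β * z) := by
  obtain ⟨x, hx, e1⟩ := h.trans (Wb.ne h hab hβ) hab
  obtain ⟨z, hz, e2⟩ := h.trans hab (Wb.ne h hab hβ.inv)
  exact ⟨x, hx, z, hz, by rw [mul_smul, h.fix hz, mul_smul, e1],
    by rw [mul_smul, e2, mul_smul, smul_inv_smul, h.fix hx], x, hx, z, hz, β, hβ, rfl⟩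

omit h in
theorem Nu.inv {ν : G} (hν : Nu V a b ν) : Nu V a b ν⁻¹ := by
  obtain ⟨e1, e2, x, hx, z, hz, β, hβ, rfl⟩ := hν
  exact ⟨inv_smul_eq_iff.2 e2.symm, inv_smul_eq_iff.2 e1.symm, z⁻¹, inv_mem hz, x⁻¹, inv_mem hx,
    β⁻¹, hβ.inv, by group⟩

theorem Nu.conj (hab : a ≠ b) {ν ν' : G} (hν : Nu V a b ν) (hν' : Nu V a b ν') :
    ∃ g : G, g • a = a ∧ g • b = b ∧ ν' = g * ν * g⁻¹ := by
  obtain ⟨e1, e2, x, hx, z, hz, β, hβ, rfl⟩ := hν
  obtain ⟨e1', e2', x', hx', z', hz', β', hβ', rfl⟩ := hν'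
  obtain ⟨g, g1, g2, g3⟩ := h.h3 a b (β • a) a b (β' • a) hab (Wb.ne h hab hβ) (Wb.ne' h hab hβ)
    hab (Wb.ne h hab hβ') (Wb.ne' h hab hβ')
  have g1' : g⁻¹ • a = a := inv_smul_eq_iff.2 g1.symm
  have g2' : g⁻¹ • b = b := inv_smul_eq_iff.2 g2.symm
  have h1 : g * β * g⁻¹ = β' := Wb.eq h hab (hβ.conj g2) hβ' (by rw [mul_smul, g1', mul_smul, g3])
  rw [mul_smul, h.fix hz, mul_smul] at e1
  rw [mul_smul, h.fix hz', mul_smul] at e1'
  have h2 : g * x * g⁻¹ = x' := h.eq_of (h.conj g g1 x hx) hx' (Wb.ne h hab hβ')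
    (by rw [e1', ← g3, mul_smul, inv_smul_smul, mul_smul, e1, g2])
  have h4 : g * z * g⁻¹ = z' := h.eq_of (h.conj g g1 z hz) hz' hab (smul_left_cancel (x' * β') (by
    rw [← mul_smul (x' * β') z', e2', ← h1, ← h2, smul_smul,
      show g * x * g⁻¹ * (g * β * g⁻¹) * (g * z * g⁻¹) = g * (x * β * z) * g⁻¹ by group,
      mul_smul, g2', mul_smul, e2, g1]))
  exact ⟨g, g1, g2, by rw [← h1, ← h2, ← h4]; group⟩

theorem exists_Nu (hab : a ≠ b) (hn : 2 < Nat.card Ω) : ∃ ν, Nu V a b ν := by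
  obtain ⟨g, hg, -⟩ := h.h3.two hn hab hab.symm
  obtain ⟨⟨y, hy⟩, hy1⟩ := ne_bot_iff_exists_ne_one.1 h.ne
  obtain ⟨x, -, z, -, hν⟩ := h.exists_nu hab ⟨g, hg, y, hy, fun e => hy1 (Subtype.ext e), rfl⟩
  exact ⟨_, hν⟩

/-- The Bruhat decomposition of the group generated by `V` and `μ`. -/
theorem bruhat (hab : a ≠ b) {C : Subgroup G} (hCa : ∀ c ∈ C, c • a = a) {μ : G}
    (hμ : Nu V a b μ) (hC : ∀ ν, Nu V a b ν → ν * μ⁻¹ ∈ C) (hn : ∀ c ∈ C, μ * c * μ⁻¹ ∈ C)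
    {g : G} (hg : g ∈ closure ((V : Set G) ∪ {μ})) :
    (∃ v ∈ V, ∃ c ∈ C, g = v * c) ∨ ∃ v ∈ V, ∃ c ∈ C, ∃ w ∈ V, g = v * c * μ * w := by
  have hμ2 : μ * μ ∈ C := by simpa using inv_mem (hC _ hμ.inv)
  let P : G → Prop := fun g =>
    (∃ v ∈ V, ∃ c ∈ C, g = v * c) ∨ ∃ v ∈ V, ∃ c ∈ C, ∃ w ∈ V, g = v * c * μ * w
  have hV : ∀ x ∈ V, ∀ g, P g → P (x * g) := by
    rintro x hx _ (⟨v, hv, c, hc, rfl⟩ | ⟨v, hv, c, hc, w, hw, rfl⟩)
    · exact Or.inl ⟨x * v, mul_mem hx hv, c, hc, by group⟩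
    · exact Or.inr ⟨x * v, mul_mem hx hv, c, hc, w, hw, by group⟩
  have hCP : ∀ x ∈ C, ∀ g, P g → P (x * g) := by
    rintro x hx _ (⟨v, hv, c, hc, rfl⟩ | ⟨v, hv, c, hc, w, hw, rfl⟩)
    · exact Or.inl ⟨_, h.conj x (hCa x hx) v hv, x * c, mul_mem hx hc, by group⟩
    · exact Or.inr ⟨_, h.conj x (hCa x hx) v hv, x * c, mul_mem hx hc, w, hw, by group⟩
  have hμP : ∀ g, P g → P (μ * g) := by
    rintro _ (⟨v, hv, c, hc, rfl⟩ | ⟨v, hv, c, hc, w, hw, rfl⟩)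
    · exact Or.inr ⟨1, one_mem _, _, hn c hc, _, h.conj' (hCa c hc) hv, by group⟩
    have hc2 : μ * c * μ ∈ C := by simpa [mul_assoc] using mul_mem (hn c hc) hμ2
    by_cases hv1 : v = 1
    · exact Or.inl ⟨_, h.conj _ (hCa _ hc2) w hw, _, hc2, by rw [hv1]; group⟩
    · obtain ⟨x, hx, z, hz, hν⟩ := h.exists_nu hab ⟨μ, hμ.1, v, hv, hv1, rfl⟩
      exact Or.inr ⟨x⁻¹, inv_mem hx, _, mul_mem (hC _ hν) (hn _ hc2), _,
        mul_mem (h.conj' (hCa _ hc2) (inv_mem hz)) hw, by group⟩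
  induction hg using closure_induction_left with
  | one => exact Or.inl ⟨1, one_mem _, 1, one_mem _, by simp⟩
  | mul_left x hx y _ ih =>
    rcases hx with hx | rfl
    · exact hV x hx y ih
    · exact hμP y ih
  | inv_mul_cancel x hx y _ ih =>
    rcases hx with hx | rfl
    · exact hV _ (inv_mem hx) y ih
    · have := hCP _ (inv_mem hμ2) _ (hμP y ih)
      rwa [show (x * x)⁻¹ * (x * y) = x⁻¹ * y by group] at this

theorem normalClosure_three (hab : a ≠ b) {C : Subgroup G} (hCa : ∀ c ∈ C, c • a = a)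
    (hCb : ∀ c ∈ C, c • b = b) (hsr : ∀ c ∈ C, ∀ x : Ω, a ≠ x → b ≠ x → c • x = x → c = 1) {μ : G}
    (hμ : Nu V a b μ) (hC : ∀ ν, Nu V a b ν → ν * μ⁻¹ ∈ C) (hn : ∀ c ∈ C, μ * c * μ⁻¹ ∈ C)
    {g : G} (hg : g ∈ normalClosure (V : Set G)) {x y z : Ω} (hxy : x ≠ y) (hxz : x ≠ z)
    (hyz : y ≠ z) (e1 : g • x = x) (e2 : g • y = y) (e3 : g • z = z) : g = 1 := by
  have hle : normalClosure (V : Set G) ≤ closure ((V : Set G) ∪ {μ}) := by
    refine (closure_le _).2 fun w hw => ?_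
    obtain ⟨v, hv, h1⟩ := Group.mem_conjugatesOfSet_iff.1 hw
    obtain ⟨k, rfl⟩ := isConj_iff.1 h1
    have hV : V ≤ closure ((V : Set G) ∪ {μ}) := fun x hx => subset_closure (Or.inl hx)
    obtain ⟨u, hu, e⟩ : ∃ u ∈ closure ((V : Set G) ∪ {μ}), u • a = k • a := by
      by_cases hk : a = k • a
      · exact ⟨1, one_mem _, by rw [one_smul, ← hk]⟩
      · obtain ⟨x, hx, e⟩ := h.trans hab hk
        exact ⟨x * μ, mul_mem (hV hx) (subset_closure (Or.inr rfl)), by rw [mul_smul, hμ.1, e]⟩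
    have h2 := hV (h.conj (u⁻¹ * k) (by rw [mul_smul, ← e, inv_smul_smul]) v hv)
    have h3 := mul_mem (mul_mem hu h2) (inv_mem hu)
    rwa [show u * (u⁻¹ * k * v * (u⁻¹ * k)⁻¹) * u⁻¹ = k * v * k⁻¹ by group] at h3
  obtain ⟨k, k1, k2⟩ := h.h3.two (by
    have h1 := Set.ncard_le_ncard (Set.subset_univ {x, y, z})
    rw [Set.ncard_univ, Set.ncard_eq_three.2 ⟨x, y, z, hxy, hxz, hyz, rfl⟩] at h1
    omega) hxy hab
  have f : ∀ w : Ω, g • w = w → (k * g * k⁻¹) • k • w = k • w := fun w hw => by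
    rw [mul_smul, inv_smul_smul, mul_smul, hw]
  have f1 := f x e1
  have f2 := f y e2
  have f3 := f z e3
  rw [k1] at f1
  rw [k2] at f2
  suffices k * g * k⁻¹ = 1 by simpa using this
  rcases h.bruhat hab hCa hμ hC hn (hle (normalClosure_normal.conj_mem g hg k)) with
    ⟨v, hv, c, hc, e⟩ | ⟨v, hv, c, hc, w, hw, e⟩
  · rw [e] at f2 f3 ⊢
    rw [mul_smul, hCb c hc] at f2
    rw [h.reg hv hab f2, one_mul] at f3 ⊢
    exact hsr c hc _ (fun e => hxz (smul_left_cancel k (k1.trans e)))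
      (fun e => hyz (smul_left_cancel k (k2.trans e))) f3
  · rw [e, mul_smul, h.fix hw, mul_smul, hμ.1, mul_smul, hCb c hc] at f1
    exact absurd f1.symm (h.ne_smul hv hab)

/-- The key step: the products of two elements `ν` lie in a semiregular subgroup. -/
theorem exists_semireg (hab : a ≠ b) {p : ℕ} (hp : p.Prime) (hpow : ∀ x ∈ V, x ^ p = 1)
    (heven : Even (Nat.card Ω)) (hd : 3 ∣ Nat.card Ω) {H : Subgroup G} [hH : H.Normal]
    (hVH : V ≤ H) (hS : RealSec.{u} (Nat.card (S2 H a b))) {μ : G} (hμ : Nu V a b μ) :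
    ∃ C : Subgroup G, (∀ c ∈ C, c • a = a) ∧ (∀ c ∈ C, c • b = b) ∧
      (∀ c ∈ C, ∀ x : Ω, a ≠ x → b ≠ x → c • x = x → c = 1) ∧
      (∀ ν, Nu V a b ν → ν * μ⁻¹ ∈ C) ∧ ∀ c ∈ C, μ * c * μ⁻¹ ∈ C := by
  have := Fact.mk hp
  have hV : IsElementaryAbelian p V := ⟨⟨⟨fun x y => Subtype.ext (h.comm _ x.2 _ y.2)⟩⟩, hpow⟩
  obtain ⟨d, hd'⟩ := (elemAb_isPGroup hV).exists_card_eq
  have hΩ : 1 < Nat.card Ω := by
    have : Nontrivial Ω := ⟨a, b, hab⟩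
    exact Finite.one_lt_card
  have hc := h.card hab
  have hodd : Odd d := by
    rw [← Nat.not_even_iff_odd]
    rintro ⟨k, rfl⟩
    rw [hd', pow_add] at hc
    have h1 : (p ^ k * p ^ k) % 3 = 2 := by omega
    have h2 := Nat.mul_mod (p ^ k) (p ^ k) 3
    have h3 : p ^ k % 3 < 3 := Nat.mod_lt _ (by omega)
    interval_cases p ^ k % 3 <;> omega
  have hp2 : p ≠ 2 := by
    rintro rfl
    have : 2 ∣ 2 ^ d := dvd_pow_self _ hodd.pos.ne'
    obtain ⟨k, hk⟩ := heven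
    omega
  let T : Subgroup G := stabilizer G a ⊓ stabilizer G b
  have hTN : T ≤ normalizer (V : Set G) := fun g hg =>
    mem_normalizer_fintype fun x hx => h.conj g hg.1 x hx
  let ρ : T →* Module.End (ZMod p) (EA hV) := EA.rep hV T hTN
  have hρ : Function.Injective ρ := EA.rep_injective hTN (eq_bot_iff.2 fun g hg =>
    R.eq_one_of_forall (Ω := Ω) fun c => by
      by_cases hc : a = c
      · rw [← hc]; exact hg.1.1
      · obtain ⟨x, hx, rfl⟩ := h.trans hab hc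
        rw [smul_smul, ← hg.2 x hx, mul_smul, show g • b = b from hg.1.2])
  have hcard : Nat.card (EA hV) = p ^ d := by rw [EA.card_eq, hd']
  have hvec : ∀ (g : T) (x : Ω), a ≠ x → b ≠ x → (g : G) • x = x →
      ∃ v : EA hV, v ≠ 0 ∧ ρ g v = v := by
    intro g x hx hx' e
    obtain ⟨v, hv, rfl⟩ := h.trans hab hx
    refine ⟨EA.of hV v hv, fun h0 => hx' ?_, EA.ext ?_⟩
    · have : v = 1 := congrArg EA.val h0
      rw [this, one_smul]
    · refine h.eq_of (h.conj g g.2.1 v hv) hv hab ?_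
      change ((g : G) * v * (g : G)⁻¹) • b = v • b
      rw [mul_smul, inv_smul_eq_iff.2 (show (g : G) • b = b from g.2.2).symm, mul_smul, e]
  have hswap : ∀ ν, Nu V a b ν → ∀ g ∈ T, ν * g * ν⁻¹ ∈ T := fun ν hν g hg =>
    ⟨by change _ • a = a
        rw [mul_smul, inv_smul_eq_iff.2 hν.2.1.symm, mul_smul, show g • b = b from hg.2, hν.2.1],
      by change _ • b = b
         rw [mul_smul, inv_smul_eq_iff.2 hν.1.symm, mul_smul, show g • a = a from hg.1, hν.1]⟩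
  have hNuT : ∀ ν, Nu V a b ν → ν * μ⁻¹ ∈ T := fun ν hν =>
    ⟨by change _ • a = a
        rw [mul_smul, inv_smul_eq_iff.2 hμ.2.1.symm, hν.2.1],
      by change _ • b = b
         rw [mul_smul, inv_smul_eq_iff.2 hμ.1.symm, hν.1]⟩
  have hNuH : ∀ ν, Nu V a b ν → ν ∈ H := by
    rintro _ ⟨-, -, x, hx, z, hz, _, ⟨g, -, y, hy, -, rfl⟩, rfl⟩
    exact mul_mem (mul_mem (hVH hx) (hH.conj_mem y (hVH hy) g)) (hVH hz)
  have hD : (∀ g : T, (g : G) ∈ H → ∀ v : EA hV, v ≠ 0 → ρ g v = v → g = 1) → ∃ C : Subgroup G,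
      (∀ c ∈ C, c • a = a) ∧ (∀ c ∈ C, c • b = b) ∧
      (∀ c ∈ C, ∀ x : Ω, a ≠ x → b ≠ x → c • x = x → c = 1) ∧
      (∀ ν, Nu V a b ν → ν * μ⁻¹ ∈ C) ∧ ∀ c ∈ C, μ * c * μ⁻¹ ∈ C := fun h1 =>
    ⟨H ⊓ T, fun c hc => hc.2.1, fun c hc => hc.2.2, fun c hc x hx hx' e => by
      obtain ⟨v, hv, e'⟩ := hvec ⟨c, hc.2⟩ x hx hx' e
      exact congrArg Subtype.val (h1 ⟨c, hc.2⟩ hc.1 v hv e'),
      fun ν hν => ⟨H.mul_mem (hNuH ν hν) (H.inv_mem (hNuH μ hμ)), hNuT ν hν⟩,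
      fun c hc => ⟨hH.conj_mem c hc.1 μ, hswap μ hμ c hc.2⟩⟩
  by_cases hd1 : d = 1
  · refine hD fun g _ v hv e => hρ ?_
    have h1 := Perm.SemiLin.finrank_eq_of_card hcard
    rw [map_one]
    ext w
    obtain ⟨c, rfl⟩ := (finrank_eq_one_iff_of_nonzero' v hv).1 (h1.trans hd1) w
    rw [map_smul, e, Module.End.one_apply]
  have hd2 : 1 < d := by have := hodd.pos; omega
  obtain ⟨ℓ, hℓ⟩ := Misc.Zsig.zsigmondy (a := p) (n := d) hp.one_lt hd2 (fun h => hp2 h.1)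
    (fun h => by rw [h.1] at hodd; exact absurd hodd (by decide))
  have := Fact.mk hℓ.1
  have htr : Perm.SemiLin.Trans ρ := by
    intro v w hv hw
    have key : ∀ v : EA hV, v ≠ 0 → b ≠ v.val • b := fun v hv e =>
      hv (EA.val_eq_one_iff.1 (h.reg v.val_mem hab e.symm))
    obtain ⟨g, g1, g2, g3⟩ := h.h3 a b (v.val • b) a b (w.val • b) hab (h.ne_smul v.val_mem hab)
      (key v hv) hab (h.ne_smul w.val_mem hab) (key w hw)
    refine ⟨⟨g, g1, g2⟩, EA.ext (h.eq_of (h.conj g g1 _ v.val_mem) w.val_mem hab ?_)⟩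
    change (g * v.val * g⁻¹) • b = w.val • b
    rw [mul_smul, inv_smul_eq_iff.2 g2.symm, mul_smul, g3]
  have := Perm.SemiLin.nontrivial_of_card hodd.pos hcard
  rcases cent_or_uniq hρ hcard hℓ hp2 hodd hd2 (H.subgroupOf T) (by
      rwa [← inf_subgroupOf_right, Nat.card_congr (subgroupOfEquivOfLe inf_le_right).toEquiv,
        ← inf_assoc]) with h1 | ⟨ξ, hξ, h1⟩
  · obtain ⟨ξ, hξ⟩ := exists_prime_orderOf_dvd_card' (G := T) ℓ
      (hℓ.2.1.trans (hcard ▸ htr.card_dvd))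
    exact hD fun g hg v hv e => semireg_of_comm hρ hcard hℓ hξ (h1 ξ hξ g hg) hv e
  have hpowξ : ∀ g : G, (∀ t ∈ T, g * t * g⁻¹ ∈ T) → ∃ k : ℤ, g * ξ * g⁻¹ = (ξ : G) ^ k := by
    intro g hg
    obtain ⟨k, hk⟩ := h1 ⟨_, hg ξ ξ.2⟩ (by
      rw [orderOf_mk, ← hξ, ← orderOf_coe ξ]; exact (MulAut.conj g).orderOf_eq (ξ : G))
    exact ⟨k, (congrArg Subtype.val hk).symm⟩
  obtain ⟨k, hk⟩ := hpowξ μ (hswap μ hμ)
  obtain ⟨k', hk'⟩ := hpowξ μ⁻¹ (hswap _ hμ.inv)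
  refine ⟨T ⊓ centralizer {(ξ : G)}, fun c hc => hc.1.1, fun c hc => hc.1.2,
    fun c hc x hx hx' e => ?_, fun ν hν => ⟨hNuT ν hν, mem_centralizer_singleton_iff.2 ?_⟩,
    fun c hc => ⟨hswap μ hμ c hc.1, mem_centralizer_singleton_iff.2 ?_⟩⟩
  · obtain ⟨v, hv, e'⟩ := hvec ⟨c, hc.1⟩ x hx hx' e
    exact congrArg Subtype.val (semireg_of_comm hρ hcard hℓ hξ (x := ⟨c, hc.1⟩)
      (Subtype.ext (mem_centralizer_singleton_iff.1 hc.2)) hv e')
  · obtain ⟨g, g1, g2, rfl⟩ := Nu.conj h hab hμ hν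
    have hg : g ∈ T := ⟨g1, g2⟩
    obtain ⟨j, hj⟩ := hpowξ g⁻¹ fun t ht => mul_mem (mul_mem (inv_mem hg) ht) (inv_mem (inv_mem hg))
    have e1 : g * (ξ : G) ^ j * g⁻¹ = ξ := by rw [← hj]; group
    have e2 : g * μ * g⁻¹ * ξ * (g * μ * g⁻¹)⁻¹ = (ξ : G) ^ k := by
      rw [show g * μ * g⁻¹ * ξ * (g * μ * g⁻¹)⁻¹ = g * (μ * (g⁻¹ * ξ * g⁻¹⁻¹) * μ⁻¹) * g⁻¹ by group,
        hj, ← conj_zpow, hk, ← zpow_mul, mul_comm, zpow_mul, ← conj_zpow, e1]
    have e3 : μ * (ξ : G) ^ k' * μ⁻¹ = ξ := by rw [← hk']; group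
    have e4 : g * μ * g⁻¹ * (ξ : G) ^ k' * (g * μ * g⁻¹)⁻¹ = ξ := by
      rw [← conj_zpow, e2, ← hk, conj_zpow, e3]
    rw [← mul_inv_eq_iff_eq_mul]
    calc _ = g * μ * g⁻¹ * (μ⁻¹ * ξ * μ⁻¹⁻¹) * (g * μ * g⁻¹)⁻¹ := by group
      _ = ξ := by rw [hk', e4]
  · have e1 : Commute c ((ξ : G) ^ k') :=
      Commute.zpow_right (mem_centralizer_singleton_iff.1 hc.2) k'
    rw [← hk'] at e1
    calc _ = μ * (c * (μ⁻¹ * ξ * μ⁻¹⁻¹)) * μ⁻¹ := by group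
      _ = _ := by rw [e1.eq]; group

end AbSt

/-- A normal subgroup of a triply transitive group of even degree divisible by three in which only
the identity fixes three points contains a normal `PSL₂(q)` of degree `q + 1`. -/
theorem exists_psl_of_three (h3 : T3 G Ω) (hd : 3 ∣ Nat.card Ω) (hn : 3 < Nat.card Ω)
    (heven : Even (Nat.card Ω)) {L : Subgroup G} [L.Normal] (hL : L ≠ ⊥)
    (hL3 : ∀ g ∈ L, ∀ x y z : Ω, x ≠ y → x ≠ z → y ≠ z → g • x = x → g • y = y → g • z = z → g = 1) :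
    ∃ N : Subgroup G, N.Normal ∧ N ≤ L ∧ Le2 Ω N ∧ ∃ (F : Type) (_ : Field F) (_ : Fintype F),
      Nat.card Ω = Nat.card F + 1 ∧
        Nonempty (N ≃* Matrix.ProjectiveSpecialLinearGroup (Fin 2) F) := by
  obtain ⟨N, hNn, hN, hNL, hmin⟩ := Grp.exists_minNormal_le L hL
  have h2 := two_trans h3 hd hn N hN
  have hnr : ¬ ∀ x : Ω, ∀ r ∈ N, r • x = x → r = 1 := fun h0 => by
    have : Nontrivial Ω := Finite.one_lt_card_iff_nontrivial.1 (by omega)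
    obtain ⟨a, b, hab⟩ := exists_pair_ne Ω
    obtain ⟨c, hac, hbc⟩ := exists_third (by omega) a b
    obtain ⟨g, hg, e1, e2⟩ := h2 a b a c hab hac
    rw [h0 a g hg e1, one_smul] at e2
    exact hbc e2
  have hs : IsSimpleGroup N := by
    refine (burnside (h3.mult (by omega)) hN hmin).resolve_right ?_
    rintro ⟨p, -, hV⟩
    refine hnr fun x r hr e => R.eq_one_of_forall (Ω := Ω) fun c => ?_
    obtain ⟨s, hs, rfl⟩ := R.trans_of_normal (h3.mult (by omega)) hNn hN x c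
    rw [← mul_smul, elemAb_comm hV hr hs, mul_smul, e]
  have hZ : IsZassenhausGroup N Ω := R.isZassenhaus_of_three h2.mult (by
      rintro ⟨K, hK, k1, k2⟩
      rcases hs.eq_bot_or_eq_top_of_normal K hK with rfl | rfl
      · have : Nontrivial Ω := Finite.one_lt_card_iff_nontrivial.1 (by omega)
        obtain ⟨a, b, hab⟩ := exists_pair_ne Ω
        obtain ⟨r, hr, e⟩ := k1 a b
        rw [mem_bot.1 hr, one_smul] at e
        exact hab e
      · exact hnr fun x r hr e => congrArg Subtype.val (k2 x ⟨r, hr⟩ (mem_top _) e))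
    fun g x y z h4 h5 h6 e1 e2 e3 => Subtype.ext (hL3 g (hNL g.2) x y z h4 h6 h5 e1 e2 e3)
  rcases R.zass_simple hZ with ⟨F, i1, i2, hF, ⟨e⟩⟩ | ⟨F, i1, i2, m, -, hF, h4, -⟩
  swap
  · rw [h4, hF] at heven
    exact absurd heven (Nat.not_even_iff_odd.2 (Even.add_one (by simp [Nat.even_pow])))
  refine ⟨N, hNn, hNL, fun a b c d f hab hac hbc had hbd haf hbf => ?_, F, i1, i2, hF, ⟨e⟩⟩
  by_contra! hcon
  have h4 := card_eq_two (G := N) (Ω := Ω) (fun a b c d h1 h4 => by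
    obtain ⟨g, hg, e⟩ := h2 a b c d h1 h4
    exact ⟨⟨g, hg⟩, e⟩) hab
  have h5 : Nat.card ↥(stabilizer N a ⊓ stabilizer N b) = Nat.card (S2 N a b) :=
    Nat.card_congr ⟨fun g => ⟨g.1, mem_S2.2 ⟨g.1.2, g.2⟩⟩, fun g => ⟨⟨g, g.2.1.1⟩, g.2.1.2, g.2.2⟩,
      fun _ => rfl, fun _ => rfl⟩
  have horb : ∀ x : Ω, a ≠ x → b ≠ x → (orbit (S2 N a b) x).ncard = Nat.card (S2 N a b) := by
    intro x h6 h7
    have h8 := card_of_orbit (S2 N a b) x (orbit (S2 N a b) x) fun y =>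
      Perm.PrimUtil.mem_orbit_subgroup_iff
    have h9 : S2 N a b ⊓ stabilizer G x = ⊥ := eq_bot_iff.2 fun g hg =>
      hL3 g (hNL hg.1.1.1) a b x hab h6 h7 hg.1.1.2 hg.1.2 hg.2
    rw [h8, h9, card_bot, mul_one]
  have hsub : ∀ x : Ω, a ≠ x → b ≠ x → orbit (S2 N a b) x ⊆ {a, b}ᶜ := by
    rintro x h6 h7 _ ⟨g, rfl⟩ (e | e)
    · exact h6 (smul_left_cancel (g : G) (g.2.1.2.trans e.symm))
    · exact h7 (smul_left_cancel (g : G) (g.2.2.trans e.symm))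
  have hdis : ∀ x y : Ω, (∀ g ∈ S2 N a b, g • x ≠ y) →
      Disjoint (orbit (S2 N a b) x) (orbit (S2 N a b) y) := by
    intro x y h6
    rw [Set.disjoint_left]
    rintro _ ⟨g, rfl⟩ ⟨k, e⟩
    exact h6 _ (k⁻¹ * g).2 (by
      change (k⁻¹ * g) • x = y
      rw [mul_smul, inv_smul_eq_iff]; exact e.symm)
  have d1 := hdis c d fun g hg => (hcon g hg.1.1 hg.1.2 hg.2).1
  have d2 := hdis c f fun g hg => (hcon g hg.1.1 hg.1.2 hg.2).2.1
  have d3 := hdis d f fun g hg => (hcon g hg.1.1 hg.1.2 hg.2).2.2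
  have h6 := Set.ncard_le_ncard (Set.union_subset (Set.union_subset (hsub c hac hbc)
    (hsub d had hbd)) (hsub f haf hbf))
  rw [Set.ncard_union_eq (Set.disjoint_union_left.2 ⟨d2, d3⟩), Set.ncard_union_eq d1,
    horb c hac hbc, horb d had hbd, horb f haf hbf, ncard_compl_pair hab] at h6
  rw [h5, Nat.card_congr e.toEquiv, KSG.M2.card_PSL2, hF] at h4
  rw [hF] at h6 hn
  generalize Nat.card (S2 N a b) = m at h4 h6
  generalize Nat.card F = q at h4 h6 hn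
  obtain ⟨r, rfl⟩ : ∃ r, q = r + 1 := ⟨q - 1, by omega⟩
  have h7 : (r + 1) * ((r + 1) ^ 2 - 1) = (r + 1) * (r + 2) * r := by
    rw [show (r + 1) ^ 2 = r * (r + 2) + 1 by ring, Nat.add_sub_cancel]; ring
  have h8 : Nat.gcd 2 r ∣ (r + 1) * (r + 2) * r := (Nat.gcd_dvd_right 2 r).mul_left _
  rw [h7, Nat.add_sub_cancel, Nat.add_sub_cancel, Nat.div_eq_iff_eq_mul_left
    (Nat.gcd_pos_of_pos_left _ two_pos) h8] at h4
  have h9 : Nat.gcd 2 r ≤ 2 := Nat.le_of_dvd two_pos (Nat.gcd_dvd_left 2 r)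
  have h10 : r = m * Nat.gcd 2 r :=
    Nat.eq_of_mul_eq_mul_left (show 0 < (r + 1) * (r + 2) by positivity) (by rw [h4]; ring)
  have h11 := Nat.mul_le_mul_left m h9
  omega

/-- The abelian case. -/
theorem AbSt.exists_psl {V : Subgroup G} {a : Ω} (h : AbSt V a) {p : ℕ} (hp : p.Prime)
    (hpow : ∀ x ∈ V, x ^ p = 1) (heven : Even (Nat.card Ω)) (hd : 3 ∣ Nat.card Ω)
    (hn : 3 < Nat.card Ω) {H : Subgroup G} [hH : H.Normal] (hVH : V ≤ H)
    (hS : RealSec.{u} (Nat.card ↥(H ⊓ stabilizer G a))) :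
    ∃ N : Subgroup G, N.Normal ∧ N ≤ H ∧ Le2 Ω N ∧ ∃ (F : Type) (_ : Field F) (_ : Fintype F),
      Nat.card Ω = Nat.card F + 1 ∧
        Nonempty (N ≃* Matrix.ProjectiveSpecialLinearGroup (Fin 2) F) := by
  obtain ⟨b, hab, -⟩ := exists_third (by omega) a a
  obtain ⟨μ, hμ⟩ := h.exists_Nu hab (by omega)
  obtain ⟨C, h1, h2, h4, h5, h6⟩ := h.exists_semireg hab hp hpow heven hd hVH
    (hS.of_dvd (card_dvd_of_le inf_le_left)) hμ
  obtain ⟨N, hN, hNL, h7⟩ := exists_psl_of_three h.h3 hd hn heven (L := normalClosure (V : Set G))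
    (fun h0 => h.ne (eq_bot_iff.2 (h0 ▸ le_normalClosure)))
    fun g hg x y z => h.normalClosure_three hab h1 h2 h4 hμ h5 h6 hg
  exact ⟨N, hN, hNL.trans (normalClosure_le_normal hVH), h7⟩

end Cfsg.Agent.TwoTr.Cam
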