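import Mathlib
import Cfsg.Agent.TwoTr.CamAb
import Cfsg.Agent.S1163
import Cfsg.Agent.Cust.PiHom

/-!
# Triply transitive groups: minimal normal subgroups of the point stabilizer
-/

set_option autoImplicit false
set_option linter.unusedSectionVars false

namespace Cfsg.Agent.TwoTr.Cam

open MulAction Subgroup Cfsg.Agent.PLocal Cfsg

universe u

theorem sz_prop {K : Type*} [Group K] [Finite K] (h : Lie.IsoSuzuki K) :
    ∃ S : Subgroup K, IsSylowIn 2 S ⊤ ∧ S ≠ ⊥ ∧ ∀ g ∉ normalizer (S : Set K),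
      ∀ g' ∉ normalizer (S : Set K), ∃ s ∈ S, g'⁻¹ * s * g ∈ normalizer (S : Set K) := by
  have := Fact.mk Nat.prime_two
  obtain ⟨F, _, _, m, hm, hF, ⟨e⟩⟩ := h
  obtain ⟨hc, S, -, -, -, hreg⟩ := S1163.result hm hF
  have h1 := (isSylowIn_top S).map_equiv e.symm
  rw [map_top_of_surjective _ e.symm.surjective] at h1
  have hN : ∀ g : K, g ∈ normalizer (((S : Subgroup _).map e.symm.toMonoidHom : Subgroup K) : Set K)
      ↔ e g ∈ normalizer ((S : Subgroup ↥(Lie.Sz F (2 ^ (m + 1)))) : Set ↥(Lie.Sz F (2 ^ (m + 1)))) := by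
    intro g
    rw [← map_equiv_normalizer_eq, mem_map_equiv, MulEquiv.symm_symm]
  refine ⟨_, h1, h1.ne_bot ?_, fun g hg g' hg' => ?_⟩
  · rw [card_top, Nat.card_congr e.toEquiv, hc]
    exact ((dvd_pow (dvd_pow_self 2 (by omega)) two_ne_zero).mul_right _).mul_right _
  · rw [hN] at hg hg'
    obtain ⟨s, hs, -⟩ := hreg (QuotientGroup.mk (e g)) (QuotientGroup.mk (e g'))
      (fun h => hg (by simpa using QuotientGroup.eq.1 h.symm))
      (fun h => hg' (by simpa using QuotientGroup.eq.1 h.symm))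
    refine ⟨e.symm s, mem_map_of_mem _ s.2, ?_⟩
    have h2 := QuotientGroup.eq.1 (show (QuotientGroup.mk (e g') : _ ⧸ normalizer
      ((S : Subgroup ↥(Lie.Sz F (2 ^ (m + 1)))) : Set ↥(Lie.Sz F (2 ^ (m + 1))))) = QuotientGroup.mk (s * e g) from hs.symm)
    rw [hN]
    simpa [mul_assoc] using h2

variable {G : Type u} {Ω : Type*} [Group G] [MulAction G Ω] [Finite G] [Finite Ω]
  [hf : FaithfulSMul G Ω]

theorem two_of_sz (h3 : T3 G Ω) (heven : Even (Nat.card Ω)) {a : Ω} {M : Subgroup G}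
    (hMa : M ≤ stabilizer G a) (hn : ∀ g : G, g • a = a → ∀ x ∈ M, g * x * g⁻¹ ∈ M)
    (hM : Lie.IsoSuzuki M) {b c d : Ω} (hab : a ≠ b) (hac : a ≠ c) (hbc : b ≠ c) (had : a ≠ d)
    (hbd : b ≠ d) : ∃ g ∈ M, g • b = b ∧ g • c = d := by
  have := Fact.mk Nat.prime_two
  obtain ⟨S₀, hS₀, hS0, hreg₀⟩ := sz_prop hM
  obtain ⟨S₁, rfl⟩ := hS₀.exists_sylow_top
  have hS := isSylowIn_map S₁
  set S := (S₁ : Subgroup M).map M.subtype with hSdef
  have hS1 : S ≠ ⊥ := fun h => hS0 ((map_eq_bot_iff_of_injective _ M.subtype_injective).1 h)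
  have hN : ∀ g : M, g ∈ normalizer ((S₁ : Subgroup M) : Set M) ↔ (g : G) ∈ normalizer (S : Set G) := by
    intro g
    rw [← mem_subgroupOf, subgroupOf_normalizer_eq hS.le, hSdef, subgroupOf,
      comap_map_eq_self_of_injective M.subtype_injective]
  have hreg : ∀ g ∈ M, g ∉ normalizer (S : Set G) → ∀ g' ∈ M, g' ∉ normalizer (S : Set G) →
      ∃ s ∈ S, g'⁻¹ * s * g ∈ normalizer (S : Set G) := by
    intro g hg h1 g' hg' h2
    obtain ⟨s, hs, h4⟩ := hreg₀ ⟨g, hg⟩ (by rwa [hN]) ⟨g', hg'⟩ (by rwa [hN])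
    exact ⟨s, mem_map_of_mem _ hs, (hN _).1 h4⟩
  have hM0 : M ≠ ⊥ := fun h => hS1 (eq_bot_iff.2 (h ▸ hS.le))
  have htr : ∀ c d : Ω, a ≠ c → a ≠ d → ∃ g ∈ M, g • c = d := fun c d => trans_off h3 hM0 hMa hn
  have hne : ∀ g ∈ M, ∀ x : Ω, a ≠ x → a ≠ g • x := fun g hg x hx e =>
    hx (smul_left_cancel g ((hMa hg).trans e))
  have hΩ : 1 < Nat.card Ω := by
    have : Nontrivial Ω := ⟨a, b, hab⟩
    exact Finite.one_lt_card
  obtain ⟨b₀, hb₀, hfix⟩ := exists_fixed Nat.prime_two hS.isPGroup ({a}ᶜ : Set Ω)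
    (fun g hg x hx => (hne g (hS.le hg) x (Ne.symm hx)).symm) (by
      rw [Set.ncard_compl, Set.ncard_singleton]
      obtain ⟨k, hk⟩ := heven
      omega)
  replace hb₀ : a ≠ b₀ := Ne.symm hb₀
  have hall : ¬ ∀ x ∈ S, ∀ y : Ω, a ≠ y → x • y = y := fun h =>
    hS1 (eq_bot_iff.2 fun x hx => R.eq_one_of_forall (Ω := Ω) fun y => by
      by_cases hy : a = y
      · rw [← hy]; exact hMa (hS.le hx)
      · exact h x hx y hy)
  have h1 : ∀ k ∈ M, k • b₀ = b₀ → k ∈ normalizer (S : Set G) := by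
    intro k hk hkb
    by_contra hkN
    refine hall fun x hx y hy => ?_
    obtain ⟨g, hg, rfl⟩ := htr b₀ y hb₀ hy
    rw [← inv_smul_eq_iff, smul_smul, smul_smul]
    by_cases hgN : g⁻¹ ∈ normalizer (S : Set G)
    · simpa using hfix _ ((mem_normalizer_iff.1 hgN x).1 hx)
    · obtain ⟨s, hs, h2⟩ := hreg k hk hkN _ (inv_mem hg) hgN
      have h4 := hfix _ ((mem_normalizer_iff.1 (inv_mem h2) x).1 hx)
      have h5 : (s * k) • b₀ = b₀ := by rw [mul_smul, hkb, hfix s hs]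
      rw [show g⁻¹ * x * g = (s * k) * ((g⁻¹⁻¹ * s * k)⁻¹ * x * (g⁻¹⁻¹ * s * k)⁻¹⁻¹) * (s * k)⁻¹
        by group, mul_smul, inv_smul_eq_iff.2 h5.symm, mul_smul, h4, h5]
  have h2 : ∀ y : Ω, a ≠ y → (∀ x ∈ S, x • y = y) → b₀ = y := by
    intro y hy hyf
    by_contra hby
    refine hall fun x hx z hz => ?_
    by_cases hbz : b₀ = z
    · rw [← hbz]; exact hfix x hx
    obtain ⟨g, g1, g2, rfl⟩ := h3 a b₀ y a b₀ z hb₀ hy hby hb₀ hz hbz
    have h4 := hS.map_conj_of_mem_normalizer (g := g) (mem_normalizer_fintype (hn g g1))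
    have h5 := h4.le_of_normal hS.isPGroup hS.le fun k hk => h1 k (h4.le hk) (by
      have := hfix _ (mem_map_conj_iff.1 hk)
      rwa [mul_smul, g2, mul_smul, inv_smul_eq_iff, g2] at this)
    have := hyf _ (mem_map_conj_iff.1 (h5 hx))
    rwa [mul_smul, mul_smul, inv_smul_eq_iff] at this
  have h4 : ∀ k ∈ M, k ∈ normalizer (S : Set G) → k • b₀ = b₀ := fun k hk hkN =>
    (h2 _ (hne k hk _ hb₀) fun x hx => by
      rw [← inv_smul_eq_iff, smul_smul, smul_smul]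
      simpa using hfix _ ((mem_normalizer_iff.1 (inv_mem hkN) x).1 hx)).symm
  obtain ⟨r, hr, rfl⟩ := htr b₀ b hb₀ hab
  obtain ⟨g, hg, e1⟩ := htr b₀ (r⁻¹ • c) hb₀ (hne _ (inv_mem hr) c hac)
  obtain ⟨g', hg', e2⟩ := htr b₀ (r⁻¹ • d) hb₀ (hne _ (inv_mem hr) d had)
  obtain ⟨s, hs, h5⟩ := hreg g hg (fun h => hbc (by rw [← h4 g hg h, e1, smul_inv_smul])) g' hg'
    (fun h => hbd (by rw [← h4 g' hg' h, e2, smul_inv_smul]))
  have h6 := h4 _ (mul_mem (mul_mem (inv_mem hg') (hS.le hs)) hg) h5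
  rw [mul_smul, mul_smul, inv_smul_eq_iff, e1, e2] at h6
  exact ⟨r * s * r⁻¹, mul_mem (mul_mem hr (hS.le hs)) (inv_mem hr),
    by rw [mul_smul, inv_smul_smul, mul_smul, hfix s hs], by rw [mul_smul, mul_smul, h6, smul_inv_smul]⟩

/-- The main dichotomy for even degree. -/
theorem le1_or_psl (h3 : T3 G Ω) (hd : 3 ∣ Nat.card Ω) (hn : 3 < Nat.card Ω)
    (heven : Even (Nat.card Ω)) {H : Subgroup G} [hH : H.Normal] (hne : H ≠ ⊥) (a : Ω)
    (hS : ∀ (K : Type u) [Group K] [Finite K], IsSimpleGroup K → ¬ IsMulCommutative K →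
      Nat.card K ∣ Nat.card ↥(H ⊓ stabilizer G a) → Lie.IsoSuzuki K) :
    Le1 Ω H ∨ ∃ N : Subgroup G, N.Normal ∧ N ≤ H ∧ Le2 Ω N ∧
      ∃ (F : Type) (_ : Field F) (_ : Fintype F), Nat.card Ω = Nat.card F + 1 ∧
        Nonempty (N ≃* Matrix.ProjectiveSpecialLinearGroup (Fin 2) F) := by
  have h2 := two_trans h3 hd hn H hne
  have hfa : FaithfulSMul (stabilizer G a) (SubMulAction.ofStabilizer G a) := ⟨fun {g k} h =>
    Subtype.ext (hf.eq_of_smul_eq_smul fun x => by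
      by_cases hx : x = a
      · rw [hx, show (g : G) • a = a from g.2, show (k : G) • a = a from k.2]
      · exact congrArg Subtype.val (h ⟨x, hx⟩))⟩
  have h2a : IsMultiplyPretransitive (stabilizer G a) (SubMulAction.ofStabilizer G a) 2 := by
    rw [is_two_pretransitive_iff]
    intro b c d e h4 h5
    obtain ⟨g, g1, g2, g3⟩ := h3 a b c a d e (Ne.symm b.2) (Ne.symm c.2)
      (fun h => h4 (Subtype.ext h)) (Ne.symm d.2) (Ne.symm e.2) (fun h => h5 (Subtype.ext h))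
    exact ⟨⟨g, g1⟩, Subtype.ext g2, Subtype.ext g3⟩
  have h0 : H.subgroupOf (stabilizer G a) ≠ ⊥ := fun h0 => by
    obtain ⟨b, hab, -⟩ := exists_third (by omega) a a
    obtain ⟨c, hac, hbc⟩ := exists_third (by omega) a b
    obtain ⟨g, hg, e1, e2⟩ := h2 a b a c hab hac
    have : (⟨g, e1⟩ : stabilizer G a) ∈ H.subgroupOf (stabilizer G a) := hg
    rw [h0, mem_bot] at this
    rw [show g = 1 from congrArg Subtype.val this, one_smul] at e2
    exact hbc e2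
  obtain ⟨M, hMn, hM0, hMH, hmin⟩ := Grp.exists_minNormal_le _ h0
  have hM1 : M.map (stabilizer G a).subtype ≠ ⊥ := fun h =>
    hM0 ((map_eq_bot_iff_of_injective _ (subtype_injective _)).1 h)
  have hM2 : M.map (stabilizer G a).subtype ≤ H := by
    rintro _ ⟨x, hx, rfl⟩; exact hMH hx
  have hM3 : ∀ g : G, g • a = a → ∀ x ∈ M.map (stabilizer G a).subtype,
      g * x * g⁻¹ ∈ M.map (stabilizer G a).subtype := by
    rintro g hg _ ⟨x, hx, rfl⟩
    exact ⟨_, hMn.conj_mem x hx ⟨g, hg⟩, rfl⟩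
  by_cases hc : IsMulCommutative M
  · right
    have : Group.IsSolvable M := Group.isSolvable_of_comm fun x y => hc.is_comm.comm x y
    obtain ⟨-, p, hp, hpow⟩ := Grp.minNormal_elementaryAbelian M hM0 hmin
    refine AbSt.exists_psl (a := a) ⟨h3, hM1, map_subtype_le _, hM3, ?_⟩ hp ?_ heven hd hn hM2
      fun K _ _ k1 k2 k3 y hy => ?_
    · rintro _ ⟨x, hx, rfl⟩ _ ⟨y, hy, rfl⟩
      exact congrArg (fun z : M => ((z : stabilizer G a) : G)) (hc.is_comm.comm ⟨x, hx⟩ ⟨y, hy⟩)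
    · rintro _ ⟨x, hx, rfl⟩
      exact congrArg Subtype.val (hpow x hx)
    · obtain ⟨s, -, -, hs⟩ := Cust.isoSuzuki_inverted (hS K k1 k2 k3) hy
      exact ⟨s, hs⟩
  left
  have hs := (burnside h2a hM0 hmin).resolve_right fun ⟨p, _, h⟩ => hc h.1
  have e := M.equivMapOfInjective _ (subtype_injective (stabilizer G a))
  obtain ⟨F, i1, i2, m, hm, hF, ⟨f⟩⟩ := hS M hs hc (by
    rw [Nat.card_congr e.toEquiv]; exact card_dvd_of_le (le_inf hM2 (map_subtype_le _)))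
  intro x b c d h4 h5 h6 h7 h8
  obtain ⟨r, -, rfl⟩ := R.trans_of_normal (h3.mult (by omega)) hH hne a x
  have hne' : ∀ y z : Ω, r • y ≠ z → y ≠ r⁻¹ • z := fun y z h e => h (by rw [e, smul_inv_smul])
  have hne'' : ∀ y z : Ω, y ≠ z → r⁻¹ • y ≠ r⁻¹ • z := fun y z h e => h (smul_left_cancel _ e)
  obtain ⟨g, hg, e1, e2⟩ := two_of_sz h3 heven (map_subtype_le _) hM3
    ⟨F, i1, i2, m, hm, hF, ⟨e.symm.trans f⟩⟩ (hne' _ _ h4) (hne' _ _ h5) (hne'' _ _ h6)
    (hne' _ _ h7) (hne'' _ _ h8)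
  exact ⟨_, hH.conj_mem g (hM2 hg) r,
    by rw [mul_smul, inv_smul_smul, mul_smul, show g • a = a from map_subtype_le M hg],
    by rw [mul_smul, mul_smul, e1, smul_inv_smul], by rw [mul_smul, mul_smul, e2, smul_inv_smul]⟩

/-- Degree divisible by four and exactly two orbits: point stabilizers have odd order. -/
theorem odd_stab (h3 : T3 G Ω) (h4 : Nat.card Ω % 4 = 0) {H : Subgroup G} [hH : H.Normal]
    (h1 : ¬ Le1 Ω H) (h2 : Le2 Ω H) (a : Ω) : Odd (Nat.card ↥(H ⊓ stabilizer G a)) := by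
  have := Fact.mk Nat.prime_two
  rw [← Nat.not_even_iff_odd, even_iff_two_dvd]
  intro hd
  obtain ⟨j, hj⟩ := exists_prime_orderOf_dvd_card' 2 hd
  obtain ⟨x, hx⟩ := R.exists_moved (Ω := Ω) (g := (j : G)) fun h => by
    rw [show j = 1 from Subtype.ext h, orderOf_one] at hj; omega
  have hj2 : (j : G) • (j : G) • x = x := by
    rw [smul_smul, ← coe_mul, ← sq, ← hj, pow_orderOf_eq_one, coe_one, one_smul]
  have hja : (j : G) • a = a := j.2.2
  refine h1 (le1_of_swap h3 ?_ hx.symm (z := a) (fun e => hx (by rw [e, hja]))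
    (fun e => hx (by rw [smul_left_cancel (j : G) (e.trans hja.symm), hja])) j.2.1 rfl hj2 hja)
  unfold Le1 at h1
  push Not at h1
  obtain ⟨u, v, c, d, huv, huc, hvc, hud, hvd, hcd⟩ := h1
  have hsub : ∀ x : Ω, u ≠ x → v ≠ x → orbit (S2 H u v) x ⊆ {u, v}ᶜ := by
    rintro x h6 h7 _ ⟨g, rfl⟩ (e | e)
    · exact h6 (smul_left_cancel (g : G) (g.2.1.2.trans e.symm))
    · exact h7 (smul_left_cancel (g : G) (g.2.2.trans e.symm))
  have hdis : Disjoint (orbit (S2 H u v) c) (orbit (S2 H u v) d) := by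
    rw [Set.disjoint_left]
    rintro _ ⟨g, rfl⟩ ⟨k, e⟩
    exact hcd _ (k⁻¹ * g).2.1.1 (k⁻¹ * g).2.1.2 (k⁻¹ * g).2.2 (by
      change (k⁻¹ * g) • c = d
      rw [mul_smul, inv_smul_eq_iff]; exact e.symm)
  have hun : orbit (S2 H u v) c ∪ orbit (S2 H u v) d = {u, v}ᶜ := by
    refine Set.Subset.antisymm (Set.union_subset (hsub c huc hvc) (hsub d hud hvd)) fun e he => ?_
    obtain ⟨g, hg, g1, g2, g3 | g3 | g3⟩ := h2 u v c d e huv huc hvc hud hvd
      (fun h => he (Or.inl h.symm)) (fun h => he (Or.inr h.symm))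
    · exact absurd g3 (hcd g hg g1 g2)
    · exact Or.inl ⟨⟨g, mem_S2.2 ⟨hg, g1, g2⟩⟩, g3⟩
    · exact Or.inr ⟨⟨g, mem_S2.2 ⟨hg, g1, g2⟩⟩, g3⟩
  have h5 := Set.ncard_union_eq hdis
  rw [hun, ncard_compl_pair huv, Perm.Der.ncard_orbit_subgroup,
    Perm.Der.ncard_orbit_subgroup] at h5
  have key : ∀ x y z : Ω, x ≠ y → x ≠ z → y ≠ z →
      (stabilizer G z).relIndex (S2 H x y) = (stabilizer G c).relIndex (S2 H u v) := by
    intro x y z k1 k2 k3
    obtain ⟨g, rfl, rfl, rfl⟩ := h3 u v c x y z huv huc hvc k1 k2 k3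
    exact relIndex_S2_smul H g u v c
  intro x y z k1 k2 k3
  have hΩ : 1 < Nat.card Ω := by
    have : Nontrivial Ω := ⟨u, v, huv⟩
    exact Finite.one_lt_card
  rw [key u v d huv hud hvd] at h5
  rw [key x y z k1 k2 k3]
  omega

end Cfsg.Agent.TwoTr.Cam
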