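import Mathlib
import Cfsg.Agent.TwoTr.A45Base
import Cfsg.Agent.PLocal.AmbSyl

/-! Definitions for doubly transitive groups whose two-point stabilizer is a simple group with
abelian Sylow 2-subgroups (statement S3400). -/

set_option autoImplicit false

namespace Cfsg.Agent.TwoTr.Sa

open Subgroup MulAction Cfsg.Agent.PLocal.Amb

section Grp

variable {G : Type*} [Group G]

/-- `u` is an involution -/
def Iv (u : G) : Prop := u * u = 1 ∧ u ≠ 1

/-- the centralizer of `t` in `H` -/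
abbrev Cn (H : Subgroup G) (t : G) : Subgroup G := H ⊓ centralizer ({t} : Set G)

/-- facts shared by all simple groups with abelian Sylow 2-subgroups -/
structure HB (H : Subgroup G) : Prop where
  simple : IsSimpleGroup H
  nonab : ¬ IsMulCommutative H
  comm : ∀ P ≤ H, IsPGroup 2 P → ∀ x ∈ P, ∀ y ∈ P, x * y = y * x
  sq : ∀ y ∈ H, ∀ r : ℕ, y ^ 2 ^ r = 1 → y * y = 1
  one : ∀ u ∈ H, ∀ v ∈ H, Iv u → Iv v → ∃ d ∈ H, d * u * d⁻¹ = v
  ex : ∃ t ∈ H, Iv t
  four : ∀ t ∈ H, Iv t → ∃ v ∈ H, Iv v ∧ v * t = t * v ∧ v ≠ t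
  gen : ∀ t ∈ H, Iv t → ∀ K : Subgroup G, (∀ u ∈ H, Iv u → u * t = t * u → u ∈ K) → Cn H t ≤ K

/-- type `L₂(2^m)` -/
structure TA (H : Subgroup G) (q : ℕ) : Prop where
  pow : ∃ m, 2 ≤ m ∧ q = 2 ^ m
  el : ∀ g ∈ H, g * g = 1 ∨ Odd (orderOf g)
  card : Nat.card H = q * (q ^ 2 - 1)

/-- type `L₂(q)`, `q ≡ ±3 (mod 8)` -/
structure TB (H : Subgroup G) (q : ℕ) : Prop where
  gt : 3 < q
  mod : q % 8 = 3 ∨ q % 8 = 5
  iso : ∃ (F : Type) (_ : Field F) (_ : Fintype F), Fintype.card F = q ∧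
    Nonempty (H ≃* Matrix.ProjectiveSpecialLinearGroup (Fin 2) F)

/-- Janko–Ree type -/
structure TC (H : Subgroup G) (q : ℕ) : Prop where
  dp : ∀ t ∈ H, Iv t → ∃ E ≤ H, TB E q ∧ t ∉ E ∧ (∀ y ∈ E, y * t = t * y) ∧
    ∀ y ∈ H, y * t = t * y → y ∈ E ∨ y * t ∈ E
  card : (∃ k, 1 ≤ k ∧ q = 3 ^ (2 * k + 1) ∧ Nat.card H = q ^ 3 * (q ^ 3 + 1) * (q - 1)) ∨
    (q = 5 ∧ Nat.card H = 175560)

/-- `C_H(t) = ⟨g, v⟩` is dihedral of order `2 m`, `m ≡ 2 (mod 4)` -/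
structure Tor (H : Subgroup G) (t g v : G) (m : ℕ) : Prop where
  tH : t ∈ H
  t2 : Iv t
  gH : g ∈ H
  ord : orderOf g = m
  mod : m % 4 = 2
  tT : t ∈ zpowers g
  vH : v ∈ H
  v2 : Iv v
  vT : v ∉ zpowers g
  vt : v * t = t * v
  split : ∀ x ∈ H, x * t = t * x → x ∈ zpowers g ∨ x * v ∈ zpowers g
  inv : ∀ x ∈ H, x * t = t * x → x ∉ zpowers g → x * x = 1 ∧ ∀ y ∈ zpowers g, x * y * x⁻¹ = y⁻¹

end Grp

section Perm

/-- the stabilizer of two points -/
abbrev Hs (G : Type*) {Ω : Type*} [Group G] [MulAction G Ω] (c d : Ω) : Subgroup G :=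
  stabilizer G c ⊓ stabilizer G d

/-- `u` is an involution fixing at least two points -/
def Tt {G : Type*} (Ω : Type*) [Group G] [MulAction G Ω] (u : G) : Prop :=
  Iv u ∧ ∃ c d : Ω, c ≠ d ∧ u • c = c ∧ u • d = d

/-- `j` interchanges `c` and `d` and centralizes their stabilizer -/
structure Jr {G Ω : Type*} [Group G] [MulAction G Ω] (c d : Ω) (j : G) : Prop where
  sa : j • c = d
  sb : j • d = c
  comm : ∀ y : G, y • c = c → y • d = d → y * j = j * y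

/-- the standing hypothesis -/
structure St (G Ω : Type*) [Group G] [MulAction G Ω] : Prop where
  h2 : IsMultiplyPretransitive G Ω 2
  hb : ∀ c d : Ω, c ≠ d → HB (Hs G c d)

/-- case I: the stabilizer of a pair is a direct product -/
def CI (G Ω : Type*) [Group G] [MulAction G Ω] : Prop := ∀ c d : Ω, c ≠ d → ∃ j : G, Jr c d j

/-- case II: no element interchanging two points centralizes a Sylow 2-subgroup of their
stabilizer -/
def CII (G Ω : Type*) [Group G] [MulAction G Ω] : Prop :=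
  ∀ c d : Ω, c ≠ d → ∀ S : Subgroup G, IsSyl 2 S (Hs G c d) → ∀ x : G, x • c = d → x • d = c →
    ¬ ∀ y ∈ S, y * x = x * y

end Perm

end Cfsg.Agent.TwoTr.Sa
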